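import Cfsg.Agent.AltType.Lin
import Cfsg.Prelude.Def_TwoFusion
import Cfsg.Agent.S0215
import Cfsg.Agent.S1180

/-!
Some non-central involution of `Q` is conjugate to `z`.
-/

set_option autoImplicit false
set_option maxRecDepth 100000

namespace Cfsg.Agent.AltType

variable {G : Type*} [Group G] {z a b c d r s : G}

/-- conjugacy, `y = g⁻¹ x g` -/
def Fus (x y : G) : Prop := ∃ g : G, x * g = g * y

theorem Fus.refl (x : G) : Fus x x := ⟨1, by rw [mul_one, one_mul]⟩

theorem Fus.symm {x y : G} (h : Fus x y) : Fus y x := by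
  obtain ⟨g, hg⟩ := h
  refine ⟨g⁻¹, ?_⟩
  rw [eq_inv_mul_iff_mul_eq, ← mul_assoc, ← hg, mul_inv_cancel_right]

theorem Fus.trans {x y w : G} (h : Fus x y) (h' : Fus y w) : Fus x w := by
  obtain ⟨g, hg⟩ := h
  obtain ⟨k, hk⟩ := h'
  exact ⟨g * k, by rw [← mul_assoc, hg, mul_assoc, hk, mul_assoc]⟩

theorem Fus.iff {x y w : G} (h : Fus x y) : Fus w x ↔ Fus w y :=
  ⟨fun h' => h'.trans h, fun h' => h'.trans h.symm⟩

/-- A finite non-abelian simple group has no isolated involution (by the `Z*`-theorem); copy of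
`J2Type.SimpleRed.not_isolated`. -/
theorem not_isolated [Finite G] [IsSimpleGroup G] (t : G) (hiso : Cfsg.IsIsolatedInvolution t)
    (hnc : ∃ a b : G, a * b ≠ b * a) : False := by
  have : Fact (Nat.Prime 2) := ⟨Nat.prime_two⟩
  have hp : IsPGroup 2 (Subgroup.zpowers t) := by
    apply IsPGroup.of_card (n := 1)
    rw [Nat.card_zpowers, hiso.1, pow_one]
  obtain ⟨P, hP⟩ := hp.exists_le_sylow
  have htP : t ∈ P := hP (Subgroup.mem_zpowers t)
  obtain ⟨N, hN, hodd, hcomm⟩ := Cfsg.Agent.S0215.result P t hiso.1 htP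
    (fun g hg => Cfsg.Agent.S1180.eq_of_conj_mem_isPGroup t hiso (P : Subgroup G) P.2 htP g hg)
  rcases hN.eq_bot_or_eq_top with h | h
  · have hcen : ∀ g : G, t * g = g * t := by
      intro g
      have := hcomm g
      rw [h, Subgroup.mem_bot] at this
      have h1 : t * g * t⁻¹ = g := by
        have := mul_inv_eq_one.mp this
        exact this
      rw [mul_inv_eq_iff_eq_mul] at h1
      exact h1
    have htc : t ∈ Subgroup.center G := by
      rw [Subgroup.mem_center_iff]; intro g; exact (hcen g).symm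
    rcases (inferInstance : (Subgroup.center G).Normal).eq_bot_or_eq_top with hc | hc
    · rw [hc, Subgroup.mem_bot] at htc
      have := hiso.1
      rw [htc, orderOf_one] at this
      omega
    · obtain ⟨a, b, hab⟩ := hnc
      apply hab
      have : b ∈ Subgroup.center G := by rw [hc]; trivial
      exact (Subgroup.mem_center_iff.mp this a)
  · rw [h, Subgroup.card_top] at hodd
    have h2 : 2 ∣ Nat.card G := by
      rw [← hiso.1]; exact orderOf_dvd_natCard t
    exact (Nat.not_even_iff_odd.mpr hodd) (even_iff_two_dvd.mpr h2)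

/-- the Z*-theorem: `z` is conjugate to another element of its centraliser -/
theorem exists_fused [Finite G] [IsSimpleGroup G] (hc : ¬ IsMulCommutative G) {z : G} (hz : z * z = 1) (h1 : z ≠ 1) :
    ∃ x, x * z = z * x ∧ x ≠ z ∧ Fus z x := by
  by_contra hcon
  push Not at hcon
  refine not_isolated z ⟨?_, ?_⟩ ?_
  · exact orderOf_eq_prime (by rw [pow_two, hz]) h1
  · intro g hg
    by_contra hne
    refine hcon (g * z * g⁻¹) hg.eq.symm hne ⟨g⁻¹, ?_⟩
    group
  · by_contra hcom
    push Not at hcom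
    exact hc ⟨⟨hcom⟩⟩

theorem fus_mul_self {x y : G} (h : Fus x y) (hx : x * x = 1) : y * y = 1 := by
  obtain ⟨g, hg⟩ := h
  have h1 : y = g⁻¹ * x * g := by rw [mul_assoc, hg, inv_mul_cancel_left]
  rw [h1]
  calc g⁻¹ * x * g * (g⁻¹ * x * g) = g⁻¹ * (x * x) * g := by group
    _ = 1 := by rw [hx]; group

theorem fus_ne_one {x y : G} (h : Fus x y) (hx : x ≠ 1) : y ≠ 1 := by
  rintro rfl
  obtain ⟨g, hg⟩ := h
  apply hx
  rw [mul_one] at hg
  exact mul_eq_right.mp hg

/-- class of `x` in the centraliser of `z` for a conjugate of `z` -/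
theorem F1.fus_cases (h : F1 z a b c d r s) {x : G} (hx : x * z = z * x) (hxz : x ≠ z) (hf : Fus z x) :
    ∃ y, y * z = z * y ∧ (x * y = y * a ∨ x * y = y * b ∨ x * y = y * (z * (a * b)) ∨ x * y = y * s ∨
      x * y = y * (z * s)) := by
  rcases h.invol hx (fus_mul_self hf h.zz) with h1 | h1 | h1
  · exact absurd h1 (fus_ne_one hf h.z_ne_one)
  · exact absurd h1 hxz
  · exact h1

section fusE

variable (h : Rel z a b c d r s)
include h

theorem Rel.fus_app {n : G} {A : Mat} (hA : Act z a b s n A) {v : ℕ} (hv : v < 16) :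
    Fus (eG z a b s v) (eG z a b s (app A v)) := ⟨n, (h.act_app hA hv).1⟩

theorem Rel.fus_c {v : ℕ} (hv : v < 16) : Fus (eG z a b s v) (eG z a b s (app ⟨1, 2, 5, 10⟩ v)) :=
  h.fus_app h.act_c hv

theorem Rel.fus_d {v : ℕ} (hv : v < 16) : Fus (eG z a b s v) (eG z a b s (app ⟨1, 3, 4, 12⟩ v)) :=
  h.fus_app h.act_d hv

end fusE

/-- `D`-indicator in the first case -/
def inD1 (v : ℕ) : Bool := decide (v = 1) || decide (8 ≤ v)
def inD2 (v : ℕ) : Bool := decide (v = 1) || decide (v = 8) || decide (v = 10) || decide (v = 12) || decide (v = 15)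

theorem check1 : ∀ A1 < 16, ∀ A2 < 16, ∀ A3 ∈ [1, 9], ¬ (∀ v < 16, inD1 v = inD1 (app ⟨8, A1, A2, A3⟩ v)) := by
  decide +kernel

set_option synthInstance.maxSize 1024 in
set_option synthInstance.maxHeartbeats 200000 in
theorem check2 : ∀ A1 < 16, ∀ A2 < 16, (∀ v < 16, inD2 v = inD2 (app ⟨8, A1, A2, 1⟩ v)) →
    (A1, A2) ∈ [(11, 13), (11, 14), (13, 11), (13, 14), (14, 11), (14, 13)] := by
  decide +kernel

theorem F1.caseI_key (h : F1 z a b c d r s) (ha : ¬ Fus z a) (hb : ¬ Fus z b) (hu : ¬ Fus z (z * (a * b)))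
    (hs : Fus z s) : False := by
  classical
  obtain ⟨g, hg⟩ := hs
  have hzz := h.zz
  have hxf : Fus z (g * z * g⁻¹) := ⟨g⁻¹, by group⟩
  have hz' : z = g * s * g⁻¹ := by rw [← hg]; group
  have hxc : g * z * g⁻¹ * z = z * (g * z * g⁻¹) := by
    calc g * z * g⁻¹ * z = g * z * g⁻¹ * (g * s * g⁻¹) := by rw [← hz']
      _ = g * (z * s) * g⁻¹ := by group
      _ = g * (s * z) * g⁻¹ := by rw [h.sz]
      _ = (g * s * g⁻¹) * (g * z * g⁻¹) := by group
      _ = z * (g * z * g⁻¹) := by rw [← hz']
  have hsz : s ≠ z := fun e => by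
    have := h.eG_inj (v := 8) (w := 1) (by norm_num) (by norm_num) e
    norm_num at this
  have hxz : g * z * g⁻¹ ≠ z := by
    intro e
    apply hsz
    have h1 : g * z = z * g := by
      rw [mul_inv_eq_iff_eq_mul] at e; exact e
    rw [hg] at h1
    exact (mul_left_cancel h1).symm
  obtain ⟨y, hy, hyw⟩ := h.fus_cases hxc hxz hxf
  -- the element `n`
  have key : ∀ w, g * z * g⁻¹ * y = y * w → z * (y⁻¹ * g) = (y⁻¹ * g) * s ∧ w * (y⁻¹ * g) = (y⁻¹ * g) * z := by
    intro w hw
    have hy' : z * y⁻¹ = y⁻¹ * z := by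
      rw [eq_inv_mul_iff_mul_eq, ← mul_assoc, hy, mul_inv_cancel_right]
    constructor
    · rw [← mul_assoc, hy', mul_assoc, hg, mul_assoc]
    · have h1 : w = y⁻¹ * (g * z * g⁻¹) * y := by rw [mul_assoc, hw, inv_mul_cancel_left]
      rw [h1]; group
  have hfin : ∀ w, (w = s ∨ w = z * s) → g * z * g⁻¹ * y = y * w → False := by
    intro w hw hyw
    obtain ⟨hn1, hn2⟩ := key w hyw
    set n := y⁻¹ * g with hn
    -- images of `a`, `b`
    have img : ∀ v : G, v * z = z * v → v * s = s * v → ∃ A < 16, v * n = n * eG z a b s A := by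
      intro v hvz hvs
      have hvw : v * w = w * v := by
        rcases hw with rfl | rfl
        · exact hvs
        · rw [← mul_assoc, hvz, mul_assoc, hvs, mul_assoc]
      have h1 : s = n⁻¹ * z * n := by rw [mul_assoc, hn1, inv_mul_cancel_left]
      have h2 : z = n⁻¹ * w * n := by rw [mul_assoc, hn2, inv_mul_cancel_left]
      have h3 : (n⁻¹ * v * n) * z = z * (n⁻¹ * v * n) := by
        calc (n⁻¹ * v * n) * z = (n⁻¹ * v * n) * (n⁻¹ * w * n) := by rw [← h2]
          _ = n⁻¹ * (v * w) * n := by group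
          _ = n⁻¹ * (w * v) * n := by rw [hvw]
          _ = (n⁻¹ * w * n) * (n⁻¹ * v * n) := by group
          _ = z * (n⁻¹ * v * n) := by rw [← h2]
      have h4 : (n⁻¹ * v * n) * s = s * (n⁻¹ * v * n) := by
        calc (n⁻¹ * v * n) * s = (n⁻¹ * v * n) * (n⁻¹ * z * n) := by rw [← h1]
          _ = n⁻¹ * (v * z) * n := by group
          _ = n⁻¹ * (z * v) * n := by rw [hvz]
          _ = (n⁻¹ * z * n) * (n⁻¹ * v * n) := by group
          _ = s * (n⁻¹ * v * n) := by rw [← h1]
      obtain ⟨A, hA, h5⟩ := h.cent_s h3 h4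
      exact ⟨A, hA, by rw [← h5]; group⟩
    obtain ⟨A1, hA1, e1⟩ := img a h.az h.as
    obtain ⟨A2, hA2, e2⟩ := img b h.bz h.bs
    have hA3 : ∃ A3, (A3 = 1 ∧ w = s ∨ A3 = 9 ∧ w = z * s) ∧ s * n = n * eG z a b s A3 := by
      rcases hw with rfl | rfl
      · exact ⟨1, Or.inl ⟨rfl, rfl⟩, hn2⟩
      · refine ⟨9, Or.inr ⟨rfl, rfl⟩, ?_⟩
        show s * n = n * (z * s)
        have h1 : s * n = z * (z * s * n) := by
          calc s * n = (z * z) * (s * n) := by rw [hzz, one_mul]
            _ = z * (z * s * n) := by simp only [mul_assoc]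
        rw [h1, hn2, ← mul_assoc, hn1, mul_assoc, h.sz]
    obtain ⟨A3, hA3, e3⟩ := hA3
    have hact : Act z a b s n ⟨8, A1, A2, A3⟩ := ⟨by norm_num, hA1, hA2, by
      rcases hA3 with ⟨rfl, -⟩ | ⟨rfl, -⟩ <;> norm_num, hn1, e1, e2, e3⟩
    -- the classes in `E`
    have hD : ∀ v < 16, (Fus z (eG z a b s v) ↔ Fus z (eG z a b s (app ⟨8, A1, A2, A3⟩ v))) :=
      fun v hv => (h.fus_app hact hv).iff
    have hd3 : Fus a (z * a) := h.fus_d (v := 2) (by norm_num)
    have hd5 : Fus b (z * b) := h.fus_c (v := 4) (by norm_num)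
    have hd6 : Fus (z * (a * b)) (a * b) := h.fus_c (v := 7) (by norm_num)
    have hd10 : Fus s (a * s) := h.fus_c (v := 8) (by norm_num)
    have hd12 : Fus s (b * s) := h.fus_d (v := 8) (by norm_num)
    have hd15 : Fus (a * s) (z * (a * (b * s))) := h.fus_d (v := 10) (by norm_num)
    have hd11 : Fus (z * s) (z * (a * s)) := h.fus_c (v := 9) (by norm_num)
    have hd13 : Fus (z * s) (z * (b * s)) := h.fus_d (v := 9) (by norm_num)
    have hd14 : Fus (z * (a * s)) (a * (b * s)) := h.fus_d (v := 11) (by norm_num)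
    have hfs : Fus z s := ⟨g, hg⟩
    have n0 : ¬ Fus z (eG z a b s 0) := fun e => fus_ne_one e h.z_ne_one rfl
    have y1 : Fus z (eG z a b s 1) := Fus.refl z
    have n2 : ¬ Fus z (eG z a b s 2) := ha
    have n3 : ¬ Fus z (eG z a b s 3) := fun e => ha (e.trans hd3.symm)
    have n4 : ¬ Fus z (eG z a b s 4) := hb
    have n5 : ¬ Fus z (eG z a b s 5) := fun e => hb (e.trans hd5.symm)
    have n6 : ¬ Fus z (eG z a b s 6) := fun e => hu (e.trans hd6.symm)
    have n7 : ¬ Fus z (eG z a b s 7) := hu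
    have y8 : Fus z (eG z a b s 8) := hfs
    have y10 : Fus z (eG z a b s 10) := hfs.trans hd10
    have y12 : Fus z (eG z a b s 12) := hfs.trans hd12
    have y15 : Fus z (eG z a b s 15) := (hfs.trans hd10).trans hd15
    by_cases h9 : Fus z (z * s)
    · have hin : ∀ v < 16, (Fus z (eG z a b s v) ↔ inD1 v = true) := by
        have y9 : Fus z (eG z a b s 9) := h9
        have y11 : Fus z (eG z a b s 11) := h9.trans hd11
        have y13 : Fus z (eG z a b s 13) := h9.trans hd13
        have y14 : Fus z (eG z a b s 14) := (h9.trans hd11).trans hd14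
        intro v hv
        interval_cases v
        · exact ⟨fun e => absurd e n0, fun e => absurd e (by decide)⟩
        · exact ⟨fun _ => by decide, fun _ => y1⟩
        · exact ⟨fun e => absurd e n2, fun e => absurd e (by decide)⟩
        · exact ⟨fun e => absurd e n3, fun e => absurd e (by decide)⟩
        · exact ⟨fun e => absurd e n4, fun e => absurd e (by decide)⟩
        · exact ⟨fun e => absurd e n5, fun e => absurd e (by decide)⟩
        · exact ⟨fun e => absurd e n6, fun e => absurd e (by decide)⟩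
        · exact ⟨fun e => absurd e n7, fun e => absurd e (by decide)⟩
        · exact ⟨fun _ => by decide, fun _ => y8⟩
        · exact ⟨fun _ => by decide, fun _ => y9⟩
        · exact ⟨fun _ => by decide, fun _ => y10⟩
        · exact ⟨fun _ => by decide, fun _ => y11⟩
        · exact ⟨fun _ => by decide, fun _ => y12⟩
        · exact ⟨fun _ => by decide, fun _ => y13⟩
        · exact ⟨fun _ => by decide, fun _ => y14⟩
        · exact ⟨fun _ => by decide, fun _ => y15⟩
      refine check1 A1 hA1 A2 hA2 A3 ?_ ?_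
      · rcases hA3 with ⟨rfl, -⟩ | ⟨rfl, -⟩ <;> decide
      · intro v hv
        have h1 := hD v hv
        rw [hin v hv, hin _ (h.act_app hact hv).2] at h1
        exact Bool.eq_iff_iff.mpr h1
    · have hA3' : A3 = 1 := by
        rcases hA3 with ⟨rfl, -⟩ | ⟨-, rfl⟩
        · rfl
        · exfalso
          apply h9
          exact Fus.symm ⟨n, hn2⟩
      subst hA3'
      have hin : ∀ v < 16, (Fus z (eG z a b s v) ↔ inD2 v = true) := by
        have n9 : ¬ Fus z (eG z a b s 9) := h9
        have n11 : ¬ Fus z (eG z a b s 11) := fun e => h9 (e.trans hd11.symm)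
        have n13 : ¬ Fus z (eG z a b s 13) := fun e => h9 (e.trans hd13.symm)
        have n14 : ¬ Fus z (eG z a b s 14) := fun e => h9 ((e.trans hd14.symm).trans hd11.symm)
        intro v hv
        interval_cases v
        · exact ⟨fun e => absurd e n0, fun e => absurd e (by decide)⟩
        · exact ⟨fun _ => by decide, fun _ => y1⟩
        · exact ⟨fun e => absurd e n2, fun e => absurd e (by decide)⟩
        · exact ⟨fun e => absurd e n3, fun e => absurd e (by decide)⟩
        · exact ⟨fun e => absurd e n4, fun e => absurd e (by decide)⟩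
        · exact ⟨fun e => absurd e n5, fun e => absurd e (by decide)⟩
        · exact ⟨fun e => absurd e n6, fun e => absurd e (by decide)⟩
        · exact ⟨fun e => absurd e n7, fun e => absurd e (by decide)⟩
        · exact ⟨fun _ => by decide, fun _ => y8⟩
        · exact ⟨fun e => absurd e n9, fun e => absurd e (by decide)⟩
        · exact ⟨fun _ => by decide, fun _ => y10⟩
        · exact ⟨fun e => absurd e n11, fun e => absurd e (by decide)⟩
        · exact ⟨fun _ => by decide, fun _ => y12⟩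
        · exact ⟨fun e => absurd e n13, fun e => absurd e (by decide)⟩
        · exact ⟨fun e => absurd e n14, fun e => absurd e (by decide)⟩
        · exact ⟨fun _ => by decide, fun _ => y15⟩
      have hmem := check2 A1 hA1 A2 hA2 (by
        intro v hv
        have h1 := hD v hv
        rw [hin v hv, hin _ (h.act_app hact hv).2] at h1
        exact Bool.eq_iff_iff.mpr h1)
      have hcc := h.act_c
      have hdd := h.act_d
      have hcd := h.act_mul hcc hdd
      simp only [List.mem_cons, List.not_mem_nil, or_false, Prod.mk.injEq] at hmem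
      rcases hmem with ⟨rfl, rfl⟩ | ⟨rfl, rfl⟩ | ⟨rfl, rfl⟩ | ⟨rfl, rfl⟩ | ⟨rfl, rfl⟩ | ⟨rfl, rfl⟩
      · exact absurd (h.four (h.act_mul (h.act_mul (h.act_mul (h.act_mul hact hcc) hact) hcc) hact) (by decide)) (by decide)
      · exact absurd (h.four (h.act_mul (h.act_mul (h.act_mul (h.act_mul hact hcd) hact) hdd) hact) (by decide)) (by decide)
      · exact absurd (h.four (h.act_mul (h.act_mul (h.act_mul (h.act_mul hact hcc) hact) hdd) hact) (by decide)) (by decide)
      · exact absurd (h.four (h.act_mul hact hact) (by decide)) (by decide)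
      · exact absurd (h.four (h.act_mul hact hact) (by decide)) (by decide)
      · exact absurd (h.four (h.act_mul (h.act_mul (h.act_mul (h.act_mul hact hcd) hact) hcc) hact) (by decide)) (by decide)
  rcases hyw with e | e | e | e | e
  · exact ha (hxf.trans ⟨y, e⟩)
  · exact hb (hxf.trans ⟨y, e⟩)
  · exact hu (hxf.trans ⟨y, e⟩)
  · exact hfin s (Or.inl rfl) e
  · exact hfin (z * s) (Or.inr rfl) e

/-- some non-central involution of `Q` is conjugate to `z` -/
theorem F1.caseI [Finite G] [IsSimpleGroup G] (hc : ¬ IsMulCommutative G) (h : F1 z a b c d r s) :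
    Fus z a ∨ Fus z b ∨ Fus z (z * (a * b)) := by
  by_contra hcon
  push Not at hcon
  obtain ⟨ha, hb, hu⟩ := hcon
  obtain ⟨x, hx, hxz, hf⟩ := exists_fused hc h.zz h.z_ne_one
  obtain ⟨y, hy, hyw⟩ := h.fus_cases hx hxz hf
  rcases hyw with e | e | e | e | e
  · exact ha (hf.trans ⟨y, e⟩)
  · exact hb (hf.trans ⟨y, e⟩)
  · exact hu (hf.trans ⟨y, e⟩)
  · exact h.caseI_key ha hb hu (hf.trans ⟨y, e⟩)
  · refine h.twist.caseI_key ha hb hu ?_
    rw [h.sz]
    exact hf.trans ⟨y, e⟩

end Cfsg.Agent.AltType
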