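import Cfsg.Agent.AltType.Facts

/-!
Facts about the centraliser of `z`, at the level of the group.
-/

set_option autoImplicit false
set_option maxRecDepth 100000
set_option linter.unusedSectionVars false

namespace Cfsg.Agent.AltType

open Cfsg.Agent.SporadicRecognition.CosetCert Cfsg.Agent.SporadicRecognition.CosetCertHyp
  Cfsg.Agent.SporadicRecognition.CosetChain

variable {G : Type*} [Group G] {z a b c d r s : G}

/-- the elements of `E`: bits `z, a, b, s` -/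
def eG (z a b s : G) : ℕ → G
  | 0 => 1
  | 1 => z
  | 2 => a
  | 3 => z * a
  | 4 => b
  | 5 => z * b
  | 6 => a * b
  | 7 => z * (a * b)
  | 8 => s
  | 9 => z * s
  | 10 => a * s
  | 11 => z * (a * s)
  | 12 => b * s
  | 13 => z * (b * s)
  | 14 => a * (b * s)
  | _ => z * (a * (b * s))

/-- the elements of `A₁`: bits `z, a, c` -/
def fG (z a c : G) : ℕ → G
  | 0 => 1
  | 1 => z
  | 2 => a
  | 3 => z * a
  | 4 => c
  | 5 => z * c
  | 6 => a * c
  | _ => z * (a * c)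

theorem ev_wE (v : ℕ) (hv : v < 16) : ev (lt z a b c d r s) (wE v) = eG z a b s v := by
  interval_cases v <;> simp only [wE, ev_cons, ev_nil, lt, mul_one, eG]

theorem ev_wF (v : ℕ) (hv : v < 8) : ev (lt z a b c d r s) (wF v) = fG z a c v := by
  interval_cases v <;> simp only [wF, ev_cons, ev_nil, lt, mul_one, fG]

theorem evN_append (v w : List ℕ) (hv : ∀ y ∈ v, y < 8) (hw : ∀ y ∈ w, y < 8) :
    evN (v ++ w) = mulN (evN v) (evN w) := by
  rw [← enc_ev (v ++ w) (by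
    intro y hy
    rcases List.mem_append.mp hy with h | h
    · exact hv y h
    · exact hw y h), ev_append, enc_mul, enc_ev v hv, enc_ev w hw]

theorem Rel.eG_mul (h : Rel z a b c d r s) {v w : ℕ} (hv : v < 16) (hw : w < 16) :
    eG z a b s v * eG z a b s w = eG z a b s (v ^^^ w) := by
  obtain ⟨h1, h2⟩ := code_xor v hv w hw
  have h3 := h.word (wE v ++ wE w) (wE (v ^^^ w)) (by
    rw [List.all_eq_true]
    intro y hy
    rcases List.mem_append.mp hy with hy | hy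
    · rcases List.mem_append.mp hy with hy | hy
      · exact Nat.ble_eq_true_of_le (wE_lt v hv y hy)
      · exact Nat.ble_eq_true_of_le (wE_lt w hw y hy)
    · exact Nat.ble_eq_true_of_le (wE_lt _ h2 y hy)) (by
    rw [evN_append _ _ (wE_lt v hv) (wE_lt w hw), cE_eq v hv, cE_eq w hw, cE_eq _ h2, h1])
  rwa [ev_append, ev_wE v hv, ev_wE w hw, ev_wE _ h2] at h3

theorem Rel.fG_mul (h : Rel z a b c d r s) {v w : ℕ} (hv : v < 8) (hw : w < 8) :
    fG z a c v * fG z a c w = fG z a c (v ^^^ w) := by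
  obtain ⟨h1, h2⟩ := code_F_xor v hv w hw
  have h3 := h.word (wF v ++ wF w) (wF (v ^^^ w)) (by
    rw [List.all_eq_true]
    intro y hy
    rcases List.mem_append.mp hy with hy | hy
    · rcases List.mem_append.mp hy with hy | hy
      · exact Nat.ble_eq_true_of_le (wF_lt v hv y hy)
      · exact Nat.ble_eq_true_of_le (wF_lt w hw y hy)
    · exact Nat.ble_eq_true_of_le (wF_lt _ h2 y hy)) (by
    rw [evN_append _ _ (wF_lt v hv) (wF_lt w hw), cF_eq v hv, cF_eq w hw, cF_eq _ h2, h1])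
  rwa [ev_append, ev_wF v hv, ev_wF w hw, ev_wF _ h2] at h3

namespace Tab

variable {t : ℕ → G} (T : Tab z a b c d r s t)
include T

theorem ev (w : List ℕ) (hw : ∀ y ∈ w, y < 8) :
    evN w ∈ Lc ∧ t (evN w) = Cfsg.Agent.SporadicRecognition.CosetCert.ev (lt z a b c d r s) w := by
  induction w with
  | nil => exact ⟨Lc_one, T.one⟩
  | cons x w ih =>
    obtain ⟨h1, h2⟩ := ih (fun y hy => hw y (by simp [hy]))
    have hx := hw x (by simp)
    obtain ⟨h3, h4⟩ := T.mul (cl x) (cl_mem x hx) (evN w) h1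
    refine ⟨h3, ?_⟩
    rw [ev_cons, ← h2, ← T.let' x hx, h4]
    rfl

theorem e {v : ℕ} (hv : v < 16) : cE v ∈ Lc ∧ t (cE v) = eG z a b s v := by
  obtain ⟨h1, h2⟩ := T.ev (wE v) (wE_lt v hv)
  rw [cE_eq v hv] at h1 h2
  exact ⟨h1, by rw [h2, ev_wE v hv]⟩

theorem f {v : ℕ} (hv : v < 8) : cF v ∈ Lc ∧ t (cF v) = fG z a c v := by
  obtain ⟨h1, h2⟩ := T.ev (wF v) (wF_lt v hv)
  rw [cF_eq v hv] at h1 h2
  exact ⟨h1, by rw [h2, ev_wF v hv]⟩

theorem mul_eq {n m k l : ℕ} (hn : n ∈ Lc) (hm : m ∈ Lc) (hk : k ∈ Lc) (hl : l ∈ Lc) :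
    t n * t m = t k * t l ↔ mulN n m = mulN k l := by
  obtain ⟨h1, h2⟩ := T.mul n hn m hm
  obtain ⟨h3, h4⟩ := T.mul k hk l hl
  rw [h2, h4]
  exact ⟨T.inj _ h1 _ h3, fun h => by rw [h]⟩

theorem mul_eq3 {n m j k l : ℕ} (hn : n ∈ Lc) (hm : m ∈ Lc) (hj : j ∈ Lc) (hk : k ∈ Lc) (hl : l ∈ Lc) :
    t n * t m = t j * (t k * t l) ↔ mulN n m = mulN j (mulN k l) := by
  obtain ⟨h1, h2⟩ := T.mul k hk l hl
  rw [h2]
  exact T.mul_eq hn hm hj h1

theorem mul_one' {n m : ℕ} (hn : n ∈ Lc) (hm : m ∈ Lc) : t n * t m = 1 ↔ mulN n m = 16434824 := by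
  obtain ⟨h1, h2⟩ := T.mul n hn m hm
  rw [h2, ← T.one]
  exact ⟨T.inj _ h1 _ Lc_one, fun h => by rw [h]⟩

theorem tz : 14570689 ∈ Lc ∧ t 14570689 = z := T.e (v := 1) (by norm_num)
theorem ta : 11788826 ∈ Lc ∧ t 11788826 = a := T.e (v := 2) (by norm_num)
theorem tb : 11788371 ∈ Lc ∧ t 11788371 = b := T.e (v := 4) (by norm_num)
theorem tu : 14571144 ∈ Lc ∧ t 14571144 = z * (a * b) := T.e (v := 7) (by norm_num)
theorem ts : 9925825 ∈ Lc ∧ t 9925825 = s := T.e (v := 8) (by norm_num)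
theorem tzs : 11789960 ∈ Lc ∧ t 11789960 = z * s := T.e (v := 9) (by norm_num)
theorem tc : 2206526 ∈ Lc ∧ t 2206526 = c := T.f (v := 4) (by norm_num)

end Tab

namespace F1

variable (h : F1 z a b c d r s)
include h

theorem mem_cent {x : G} : x ∈ Subgroup.centralizer {z} ↔ x * z = z * x := by
  rw [Subgroup.mem_centralizer_singleton_iff]

/-- classes of involutions in the centraliser -/
theorem invol {x : G} (hx : x * z = z * x) (hxx : x * x = 1) : x = 1 ∨ x = z ∨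
    ∃ y, y * z = z * y ∧ (x * y = y * a ∨ x * y = y * b ∨ x * y = y * (z * (a * b)) ∨ x * y = y * s ∨
      x * y = y * (z * s)) := by
  obtain ⟨t, T⟩ := h.exists_tab
  obtain ⟨n, hn, rfl⟩ := (T.mem x).1 (h.mem_cent.2 hx)
  rw [T.mul_one' hn hn] at hxx
  rcases code_invol n hn hxx with h1 | h1 | ⟨m, hm, w, hw, h1⟩
  · left; rw [h1, T.one]
  · right; left; rw [h1, T.tz.2]
  · right; right
    refine ⟨t m, h.mem_cent.1 ((T.mem _).2 ⟨m, hm, rfl⟩), ?_⟩
    simp only [List.mem_cons, List.not_mem_nil, or_false] at hw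
    rcases hw with rfl | rfl | rfl | rfl | rfl
    · left; rw [← T.ta.2, T.mul_eq hn hm hm T.ta.1, h1]
    · right; left; rw [← T.tb.2, T.mul_eq hn hm hm T.tb.1, h1]
    · right; right; left; rw [← T.tu.2, T.mul_eq hn hm hm T.tu.1, h1]
    · right; right; right; left; rw [← T.ts.2, T.mul_eq hn hm hm T.ts.1, h1]
    · right; right; right; right; rw [← T.tzs.2, T.mul_eq hn hm hm T.tzs.1, h1]

theorem cent_s {x : G} (hx : x * z = z * x) (hxs : x * s = s * x) : ∃ v < 16, x = eG z a b s v := by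
  obtain ⟨t, T⟩ := h.exists_tab
  obtain ⟨n, hn, rfl⟩ := (T.mem x).1 (h.mem_cent.2 hx)
  rw [← T.ts.2, T.mul_eq hn T.ts.1 T.ts.1 hn] at hxs
  obtain ⟨v, hv, rfl⟩ := code_centS n hn hxs
  exact ⟨v, hv, (T.e hv).2⟩

theorem cent_ac {x : G} (hx : x * z = z * x) (hxa : x * a = a * x) (hxc : x * c = c * x) :
    ∃ v < 8, x = fG z a c v := by
  obtain ⟨t, T⟩ := h.exists_tab
  obtain ⟨n, hn, rfl⟩ := (T.mem x).1 (h.mem_cent.2 hx)
  rw [← T.ta.2, T.mul_eq hn T.ta.1 T.ta.1 hn] at hxa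
  rw [← T.tc.2, T.mul_eq hn T.tc.1 T.tc.1 hn] at hxc
  obtain ⟨v, hv, rfl⟩ := code_centA n hn hxa hxc
  exact ⟨v, hv, (T.f hv).2⟩

theorem prop_P {x y w : G} (hx : x * z = z * x) (hxa : x * a = a * x) (hxx : x * x = 1)
    (hy : y * z = z * y) (hya : y * a = a * y) (hxy : x * y = z * (y * x))
    (hw : w * z = z * w) (hwa : w * a = a * w) (hxw : x * w = a * (w * x)) :
    ∃ v < 8, 4 ≤ v ∧ x = fG z a c v := by
  obtain ⟨t, T⟩ := h.exists_tab
  obtain ⟨n, hn, rfl⟩ := (T.mem x).1 (h.mem_cent.2 hx)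
  obtain ⟨m, hm, rfl⟩ := (T.mem y).1 (h.mem_cent.2 hy)
  obtain ⟨k, hk, rfl⟩ := (T.mem w).1 (h.mem_cent.2 hw)
  have h1 := (T.mul_eq hn T.ta.1 T.ta.1 hn).1 (by rw [T.ta.2, hxa])
  have h2 := (T.mul_eq hm T.ta.1 T.ta.1 hm).1 (by rw [T.ta.2, hya])
  have h3 := (T.mul_eq hk T.ta.1 T.ta.1 hk).1 (by rw [T.ta.2, hwa])
  have h4 := (T.mul_eq3 hn hm T.tz.1 hm hn).1 (by rw [T.tz.2, hxy])
  have h5 := (T.mul_eq3 hn hk T.ta.1 hk hn).1 (by rw [T.ta.2, hxw])
  rw [T.mul_one' hn hn] at hxx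
  obtain ⟨v, hv, hv4, rfl⟩ := code_P n hn h1 hxx ⟨m, hm, h2, h4⟩ ⟨k, hk, h3, h5⟩
  exact ⟨v, hv, hv4, (T.f hv).2⟩

theorem prop_B {x : G} (hx : x * z = z * x) (hxa : x * a = a * x) (hxx : x * x = 1)
    (hxc : c * x = a * (x * c)) : x = s ∨ x = z * s ∨ x = a * s ∨ x = z * (a * s) := by
  obtain ⟨t, T⟩ := h.exists_tab
  obtain ⟨n, hn, rfl⟩ := (T.mem x).1 (h.mem_cent.2 hx)
  have h1 := (T.mul_eq hn T.ta.1 T.ta.1 hn).1 (by rw [T.ta.2, hxa])
  have h4 := (T.mul_eq3 T.tc.1 hn T.ta.1 hn T.tc.1).1 (by rw [T.ta.2, T.tc.2, hxc])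
  rw [T.mul_one' hn hn] at hxx
  obtain ⟨v, hv, hv4, rfl⟩ := code_B n hn h1 hxx h4
  rcases hv4 with rfl | rfl | rfl | rfl
  · left; exact (T.e hv).2
  · right; left; exact (T.e hv).2
  · right; right; left; exact (T.e hv).2
  · right; right; right; exact (T.e hv).2

/-- the centraliser of `z` and `b` has exponent four -/
theorem cent_exp {x : G} (hx : x * z = z * x) (hxb : x * b = b * x) : (x * x) * (x * x) = 1 := by
  obtain ⟨t, T⟩ := h.exists_tab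
  obtain ⟨n, hn, rfl⟩ := (T.mem x).1 (h.mem_cent.2 hx)
  rw [← T.tb.2, T.mul_eq hn T.tb.1 T.tb.1 hn] at hxb
  have h1 := code_exp n hn hxb
  obtain ⟨h2, h3⟩ := T.mul n hn n hn
  rw [h3, T.mul_one' h2 h2]
  exact h1

/-- elements of the centraliser normalising `E` act in one of four ways -/
theorem nce {x : G} (hx : x * z = z * x) {A1 A2 A3 : ℕ} (h1 : A1 < 16) (h2 : A2 < 16) (h3 : A3 < 16)
    (ha : a * x = x * eG z a b s A1) (hb : b * x = x * eG z a b s A2) (hs : s * x = x * eG z a b s A3) :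
    (A1, A2, A3) ∈ [(2, 4, 8), (2, 5, 10), (3, 4, 12), (3, 5, 15)] := by
  obtain ⟨t, T⟩ := h.exists_tab
  obtain ⟨n, hn, rfl⟩ := (T.mem x).1 (h.mem_cent.2 hx)
  refine code_NCE n hn A1 h1 ?_ A2 h2 ?_ A3 h3 ?_
  · rw [← T.mul_eq T.ta.1 hn hn (T.e h1).1, T.ta.2, (T.e h1).2, ha]
  · rw [← T.mul_eq T.tb.1 hn hn (T.e h2).1, T.tb.2, (T.e h2).2, hb]
  · rw [← T.mul_eq T.ts.1 hn hn (T.e h3).1, T.ts.2, (T.e h3).2, hs]

end F1

end Cfsg.Agent.AltType
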