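import Cfsg.Agent.AltType.GOne

/-!
Two commuting elements `g, k` of order three, and `u = z a b` is not conjugate to `z`.
-/

set_option autoImplicit false
set_option maxRecDepth 100000

namespace Cfsg.Agent.AltType

variable {G : Type*} [Group G] {z a b c d r s g k : G}

theorem Rel.act_g (_h : Rel z a b c d r s) (hg : GRel z a b c d r s g) : Act z a b s g ⟨2, 3, 8, 12⟩ :=
  ⟨by norm_num, by norm_num, by norm_num, by norm_num, hg.zg, hg.ag, hg.bg, hg.sg⟩

theorem Rel.act_k (_h : Rel z a b c d r s) (hk : GRel z b a d c r s k) : Act z a b s k ⟨4, 8, 5, 10⟩ :=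
  ⟨by norm_num, by norm_num, by norm_num, by norm_num, hk.zg, hk.bg, hk.ag, hk.sg⟩

/-- the second element with the wrong sign is impossible -/
theorem F1.no_wrong (h : F1 z a b c d r s) (hg : GRel z a b c d r s g) (hk : GRel z b a d c r (s * z) k) : False := by
  have hG := h.act_g hg
  have hK : Act z a b s k ⟨4, 9, 5, 15⟩ := by
    refine ⟨by norm_num, by norm_num, by norm_num, by norm_num, hk.zg, ?_, hk.ag, ?_⟩
    · have h1 := hk.bg
      rw [h.sz] at h1
      exact h1
    · have h1 := cj_mulx hk.sg hk.zg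
      rw [mul_assoc s z z, h.zz, mul_one] at h1
      rw [h1]
      have h2 : a * (s * z) = eG z a b s 11 := by
        rw [h.sz, ← mul_assoc, h.az, mul_assoc]; rfl
      have h3 := h.eG_mul (v := 11) (w := 4) (by norm_num) (by norm_num)
      rw [h2]
      exact congrArg (fun x => k * x) h3
  exact absurd (h.four (h.act_mul (h.act_mul (h.act_mul (h.act_mul hG hK) hG) hK) hG) (by decide)) (by decide)

theorem F1.exists_two (h : F1 z a b c d r s) (ha : Fus z a) (hb : Fus z b) :
    ∃ s', F1 z a b c d r s' ∧ ∃ g k, GRel z a b c d r s' g ∧ GRel z b a d c r s' k := by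
  obtain ⟨s1, hs1, g, hg⟩ := h.exists_g ha
  have h1 : F1 z a b c d r s1 := by
    rcases hs1 with rfl | rfl
    · exact h
    · exact h.twist
  refine ⟨s1, h1, g, ?_⟩
  obtain ⟨s2, hs2, k, hk⟩ := h1.swap.exists_g hb
  rcases hs2 with rfl | rfl
  · exact ⟨k, hg, hk⟩
  · exact (h1.no_wrong hg hk).elim

/-- `u = z a b` is not conjugate to `z` -/
theorem F1.not_fus_u (h : F1 z a b c d r s) (hg : GRel z a b c d r s g) (hk : GRel z b a d c r s k) :
    ¬ Fus z (z * (a * b)) := by
  intro hu
  obtain ⟨s3, hs3, m, hm⟩ := h.third.swap.exists_g hu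
  have hG := h.act_g hg
  have hK := h.act_k hk
  have hbm : b * m = m * (z * s3) := by
    have h1 := cj_mulx hm.zg (cj_mulx hm.bg hm.ag)
    have h2 : z * (a * (z * (a * b))) = b := by
      have h3 := h.eG_mul (v := 3) (w := 7) (by norm_num) (by norm_num)
      rw [← mul_assoc]
      exact h3
    have h3 : z * (a * b) * (s3 * (z * (z * (a * b)))) = z * s3 := by
      rcases hs3 with rfl | rfl
      · have e1 := h.eG_mul (v := 7) (w := 8) (by norm_num) (by norm_num)
        have e2 := h.eG_mul (v := 15) (w := 6) (by norm_num) (by norm_num)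
        rw [← mul_assoc z z, h.zz, one_mul, ← mul_assoc]
        exact (congrArg (fun x => x * (a * b)) e1).trans e2
      · have e1 := h.eG_mul (v := 7) (w := 9) (by norm_num) (by norm_num)
        have e2 := h.eG_mul (v := 14) (w := 6) (by norm_num) (by norm_num)
        rw [← mul_assoc z z, h.zz, one_mul, ← mul_assoc, h.sz, ← mul_assoc z z s, h.zz, one_mul]
        exact (congrArg (fun x => x * (a * b)) e1).trans e2
    rw [h2, h3] at h1
    exact h1
  have hm3 := hm.g3
  rcases hs3 with rfl | rfl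
  · have hM : Act z a b s3 m ⟨7, 8, 9, 10⟩ :=
      ⟨by norm_num, by norm_num, by norm_num, by norm_num, hm.zg, hm.bg, hbm, hm.sg⟩
    exact absurd (h.four (h.act_mul (h.act_mul (h.act_mul (h.act_mul hG hM) hG) hM) hG) (by decide)) (by decide)
  · have hM : Act z a b s m ⟨7, 9, 8, 12⟩ := by
      refine ⟨by norm_num, by norm_num, by norm_num, by norm_num, hm.zg, ?_, ?_, ?_⟩
      · have h1 := hm.bg
        rw [h.sz] at h1
        exact h1
      · rw [hbm, h.sz, ← mul_assoc z z s, h.zz, one_mul]; rfl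
      · have h1 := cj_mulx hm.sg hm.zg
        rw [mul_assoc s z z, h.zz, mul_one] at h1
        rw [h1]
        have h2 : a * (s * z) = eG z a b s 11 := by
          rw [h.sz, ← mul_assoc, h.az, mul_assoc]; rfl
        have h3 := h.eG_mul (v := 11) (w := 7) (by norm_num) (by norm_num)
        rw [h2]
        exact congrArg (fun x => m * x) h3
    exact absurd (h.four (h.act_mul (h.act_mul hG hK) (h.act_mul (h.act_mul hM hM) (h.act_mul hK hK))) (by decide))
      (by decide)

/-- the two elements can be chosen to commute -/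
theorem F1.exists_commuting (h : F1 z a b c d r s) (hg : GRel z a b c d r s g) (hk : GRel z b a d c r s k) :
    ∃ k', GRel z b a d c r s k' ∧ g * k' = k' * g := by
  have hG := h.act_g hg
  have hK := h.act_k hk
  have hGK := h.act_mul hG hK
  have hKG := h.act_mul hK hG
  set x := (k * g)⁻¹ * (g * k) with hx
  have hcomm : ∀ v < 16, app (cmp ⟨2, 3, 8, 12⟩ ⟨4, 8, 5, 10⟩) v = app (cmp ⟨4, 8, 5, 10⟩ ⟨2, 3, 8, 12⟩) v := by
    decide +kernel
  have hxw : ∀ v < 16, x * eG z a b s (app (cmp ⟨2, 3, 8, 12⟩ ⟨4, 8, 5, 10⟩) v) =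
      eG z a b s (app (cmp ⟨2, 3, 8, 12⟩ ⟨4, 8, 5, 10⟩) v) * x := by
    intro v hv
    have h1 := (h.act_app hGK hv).1
    have h2 := (h.act_app hKG hv).1
    rw [← hcomm v hv] at h2
    have h3 := cj_inv h2
    exact (cj_mul h3 h1).symm
  obtain ⟨v1, hv1, hv1'⟩ : ∃ v < 16, app (cmp ⟨2, 3, 8, 12⟩ ⟨4, 8, 5, 10⟩) v = 1 := by decide +kernel
  obtain ⟨v2, hv2, hv2'⟩ : ∃ v < 16, app (cmp ⟨2, 3, 8, 12⟩ ⟨4, 8, 5, 10⟩) v = 8 := by decide +kernel
  have hxz := hxw v1 hv1
  have hxs := hxw v2 hv2
  rw [hv1'] at hxz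
  rw [hv2'] at hxs
  obtain ⟨w, hw, hxe⟩ := h.cent_s hxz hxs
  -- relations with `c` and `d`
  have hcc := h.cc
  have hdd := h.dd
  have kc1 : c * k⁻¹ = k * c := by
    have := hk.gdg
    calc c * k⁻¹ = (k * (c * k)) * k⁻¹ := by rw [this]
      _ = k * c := by group
  have kc2 : c * k = k⁻¹ * c := by
    rw [eq_inv_mul_iff_mul_eq]; exact hk.gdg
  have gc : c * g = g * c := hg.cg
  have gc' : c * g⁻¹ = g⁻¹ * c := cj_inv gc
  have gd1 : d * g⁻¹ = g * d := by
    have := hg.gdg
    calc d * g⁻¹ = (g * (d * g)) * g⁻¹ := by rw [this]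
      _ = g * d := by group
  have gd2 : d * g = g⁻¹ * d := by
    rw [eq_inv_mul_iff_mul_eq]; exact hg.gdg
  have kd : d * k = k * d := hk.cg
  have kd' : d * k⁻¹ = k⁻¹ * d := cj_inv kd
  have hxx : x * x = 1 := by
    rw [hxe, h.eG_mul hw hw, Nat.xor_self]; rfl
  have hxi : x⁻¹ = x := inv_eq_of_mul_eq_one_left hxx
  have fix1 : x * (c * k) = (c * k) * x := by
    have h1 : c * x * c = g⁻¹ * k * g * k⁻¹ := by
      calc c * x * c = (c * g⁻¹) * k⁻¹ * g * k * c := by rw [hx]; group
        _ = g⁻¹ * (c * k⁻¹) * g * k * c := by rw [gc']; group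
        _ = g⁻¹ * k * (c * g) * k * c := by rw [kc1]; group
        _ = g⁻¹ * k * g * (c * k) * c := by rw [gc]; group
        _ = g⁻¹ * k * g * k⁻¹ * (c * c) := by rw [kc2]; group
        _ = g⁻¹ * k * g * k⁻¹ := by rw [hcc, mul_one]
    calc x * (c * k) = (c * c) * x * c * k := by rw [hcc, one_mul]; group
      _ = c * (c * x * c) * k := by group
      _ = c * (g⁻¹ * k * g * k⁻¹) * k := by rw [h1]
      _ = c * k * (((k * g)⁻¹ * (g * k))⁻¹) := by group
      _ = (c * k) * x := by rw [← hx, hxi]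
  have fix2 : x * (d * g) = (d * g) * x := by
    have h1 : d * x * d = g * k⁻¹ * g⁻¹ * k := by
      calc d * x * d = (d * g⁻¹) * k⁻¹ * g * k * d := by rw [hx]; group
        _ = g * (d * k⁻¹) * g * k * d := by rw [gd1]; group
        _ = g * k⁻¹ * (d * g) * k * d := by rw [kd']; group
        _ = g * k⁻¹ * g⁻¹ * (d * k) * d := by rw [gd2]; group
        _ = g * k⁻¹ * g⁻¹ * k * (d * d) := by rw [kd]; group
        _ = g * k⁻¹ * g⁻¹ * k := by rw [hdd, mul_one]
    calc x * (d * g) = (d * d) * x * d * g := by rw [hdd, one_mul]; group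
      _ = d * (d * x * d) * g := by group
      _ = d * (g * k⁻¹ * g⁻¹ * k) * g := by rw [h1]
      _ = d * g * (((k * g)⁻¹ * (g * k))⁻¹) := by group
      _ = (d * g) * x := by rw [← hx, hxi]
  rw [hxe] at fix1 fix2
  have f1 := h.act_fix (h.act_mul h.act_c hK) hw fix1
  have f2 := h.act_fix (h.act_mul h.act_d hG) hw fix2
  have hw' : w = 0 ∨ w = 15 := by
    revert f1 f2
    interval_cases w <;> decide
  rcases hw' with rfl | rfl
  · refine ⟨k, hk, ?_⟩
    have h1 : (k * g)⁻¹ * (g * k) = 1 := by rw [← hx, hxe]; rfl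
    exact (inv_mul_eq_one.mp h1).symm
  · have hk0 := hk.g3
    have hzz := h.zz
    refine ⟨z * (k * z), h.swap.grel_of_grel0 ⟨?_, ?_, ?_, ?_, ?_, ?_, ?_⟩, ?_⟩
    · calc z * (k * z) * (z * (k * z) * (z * (k * z))) = z * k * (z * z) * k * (z * z) * k * z := by group
        _ = z * (k * (k * k)) * z := by rw [hzz]; group
        _ = 1 := by rw [hk0, mul_one, hzz]
    · exact cj_mul rfl (cj_mul hk.zg h.bz)
    · refine cj_mul h.bz (cj_mul hk.ag ?_)
      rw [mul_assoc, h.bz]
    · exact cj_mul h.dz (cj_mul hk.cg h.dz)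
    · exact cj_mul h.az (cj_mul hk.bg h.sz)
    · refine cj_mul h.sz (cj_mul hk.sg ?_)
      rw [mul_assoc, h.sz, ← mul_assoc, h.az, mul_assoc]
    · have h1 := hk.gdg
      calc z * (k * z) * (c * (z * (k * z))) = z * k * (z * c) * z * k * z := by group
        _ = z * k * c * (z * z) * k * z := by rw [← h.cz]; group
        _ = z * (k * (c * k)) * z := by rw [hzz]; group
        _ = c := by rw [h1, ← h.cz, mul_assoc, hzz, mul_one]
    · have hgk : g * k = k * g * x := by rw [hx]; group
      have hkz : z * (k * z) = k * (b * z) := by rw [← mul_assoc, hk.zg, mul_assoc]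
      have hbzg : (b * z) * g = g * (s * a) := cj_mulx hg.bg hg.zg
      have e1 : eG z a b s 15 * (b * z) = s * a := by
        have h3 := h.eG_mul (v := 15) (w := 5) (by norm_num) (by norm_num)
        rw [h.bz, ← h.as]
        exact h3
      calc g * (z * (k * z)) = g * k * (b * z) := by rw [hkz, mul_assoc]
        _ = k * g * (x * (b * z)) := by rw [hgk, mul_assoc]
        _ = k * g * (s * a) := by rw [hxe, e1]
        _ = k * (g * (s * a)) := by rw [mul_assoc]
        _ = k * ((b * z) * g) := by rw [hbzg]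
        _ = z * (k * z) * g := by rw [hkz]; exact (mul_assoc _ _ _).symm

/-- summary: two commuting elements -/
theorem F1.exists_pair (h : F1 z a b c d r s) (ha : Fus z a) (hb : Fus z b) :
    ∃ s', F1 z a b c d r s' ∧ ∃ g k, GRel z a b c d r s' g ∧ GRel z b a d c r s' k ∧ g * k = k * g ∧
      ¬ Fus z (z * (a * b)) := by
  obtain ⟨s', h', g, k, hg, hk⟩ := h.exists_two ha hb
  obtain ⟨k', hk', hgk⟩ := h'.exists_commuting hg hk
  exact ⟨s', h', g, k', hg, hk', hgk, h'.not_fus_u hg hk⟩

end Cfsg.Agent.AltType
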