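import Cfsg.Agent.AltType.Gen
import Cfsg.Agent.AltType.GTwo

/-!
If `a` is conjugate to `z`, then so is `b` or `z a b`: otherwise the normaliser of `A₁` is strongly embedded.
-/

set_option autoImplicit false
set_option maxRecDepth 100000

namespace Cfsg.Agent.AltType

variable {G : Type*} [Group G] {z a b c d r s g : G}

/-- the set `A₁` -/
def setF (z a c : G) : Set G := {x | ∃ v < 8, x = fG z a c v}

theorem setF_finite (z a c : G) : (setF z a c).Finite := by
  have : setF z a c = (fun v => fG z a c v) '' (Set.Iio 8) := by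
    ext x
    constructor
    · rintro ⟨v, hv, rfl⟩; exact ⟨v, hv, rfl⟩
    · rintro ⟨v, hv, rfl⟩; exact ⟨v, hv, rfl⟩
  rw [this]
  exact (Set.finite_Iio 8).image _

/-- the normaliser of `A₁` -/
def NF (z a c : G) : Subgroup G := Subgroup.normalizer (setF z a c)

theorem Rel.mem_NF (h : Rel z a b c d r s) {n : G} {A : MatF} (hA : ActF z a c n A) : n ∈ NF z a c := by
  have hfin : Finite (setF z a c) := (setF_finite z a c).to_subtype
  have h1 : n⁻¹ ∈ NF z a c := by
    apply Subgroup.mem_normalizer_fintype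
    rintro _ ⟨v, hv, rfl⟩
    obtain ⟨h2, h3⟩ := h.actF_app hA hv
    refine ⟨appF A v, h3, ?_⟩
    rw [mul_assoc, inv_inv, h2, inv_mul_cancel_left]
  exact inv_inv n ▸ (NF z a c).inv_mem h1

theorem mem_NF_conj {n : G} (hn : n ∈ NF z a c) {x : G} (hx : x ∈ setF z a c) : n * x * n⁻¹ ∈ setF z a c :=
  (Subgroup.mem_set_normalizer_iff.mp hn x).mp hx

theorem F1.cent_le_NF (h : F1 z a b c d r s) : Subgroup.centralizer {z} ≤ NF z a c := by
  rw [h.cent, Subgroup.closure_le]
  have hz : ActF z a c z ⟨1, 2, 4⟩ := ⟨by norm_num, by norm_num, by norm_num, rfl, h.az, h.cz⟩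
  have ha : ActF z a c a ⟨1, 2, 4⟩ := ⟨by norm_num, by norm_num, by norm_num, h.az.symm, rfl, h.ac.symm⟩
  have hc : ActF z a c c ⟨1, 2, 4⟩ := ⟨by norm_num, by norm_num, by norm_num, h.cz.symm, h.ac, rfl⟩
  rintro x (rfl | rfl | rfl | rfl | rfl | rfl | rfl)
  · exact h.mem_NF hz
  · exact h.mem_NF ha
  · exact h.mem_NF h.actF_b
  · exact h.mem_NF hc
  · exact h.mem_NF h.actF_d
  · exact h.mem_NF h.actF_r
  · exact h.mem_NF h.actF_s

theorem F1.mem_NF_of_comm (h : F1 z a b c d r s) {x : G} (hx : x * z = z * x) : x ∈ NF z a c :=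
  h.cent_le_NF (h.mem_cent.2 hx)

/-- transitivity on the involutions of `A₁` -/
theorem F1.trans_A (h : F1 z a b c d r s) (hg : GRel0 z a b c d s g) {v : ℕ} (hv : v < 8) (hv0 : v ≠ 0) :
    ∃ n ∈ NF z a c, z * n = n * fG z a c v := by
  have hG : ActF z a c g ⟨2, 3, 4⟩ := ⟨by norm_num, by norm_num, by norm_num, hg.zg, hg.ag, hg.cg⟩
  have hGG := h.actF_mul hG hG
  have hGr := h.actF_mul hG h.actF_r
  have hGrr := h.actF_mul hGr h.actF_r
  have hGrb := h.actF_mul hGr h.actF_b
  have hGrrb := h.actF_mul hGrr h.actF_b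
  have h1 := h.actF_one
  interval_cases v
  · exact absurd rfl hv0
  · exact ⟨1, h.mem_NF h1, h1.e0⟩
  · exact ⟨_, h.mem_NF hG, hG.e0⟩
  · exact ⟨_, h.mem_NF hGG, hGG.e0⟩
  · exact ⟨_, h.mem_NF hGr, hGr.e0⟩
  · exact ⟨_, h.mem_NF hGrb, hGrb.e0⟩
  · exact ⟨_, h.mem_NF hGrr, hGrr.e0⟩
  · exact ⟨_, h.mem_NF hGrrb, hGrrb.e0⟩

theorem conj_comm {x n w y : G} (hn : x * n = n * w) (hy : y * w = w * y) :
    (n * y * n⁻¹) * x = x * (n * y * n⁻¹) := by
  have hi := cj_inv hn
  have h1 : y * n⁻¹ = n⁻¹ * (n * y * n⁻¹) := by group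
  exact cj_comm h1 hi hy

theorem mem_of_conj {H : Subgroup G} {n y : G} (hn : n ∈ H) (h : n * y * n⁻¹ ∈ H) : y ∈ H := by
  have : y = n⁻¹ * (n * y * n⁻¹) * n := by group
  rw [this]
  exact H.mul_mem (H.mul_mem (H.inv_mem hn) h) hn

/-- centralisers of involutions of `A₁` -/
theorem F1.cent_A (h : F1 z a b c d r s) (hg : GRel0 z a b c d s g) {v : ℕ} (hv : v < 8) (hv0 : v ≠ 0) {y : G}
    (hy : y * fG z a c v = fG z a c v * y) : y ∈ NF z a c := by
  obtain ⟨n, hn, hnz⟩ := h.trans_A hg hv hv0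
  exact mem_of_conj hn (h.mem_NF_of_comm (conj_comm hnz hy))

theorem F1.mem_of_fuse (h : F1 z a b c d r s) (hg : GRel0 z a b c d s g) {k x : G} (hk : z * k = k * x)
    (hx : x ∈ setF z a c) : k ∈ NF z a c := by
  obtain ⟨v, hv, rfl⟩ := hx
  have hv0 : v ≠ 0 := by
    rintro rfl
    apply h.z_ne_one
    have h1 : z * k = k := by rw [hk]; show k * 1 = k; rw [mul_one]
    exact mul_eq_right.mp h1
  obtain ⟨n, hn, hnz⟩ := h.trans_A hg hv hv0
  have h1 : (k * n⁻¹) * z = z * (k * n⁻¹) := by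
    rw [← mul_assoc z, hk, mul_assoc, mul_assoc, cj_inv hnz]
  have h2 := (NF z a c).mul_mem (h.mem_NF_of_comm h1) hn
  rwa [inv_mul_cancel_right] at h2

/-- an element of the normaliser of `A₁` centralising `b` centralises `z` -/
theorem F1.fix_z (h : F1 z a b c d r s) {k : G} (hk : k ∈ NF z a c) (hkb : k * b = b * k) : k * z = z * k := by
  -- conjugate `c b = z b c` by `k`
  obtain ⟨v, hv, hcv⟩ := mem_NF_conj hk (x := c) ⟨4, by norm_num, rfl⟩
  obtain ⟨w, hw, hzw⟩ := mem_NF_conj hk (x := z) ⟨1, by norm_num, rfl⟩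
  have hb' : b = k * b * k⁻¹ := by rw [hkb]; group
  have h1 : fG z a c v * b = fG z a c w * (b * fG z a c v) := by
    rw [← hcv, ← hzw]
    calc k * c * k⁻¹ * b = k * c * k⁻¹ * (k * b * k⁻¹) := by rw [← hb']
      _ = k * (c * b) * k⁻¹ := by group
      _ = k * (z * (b * c)) * k⁻¹ := by rw [h.cb]
      _ = k * z * k⁻¹ * ((k * b * k⁻¹) * (k * c * k⁻¹)) := by group
      _ = k * z * k⁻¹ * (b * (k * c * k⁻¹)) := by rw [← hb']
  have h2 := (h.actF_app h.actF_b hv)
  have h3 : b * z = z * b := h.bz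
  have h4 : fG z a c w * b = b * fG z a c w := by
    rw [← hzw]
    calc k * z * k⁻¹ * b = k * z * k⁻¹ * (k * b * k⁻¹) := by rw [← hb']
      _ = k * (z * b) * k⁻¹ := by group
      _ = k * (b * z) * k⁻¹ := by rw [h3]
      _ = (k * b * k⁻¹) * (k * z * k⁻¹) := by group
      _ = b * (k * z * k⁻¹) := by rw [← hb']
  rw [h2.1, ← mul_assoc, h4, mul_assoc, h.fG_mul hw hv] at h1
  have h5 := h.fG_inj h2.2 (xltF hw hv) (mul_left_cancel h1)
  have h6 : w = 0 ∨ w = 1 := by
    revert h5
    have key : ∀ w < 8, ∀ v < 8, appF ⟨1, 2, 5⟩ v = w ^^^ v → w = 0 ∨ w = 1 := by decide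
    exact key w hw v hv
  rcases h6 with rfl | rfl
  · exfalso
    apply h.z_ne_one
    have h7 : k * z * k⁻¹ = 1 := hzw
    exact (conj_eq_one_iff).mp h7
  · have h7 : k * z * k⁻¹ = z := hzw
    rw [mul_inv_eq_iff_eq_mul] at h7
    exact h7

section onlyone

/-- conjugates of `z` commuting with `z` -/
theorem F1.fused_mem (h : F1 z a b c d r s) (hb : ¬ Fus z b) (hu : ¬ Fus z (z * (a * b)))
    (hs : ¬ Fus z s) (hzs : ¬ Fus z (z * s)) {x : G} (hx : x * z = z * x) (hf : Fus z x) : x ∈ setF z a c := by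
  by_cases hxz : x = z
  · rw [hxz]; exact ⟨1, by norm_num, rfl⟩
  · obtain ⟨y, hy, hyw⟩ := h.fus_cases hx hxz hf
    rcases hyw with e | e | e | e | e
    · have h1 : x = y * a * y⁻¹ := by rw [← e]; group
      rw [h1]
      exact mem_NF_conj (h.mem_NF_of_comm hy) ⟨2, by norm_num, rfl⟩
    · exact absurd (hf.trans ⟨y, e⟩) hb
    · exact absurd (hf.trans ⟨y, e⟩) hu
    · exact absurd (hf.trans ⟨y, e⟩) hs
    · exact absurd (hf.trans ⟨y, e⟩) hzs

/-- the centraliser of `b` is contained in the centraliser of `z` -/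
theorem F1.cent_b [Finite G] (h : F1 z a b c d r s) (hg : GRel0 z a b c d s g)
    (hD : ∀ x, x * z = z * x → Fus z x → x ∈ setF z a c) {x : G} (hx : x * b = b * x) : x * z = z * x := by
  set K : Subgroup G := Subgroup.centralizer {b} with hK
  have memK : ∀ y, y ∈ K ↔ y * b = b * y := fun y => by rw [hK, Subgroup.mem_centralizer_singleton_iff]
  have hzK : z ∈ K := (memK z).2 h.bz.symm
  have haK : a ∈ K := (memK a).2 h.ab
  have key : ∀ k ∈ K, k ∈ NF z a c → k * z = z * k := fun k hk hkN => h.fix_z hkN ((memK k).1 hk)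
  obtain ⟨N, hNK, hNn, hodd, hcomm⟩ := zstar_sub K hzK h.zz h.z_ne_one (by
    intro k hk hkz
    have h1 : z * k⁻¹ = k⁻¹ * (k * z * k⁻¹) := by group
    have h2 := h.mem_of_fuse hg h1 (hD _ hkz ⟨_, h1⟩)
    have h3 : k ∈ NF z a c := inv_inv k ▸ (NF z a c).inv_mem h2
    rw [key k hk h3]; group)
  have hfixN : ∀ v < 8, v ≠ 0 → ∀ n ∈ N, fG z a c v * n = n * fG z a c v → n = 1 := by
    intro v hv hv0 n hn hc
    have h1 : n ∈ NF z a c := h.cent_A hg hv hv0 hc.symm
    have h2 := key n (hNK hn) h1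
    exact eq_one_of_odd N hodd hn (h.cent_exp h2 ((memK n).1 (hNK hn)))
  have hinv : ∀ v < 8, v ≠ 0 → fG z a c v ∈ K → ∀ n ∈ N, fG z a c v * n * fG z a c v = n⁻¹ := by
    intro v hv hv0 hvK
    have hvv : fG z a c v * fG z a c v = 1 := by rw [h.fG_mul hv hv, Nat.xor_self]; rfl
    refine inverts N hvv ?_ (hfixN v hv hv0)
    intro n hn
    have := hNn _ hvK n hn
    rwa [inv_eq_of_mul_eq_one_left hvv] at this
  have hN : N = ⊥ := trivial_of_three N hodd (t := z) (u := a) (hinv 1 (by norm_num) (by norm_num) hzK)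
    (hinv 2 (by norm_num) (by norm_num) haK) (hinv 3 (by norm_num) (by norm_num) (K.mul_mem hzK haK)) h.az.symm
  have h1 := hcomm x ((memK x).2 hx)
  rw [hN, Subgroup.mem_bot] at h1
  have h2 : z * x * z⁻¹ = x := mul_inv_eq_one.mp h1
  rw [mul_inv_eq_iff_eq_mul] at h2
  exact h2.symm

theorem F1.onlyOne [Finite G] [IsSimpleGroup G] (hcomm : ¬ IsMulCommutative G) (h : F1 z a b c d r s)
    (hg : GRel z a b c d r s g) (hb : ¬ Fus z b) (hu : ¬ Fus z (z * (a * b))) : False := by
  have hG := h.act_g hg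
  have fs : Fus b s := ⟨g, hg.bg⟩
  have fzs : Fus (z * (a * b)) (z * s) := h.fus_app hG (v := 7) (by norm_num)
  have hs : ¬ Fus z s := fun e => hb (e.trans fs.symm)
  have hzs : ¬ Fus z (z * s) := fun e => hu (e.trans fzs.symm)
  have hD : ∀ x, x * z = z * x → Fus z x → x ∈ setF z a c := fun x hx hf => h.fused_mem hb hu hs hzs hx hf
  have gN : g ∈ NF z a c := h.mem_NF (A := ⟨2, 3, 4⟩) ⟨by norm_num, by norm_num, by norm_num, hg.zg, hg.ag, hg.cg⟩
  have cz : ∀ x, x * z = z * x → x ∈ NF z a c := fun x hx => h.mem_NF_of_comm hx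
  have cb : ∀ x, x * b = b * x → x ∈ NF z a c := fun x hx => cz x (h.cent_b hg.toGRel0 hD hx)
  -- the third factor
  have h3 := h.third
  have hz3 : ∀ x, x * (z * (a * b)) = (z * (a * b)) * x → x ∈ NF z a c := by
    intro x hx
    obtain ⟨s3, hs3, g3, hg3⟩ := h3.exists_g ⟨g, hg.zg⟩
    have h3' : F1 z a (z * (a * b)) c (z * (c * d)) r s3 := by
      rcases hs3 with rfl | rfl
      · exact h3
      · exact h3.twist
    exact cz x (h3'.cent_b hg3.toGRel0 hD hx)
  -- all involutions of the normaliser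
  have hcent : ∀ i ∈ NF z a c, i * i = 1 → i ≠ 1 → ∀ x, x * i = i * x → x ∈ NF z a c := by
    intro i hi hii hi1
    -- an involution of `A₁` commuting with `i`
    have hex : ∃ v < 8, v ≠ 0 ∧ i * fG z a c v = fG z a c v * i := by
      by_cases hiz : i * z = z * i
      · exact ⟨1, by norm_num, by norm_num, hiz⟩
      · obtain ⟨w, hw, hzw⟩ := mem_NF_conj hi (x := z) ⟨1, by norm_num, rfl⟩
        have hinv : i⁻¹ = i := inv_eq_of_mul_eq_one_left hii
        rw [hinv] at hzw
        have h1 : i * z = fG z a c w * i := by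
          rw [← hzw]
          calc i * z = i * z * (i * i) := by rw [hii, mul_one]
            _ = i * z * i * i := by group
        have h2 : i * fG z a c w = z * i := by
          rw [← hzw]
          calc i * (i * z * i) = (i * i) * z * i := by group
            _ = z * i := by rw [hii, one_mul]
        refine ⟨1 ^^^ w, xltF (by norm_num) hw, ?_, ?_⟩
        · intro h0
          have : w = 1 := by
            have key : ∀ w < 8, 1 ^^^ w = 0 → w = 1 := by decide
            exact key w hw h0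
          subst this
          exact hiz h1
        · rw [← h.fG_mul (by norm_num : (1 : ℕ) < 8) hw]
          have e1 : fG z a c 1 * fG z a c w = fG z a c w * fG z a c 1 := by
            rw [h.fG_mul (by norm_num) hw, h.fG_mul hw (by norm_num), Nat.xor_comm]
          show i * (z * fG z a c w) = z * fG z a c w * i
          calc i * (z * fG z a c w) = (i * z) * fG z a c w := by group
            _ = fG z a c w * (i * fG z a c w) := by rw [h1]; group
            _ = (fG z a c w * z) * i := by rw [h2]; group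
            _ = z * fG z a c w * i := by
                have : fG z a c w * z = z * fG z a c w := e1.symm
                rw [this]
    obtain ⟨v, hv, hv0, hiv⟩ := hex
    obtain ⟨n, hn, hnz⟩ := h.trans_A hg.toGRel0 hv hv0
    -- move to the centraliser of `z`
    have h1 := conj_comm hnz hiv
    have h11 : (n * i * n⁻¹) * (n * i * n⁻¹) = 1 := by
      calc (n * i * n⁻¹) * (n * i * n⁻¹) = n * (i * i) * n⁻¹ := by group
        _ = 1 := by rw [hii]; group
    -- transport
    have trans : ∀ w m, m ∈ NF z a c → i * m = m * w → (∀ x, x * w = w * x → x ∈ NF z a c) →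
        ∀ x, x * i = i * x → x ∈ NF z a c := by
      intro w m hm him hw x hx
      have h5 := hw (m⁻¹ * x * m⁻¹⁻¹) (conj_comm (cj_inv him) hx)
      exact mem_of_conj ((NF z a c).inv_mem hm) h5
    have hi_n : i * n⁻¹ = n⁻¹ * (n * i * n⁻¹) := by group
    have hni := (NF z a c).inv_mem hn
    rcases h.invol h1 h11 with e | e | ⟨y, hy, hyw⟩
    · exact absurd (conj_eq_one_iff.mp e) hi1
    · rw [e] at hi_n
      exact trans z n⁻¹ hni hi_n cz
    · have hyN := h.mem_NF_of_comm hy
      have hnyN := (NF z a c).mul_mem hni hyN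
      rcases hyw with e | e | e | e | e
      · exact trans a _ hnyN (cj_mul hi_n e) (fun x hx => h.cent_A hg.toGRel0 (v := 2) (by norm_num) (by norm_num) hx)
      · exact trans b _ hnyN (cj_mul hi_n e) cb
      · exact trans _ _ hnyN (cj_mul hi_n e) hz3
      · exact trans b _ ((NF z a c).mul_mem hnyN ((NF z a c).inv_mem gN)) (cj_mul (cj_mul hi_n e) (cj_inv hg.bg)) cb
      · have h7 : (z * (a * b)) * g = g * (z * s) := (h.act_app hG (v := 7) (by norm_num)).1
        exact trans _ _ ((NF z a c).mul_mem hnyN ((NF z a c).inv_mem gN)) (cj_mul (cj_mul hi_n e) (cj_inv h7)) hz3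
  -- the normaliser is proper
  have hne : NF z a c ≠ ⊤ := by
    intro htop
    have hle : ∀ x, Fus z x → x ∈ setF z a c := by
      rintro x ⟨k, hk⟩
      have h1 : k⁻¹ ∈ NF z a c := by rw [htop]; trivial
      have h2 := mem_NF_conj h1 (x := z) ⟨1, by norm_num, rfl⟩
      have h3 : x = k⁻¹ * z * k⁻¹⁻¹ := by rw [inv_inv, mul_assoc, hk, inv_mul_cancel_left]
      rw [h3]; exact h2
    -- all conjugates of `z` commute with `z`
    have hcz : ∀ x, Fus z x → x * z = z * x := by
      intro x hx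
      obtain ⟨v, hv, rfl⟩ := hle x hx
      show fG z a c v * fG z a c 1 = fG z a c 1 * fG z a c v
      rw [h.fG_mul hv (by norm_num), h.fG_mul (by norm_num) hv, Nat.xor_comm]
    have hsub : Subgroup.normalClosure {z} ≤ Subgroup.centralizer {z} := by
      rw [Subgroup.normalClosure, Subgroup.closure_le]
      intro x hx
      rw [Group.mem_conjugatesOfSet_iff] at hx
      obtain ⟨y, hy, hyx⟩ := hx
      rw [Set.mem_singleton_iff] at hy
      subst hy
      obtain ⟨k, rfl⟩ := isConj_iff.mp hyx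
      exact h.mem_cent.2 (hcz _ ⟨k⁻¹, by group⟩)
    rcases (Subgroup.normalClosure_normal (s := {z})).eq_bot_or_eq_top with e | e
    · apply h.z_ne_one
      have : z ∈ Subgroup.normalClosure ({z} : Set G) := Subgroup.subset_normalClosure rfl
      rwa [e, Subgroup.mem_bot] at this
    · rw [e, top_le_iff] at hsub
      have hcen : z ∈ Subgroup.center G := by
        rw [Subgroup.mem_center_iff]
        intro x
        have : x ∈ Subgroup.centralizer ({z} : Set G) := by rw [hsub]; trivial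
        exact h.mem_cent.1 this
      rcases (inferInstance : (Subgroup.center G).Normal).eq_bot_or_eq_top with e' | e'
      · rw [e', Subgroup.mem_bot] at hcen
        exact h.z_ne_one hcen
      · apply hcomm
        refine ⟨⟨fun x y => ?_⟩⟩
        have : y ∈ Subgroup.center G := by rw [e']; trivial
        exact Subgroup.mem_center_iff.mp this x
  have hbN : b ∈ NF z a c := h.mem_NF h.actF_b
  have hzN : z ∈ NF z a c := cz z rfl
  have hb1 : b ≠ 1 := fun e => by
    have := h.eG_inj (v := 4) (w := 0) (by norm_num) (by norm_num) e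
    norm_num at this
  exact hb (strong (NF z a c) hne hcent hzN hbN h.zz h.bb h.z_ne_one hb1)

end onlyone

end Cfsg.Agent.AltType
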