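import Cfsg.Agent.AltType.HomA8
import Cfsg.Agent.AltType.OnlyOne
import Cfsg.Agent.J2Type.FourSelfCent

/-!
The centraliser of the four-group `T = {1, z a b, z s, a b s}`: `C_G(T) / T` has a self-centralising Sylow four-group.
-/

set_option autoImplicit false
set_option maxRecDepth 100000
set_option linter.unusedSectionVars false

namespace Cfsg.Agent.AltType

variable {G : Type*} [Group G] {z a b c d r s g k : G}

section types

/-- the classes of the elements of `E` -/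
theorem Rel2.zt (h : Rel2 z a b c d r s g k) {v : ℕ} (hv : v ∈ [1, 2, 3, 4, 5, 8, 10, 12, 15]) :
    Fus z (eG z a b s v) := by
  have f2 : Fus z a := ⟨g, h.hg.zg⟩
  have f4 : Fus z b := ⟨k, h.hk.zg⟩
  have f3 : Fus a (z * a) := ⟨g, h.hg.ag⟩
  have f5 : Fus b (z * b) := ⟨k, h.hk.ag⟩
  have f8 : Fus b s := ⟨g, h.hg.bg⟩
  have f12 : Fus s (b * s) := ⟨g, h.hg.sg⟩
  have f10 : Fus s (a * s) := ⟨k, h.hk.sg⟩
  have f15 : Fus (a * s) (z * (a * (b * s))) := h.fus_d (v := 10) (by norm_num)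
  simp only [List.mem_cons, List.not_mem_nil, or_false] at hv
  rcases hv with rfl | rfl | rfl | rfl | rfl | rfl | rfl | rfl | rfl
  · exact Fus.refl z
  · exact f2
  · exact f2.trans f3
  · exact f4
  · exact f4.trans f5
  · exact f4.trans f8
  · exact (f4.trans f8).trans f10
  · exact (f4.trans f8).trans f12
  · exact ((f4.trans f8).trans f10).trans f15

theorem Rel2.nzt (h : Rel2 z a b c d r s g k) (hF : F1 z a b c d r s) (hu : ¬ Fus z (z * (a * b))) {v : ℕ}
    (hv : v ∈ [0, 6, 7, 9, 11, 13, 14]) : ¬ Fus z (eG z a b s v) := by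
  have hG := h.toRel.act_g h.hg
  have f6 : Fus (z * (a * b)) (a * b) := h.fus_c (v := 7) (by norm_num)
  have f9 : Fus (z * (a * b)) (z * s) := h.fus_app hG (v := 7) (by norm_num)
  have f14 : Fus (z * s) (a * (b * s)) := h.fus_app hG (v := 9) (by norm_num)
  have f11 : Fus (z * s) (z * (a * s)) := h.fus_c (v := 9) (by norm_num)
  have f13 : Fus (z * s) (z * (b * s)) := h.fus_d (v := 9) (by norm_num)
  simp only [List.mem_cons, List.not_mem_nil, or_false] at hv
  rcases hv with rfl | rfl | rfl | rfl | rfl | rfl | rfl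
  · exact fun e => fus_ne_one e hF.z_ne_one rfl
  · exact fun e => hu (e.trans f6.symm)
  · exact hu
  · exact fun e => hu (e.trans f9.symm)
  · exact fun e => hu ((e.trans f11.symm).trans f9.symm)
  · exact fun e => hu ((e.trans f13.symm).trans f9.symm)
  · exact fun e => hu ((e.trans f14.symm).trans f9.symm)

end types

/-- the centraliser of `T` -/
def KT (z a b s : G) : Subgroup G := Subgroup.centralizer {z * (a * b), z * s}

theorem mem_KT {x : G} : x ∈ KT z a b s ↔ x * (z * (a * b)) = (z * (a * b)) * x ∧ x * (z * s) = (z * s) * x := by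
  unfold KT
  rw [Subgroup.mem_centralizer_iff]
  constructor
  · intro h
    exact ⟨(h _ (Set.mem_insert _ _)).symm, (h _ (Set.mem_insert_of_mem _ rfl)).symm⟩
  · rintro ⟨h1, h2⟩ y (rfl | rfl)
    · exact h1.symm
    · exact h2.symm

/-- indices of the elements of `T` -/
def tT : List ℕ := [0, 7, 9, 14]

theorem tT_lt {v : ℕ} (hv : v ∈ tT) : v < 16 := by
  simp only [tT, List.mem_cons, List.not_mem_nil, or_false] at hv
  omega

section cent

variable (h : Rel2 z a b c d r s g k)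
include h

theorem Rel2.KT_comm {x : G} (hx : x ∈ KT z a b s) {v : ℕ} (hv : v ∈ tT) :
    x * eG z a b s v = eG z a b s v * x := by
  obtain ⟨h1, h2⟩ := mem_KT.1 hx
  simp only [tT, List.mem_cons, List.not_mem_nil, or_false] at hv
  rcases hv with rfl | rfl | rfl | rfl
  · show x * 1 = 1 * x; rw [mul_one, one_mul]
  · exact h1
  · exact h2
  · have h3 : eG z a b s 14 = eG z a b s 7 * eG z a b s 9 :=
      (h.eG_mul (show 7 < 16 by norm_num) (show 9 < 16 by norm_num)).symm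
    rw [h3]
    show x * ((z * (a * b)) * (z * s)) = (z * (a * b)) * (z * s) * x
    rw [← mul_assoc, h1, mul_assoc, h2]
    simp only [mul_assoc]

theorem Rel2.E_mem_KT {v : ℕ} (hv : v < 16) : eG z a b s v ∈ KT z a b s := by
  rw [mem_KT]
  constructor
  · show eG z a b s v * eG z a b s 7 = eG z a b s 7 * eG z a b s v
    rw [h.eG_mul hv (by norm_num), h.eG_mul (by norm_num) hv, Nat.xor_comm]
  · show eG z a b s v * eG z a b s 9 = eG z a b s 9 * eG z a b s v
    rw [h.eG_mul hv (by norm_num), h.eG_mul (by norm_num) hv, Nat.xor_comm]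

theorem Rel2.conj_KT {n : G} {A : Mat} (hA : Act z a b s n A) (h7 : app A 7 ∈ tT) (h9 : app A 9 ∈ tT)
    {x : G} (hx : x ∈ KT z a b s) : n * x * n⁻¹ ∈ KT z a b s := by
  rw [mem_KT]
  constructor
  · exact conj_comm (h.act_app hA (v := 7) (by norm_num)).1 (h.KT_comm hx h7)
  · exact conj_comm (h.act_app hA (v := 9) (by norm_num)).1 (h.KT_comm hx h9)

theorem Rel2.cK_z (hF : F1 z a b c d r s) {x : G} (hx : x ∈ KT z a b s) (hxz : x * z = z * x) :
    ∃ w < 16, x = eG z a b s w := by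
  apply hF.cent_s hxz
  have h1 := (mem_KT.1 hx).2
  rw [← mul_assoc, hxz, mul_assoc, mul_assoc] at h1
  exact mul_left_cancel h1

theorem Rel2.cK_conj (hF : F1 z a b c d r s) {n : G} {A : Mat} (hA : Act z a b s n A) (h7 : app A 7 ∈ tT)
    (h9 : app A 9 ∈ tT) {x : G} (hx : x ∈ KT z a b s) (hxa : x * eG z a b s A.A0 = eG z a b s A.A0 * x) :
    ∃ w < 16, x = eG z a b s w := by
  obtain ⟨w, hw, hw'⟩ := h.cK_z hF (h.conj_KT hA h7 h9 hx) (conj_comm hA.e0 hxa)
  obtain ⟨h1, h2⟩ := h.act_app hA hw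
  refine ⟨_, h2, ?_⟩
  rw [← hw'] at h1
  have h3 : n * x = n * eG z a b s (app A w) := by rw [← h1]; group
  exact mul_left_cancel h3

theorem Rel2.cK (hF : F1 z a b c d r s) {v : ℕ} (hv : v ∈ [1, 2, 4]) {x : G} (hx : x ∈ KT z a b s)
    (hxa : x * eG z a b s v = eG z a b s v * x) : ∃ w < 16, x = eG z a b s w := by
  simp only [List.mem_cons, List.not_mem_nil, or_false] at hv
  rcases hv with rfl | rfl | rfl
  · exact h.cK_z hF hx hxa
  · exact h.cK_conj hF (h.toRel.act_g h.hg) (by decide) (by decide) hx hxa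
  · exact h.cK_conj hF (h.toRel.act_k h.hk) (by decide) (by decide) hx hxa

/-- an element of `C_G(T)` fixing the coset `t T` fixes `t` -/
theorem Rel2.trick (hF : F1 z a b c d r s) (hu : ¬ Fus z (z * (a * b))) {v τ : ℕ} (hv : v ∈ [1, 2, 4])
    (hτ : τ ∈ tT) {x : G} (hx : x ∈ KT z a b s) (hxv : eG z a b s v * x = x * eG z a b s (v ^^^ τ)) : τ = 0 := by
  by_contra hτ0
  obtain ⟨w, hw, hw1, hw2⟩ : ∃ w ∈ tT, v ^^^ w ∈ [0, 6, 7, 9, 11, 13, 14] ∧
      (v ^^^ τ ∈ [0, 6, 7, 9, 11, 13, 14] ∨ (v ^^^ τ) ^^^ w ∈ [1, 2, 3, 4, 5, 8, 10, 12, 15]) := by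
    have key : ∀ v ∈ [1, 2, 4], ∀ τ ∈ tT, τ ≠ 0 → ∃ w ∈ tT, v ^^^ w ∈ [0, 6, 7, 9, 11, 13, 14] ∧
      (v ^^^ τ ∈ [0, 6, 7, 9, 11, 13, 14] ∨ (v ^^^ τ) ^^^ w ∈ [1, 2, 3, 4, 5, 8, 10, 12, 15]) := by decide +kernel
    exact key v hv τ hτ hτ0
  have hv16 : v < 16 := by
    simp only [List.mem_cons, List.not_mem_nil, or_false] at hv
    omega
  have hvz : v ∈ [1, 2, 3, 4, 5, 8, 10, 12, 15] := by
    simp only [List.mem_cons, List.not_mem_nil, or_false] at hv ⊢
    omega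
  rcases hw2 with e | e
  · exact h.nzt hF hu e ((h.zt hvz).trans ⟨x, hxv⟩)
  · have h1 := cj_mulx hxv (h.KT_comm hx hw).symm
    rw [h.eG_mul hv16 (tT_lt hw), h.eG_mul (xlt hv16 (tT_lt hτ)) (tT_lt hw)] at h1
    exact h.nzt hF hu hw1 ((h.zt e).trans (Fus.symm ⟨x, h1⟩))

end cent

/-! ### The quotient `C_G(T) / T` -/

section quotient

variable (h : Rel2 z a b c d r s g k)
include h

/-- the group `T` inside its centraliser -/
def Rel2.T' : Subgroup (KT z a b s) where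
  carrier := {x | ∃ v ∈ tT, (x : G) = eG z a b s v}
  one_mem' := ⟨0, by decide, rfl⟩
  mul_mem' := by
    rintro x y ⟨v, hv, hx⟩ ⟨w, hw, hy⟩
    refine ⟨v ^^^ w, ?_, ?_⟩
    · have key : ∀ v ∈ tT, ∀ w ∈ tT, v ^^^ w ∈ tT := by decide
      exact key v hv w hw
    · rw [Subgroup.coe_mul, hx, hy, h.eG_mul (tT_lt hv) (tT_lt hw)]
  inv_mem' := by
    rintro x ⟨v, hv, hx⟩
    refine ⟨v, hv, ?_⟩
    rw [Subgroup.coe_inv, hx]
    apply inv_eq_of_mul_eq_one_left
    rw [h.eG_mul (tT_lt hv) (tT_lt hv), Nat.xor_self]; rfl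

/-- the group `E` inside the centraliser of `T` -/
def Rel2.E' : Subgroup (KT z a b s) where
  carrier := {x | ∃ v < 16, (x : G) = eG z a b s v}
  one_mem' := ⟨0, by norm_num, rfl⟩
  mul_mem' := by
    rintro x y ⟨v, hv, hx⟩ ⟨w, hw, hy⟩
    exact ⟨v ^^^ w, xlt hv hw, by rw [Subgroup.coe_mul, hx, hy, h.eG_mul hv hw]⟩
  inv_mem' := by
    rintro x ⟨v, hv, hx⟩
    refine ⟨v, hv, ?_⟩
    rw [Subgroup.coe_inv, hx]
    apply inv_eq_of_mul_eq_one_left
    rw [h.eG_mul hv hv, Nat.xor_self]; rfl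

theorem Rel2.T'_normal : h.T'.Normal := by
  constructor
  rintro n ⟨v, hv, hn⟩ x
  refine ⟨v, hv, ?_⟩
  rw [Subgroup.coe_mul, Subgroup.coe_mul, Subgroup.coe_inv, hn, h.KT_comm x.2 hv]
  group

/-- the element of `C_G(T)` with coordinates `v` -/
def Rel2.el (v : ℕ) (hv : v < 16) : KT z a b s := ⟨eG z a b s v, h.E_mem_KT hv⟩

end quotient

theorem Rel2.hyp (h : Rel2 z a b c d r s g k) (hF : F1 z a b c d r s) (hu : ¬ Fus z (z * (a * b))) :
    haveI := h.T'_normal
    Cfsg.Agent.J2Type.FourSelfCent.Hyp (h.E'.map (QuotientGroup.mk' h.T')) := by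
  haveI := h.T'_normal
  have rep : ∀ w < 16, ∃ v ∈ [0, 1, 2, 4], ∃ τ ∈ tT, w = v ^^^ τ := by decide +kernel
  have mk_eq : ∀ (v : ℕ) (hv : v < 16) (w : ℕ) (hw : w < 16), v ^^^ w ∈ tT →
      (QuotientGroup.mk' h.T') (h.el v hv) = (QuotientGroup.mk' h.T') (h.el w hw) := by
    intro v hv w hw hvw
    rw [QuotientGroup.mk'_apply, QuotientGroup.mk'_apply, QuotientGroup.eq]
    refine ⟨v ^^^ w, hvw, ?_⟩
    rw [Subgroup.coe_mul, Subgroup.coe_inv]
    show (eG z a b s v)⁻¹ * eG z a b s w = _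
    rw [inv_eq_of_mul_eq_one_left (by rw [h.eG_mul hv hv, Nat.xor_self]; rfl : eG z a b s v * eG z a b s v = 1),
      h.eG_mul hv hw]
  have mk_inj : ∀ (v : ℕ) (hv : v < 16) (w : ℕ) (hw : w < 16),
      (QuotientGroup.mk' h.T') (h.el v hv) = (QuotientGroup.mk' h.T') (h.el w hw) → v ^^^ w ∈ tT := by
    intro v hv w hw hvw
    rw [QuotientGroup.mk'_apply, QuotientGroup.mk'_apply, QuotientGroup.eq] at hvw
    obtain ⟨τ, hτ, h1⟩ := hvw
    rw [Subgroup.coe_mul, Subgroup.coe_inv] at h1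
    change (eG z a b s v)⁻¹ * eG z a b s w = _ at h1
    rw [inv_eq_of_mul_eq_one_left (by rw [h.eG_mul hv hv, Nat.xor_self]; rfl : eG z a b s v * eG z a b s v = 1),
      h.eG_mul hv hw] at h1
    rw [hF.eG_inj (xlt hv hw) (tT_lt hτ) h1]
    exact hτ
  -- elements of the image
  have memU : ∀ y, y ∈ h.E'.map (QuotientGroup.mk' h.T') ↔
      ∃ v, ∃ hv : v < 16, v ∈ [0, 1, 2, 4] ∧ y = (QuotientGroup.mk' h.T') (h.el v hv) := by
    intro y
    constructor
    · rintro ⟨x, ⟨w, hw, hx⟩, rfl⟩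
      obtain ⟨v, hv, τ, hτ, rfl⟩ := rep w hw
      have hv16 : v < 16 := by
        simp only [List.mem_cons, List.not_mem_nil, or_false] at hv
        omega
      refine ⟨v, hv16, hv, ?_⟩
      have hx' : x = h.el (v ^^^ τ) hw := Subtype.ext hx
      rw [hx']
      apply mk_eq
      rw [Nat.xor_comm v τ, Nat.xor_assoc, Nat.xor_self, Nat.xor_zero]
      exact hτ
    · rintro ⟨v, hv, -, rfl⟩
      exact ⟨h.el v hv, ⟨v, hv, rfl⟩, rfl⟩
  refine ⟨?_, ?_, ?_⟩
  · -- order four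
    have hlt : ∀ i : Fin 4, [0, 1, 2, 4].getD (i : ℕ) 0 < 16 := by decide
    let f : Fin 4 → h.E'.map (QuotientGroup.mk' h.T') := fun i =>
      ⟨(QuotientGroup.mk' h.T') (h.el ([0, 1, 2, 4].getD (i : ℕ) 0) (hlt i)), h.el _ (hlt i), ⟨_, hlt i, rfl⟩, rfl⟩
    have hf : Function.Bijective f := by
      constructor
      · intro i j hij
        have h1 := mk_inj _ (hlt i) _ (hlt j) (congrArg Subtype.val hij)
        revert h1
        fin_cases i <;> fin_cases j <;> decide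
      · rintro ⟨y, hy⟩
        obtain ⟨v, hv, hv4, rfl⟩ := (memU y).1 hy
        simp only [List.mem_cons, List.not_mem_nil, or_false] at hv4
        rcases hv4 with rfl | rfl | rfl | rfl
        · exact ⟨0, rfl⟩
        · exact ⟨1, rfl⟩
        · exact ⟨2, rfl⟩
        · exact ⟨3, rfl⟩
    rw [← Nat.card_congr (Equiv.ofBijective f hf), Nat.card_fin]
  · intro y hy
    obtain ⟨v, hv, -, rfl⟩ := (memU y).1 hy
    rw [← map_mul]
    have : h.el v hv * h.el v hv = 1 := by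
      apply Subtype.ext
      show eG z a b s v * eG z a b s v = 1
      rw [h.eG_mul hv hv, Nat.xor_self]; rfl
    rw [this, map_one]
  · intro y hy hy1 x hxy
    obtain ⟨v, hv, hv4, rfl⟩ := (memU y).1 hy
    have hv3 : v ∈ [1, 2, 4] := by
      simp only [List.mem_cons, List.not_mem_nil, or_false] at hv4 ⊢
      rcases hv4 with rfl | rfl | rfl | rfl
      · exfalso
        apply hy1
        have : h.el 0 hv = 1 := Subtype.ext rfl
        rw [this, map_one]
      · exact Or.inl rfl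
      · exact Or.inr (Or.inl rfl)
      · exact Or.inr (Or.inr rfl)
    obtain ⟨x, rfl⟩ := QuotientGroup.mk'_surjective h.T' x
    rw [← map_mul, ← map_mul, QuotientGroup.mk'_apply, QuotientGroup.mk'_apply, QuotientGroup.eq] at hxy
    obtain ⟨τ, hτ, h1⟩ := hxy
    rw [Subgroup.coe_mul, Subgroup.coe_inv, Subgroup.coe_mul, Subgroup.coe_mul] at h1
    change ((x : G) * eG z a b s v)⁻¹ * (eG z a b s v * x) = eG z a b s τ at h1
    have h2 : eG z a b s v * (x : G) = x * eG z a b s (v ^^^ τ) := by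
      rw [← h.eG_mul hv (tT_lt hτ), ← h1]; group
    have h3 := h.trick hF hu hv3 hτ x.2 h2
    subst h3
    rw [Nat.xor_zero] at h2
    obtain ⟨w, hw, hxw⟩ := h.cK hF hv3 x.2 h2.symm
    exact ⟨x, ⟨w, hw, hxw⟩, rfl⟩

end Cfsg.Agent.AltType
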