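import Cfsg.Agent.AltType.Sym

/-!
Further finite facts about the centraliser: the subgroup `C(z) ∩ C(u)`, `u = z a b`.
-/

set_option autoImplicit false
set_option maxRecDepth 100000

namespace Cfsg.Agent.AltType

open Cfsg.Agent.SporadicRecognition.CosetCert Cfsg.Agent.SporadicRecognition.CosetCertHyp
  Cfsg.Agent.SporadicRecognition.CosetChain

set_option synthInstance.maxSize 1024 in
set_option synthInstance.maxHeartbeats 200000 in
theorem code_W : ∀ n ∈ Lc, mulN n 14571144 = mulN 14571144 n → mulN n n = 16434824 →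
    (∃ m ∈ Lc, ∃ w ∈ [14571144, 11789960], mulN n m = mulN m w) →
    (∃ m ∈ Lc, ∃ w ∈ [14571144, 11789960], mulN (mulN 14571144 n) m = mulN m w) →
    n ∈ [11789960, 9926280, 14599809, 16405704, 14599368, 16406145] := by decide +kernel

theorem code_center : ∀ n ∈ Lc, mulN n 14571144 = mulN 14571144 n →
    (∀ m ∈ Lc, mulN m 14571144 = mulN 14571144 m → mulN n m = mulN m n) →
    n ∈ [16434824, 14570689, 14571144, 16434369] := by decide +kernel

/-- words of the elements of `A₃` outside `⟨z, u⟩` -/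
def wW : ℕ → List ℕ
  | 0 => [0,3,4]
  | 1 => [0,0,3,4]
  | 2 => [0,1,2,0,3,4]
  | _ => [0,0,1,2,0,3,4]

theorem code_wW : evN (wW 0) = 16405704 ∧ evN (wW 1) = 14599809 ∧ evN (wW 2) = 14599368 ∧ evN (wW 3) = 16406145 := by
  decide +kernel

theorem wW_lt : ∀ v < 4, ∀ y ∈ wW v, y < 8 := by decide +kernel

variable {G : Type*} [Group G] {z a b c d r s : G}

theorem F1.prop_W (h : F1 z a b c d r s) {x : G} (hx : x * z = z * x) (hxu : x * (z * (a * b)) = (z * (a * b)) * x)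
    (hxx : x * x = 1)
    (h1 : ∃ y, y * z = z * y ∧ (x * y = y * (z * (a * b)) ∨ x * y = y * (z * s)))
    (h2 : ∃ y, y * z = z * y ∧ (((z * (a * b)) * x) * y = y * (z * (a * b)) ∨ ((z * (a * b)) * x) * y = y * (z * s))) :
    x = z * s ∨ x = a * (b * s) ∨ ∃ v < 8, 4 ≤ v ∧ x = fG z (z * (a * b)) (z * (c * d)) v := by
  obtain ⟨t, T⟩ := h.exists_tab
  obtain ⟨n, hn, rfl⟩ := (T.mem x).1 (h.mem_cent.2 hx)
  have c1 := (T.mul_eq hn T.tu.1 T.tu.1 hn).1 (by rw [T.tu.2, hxu])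
  rw [T.mul_one' hn hn] at hxx
  have c2 : ∃ m ∈ Lc, ∃ w ∈ [14571144, 11789960], mulN n m = mulN m w := by
    obtain ⟨y, hy, hyw⟩ := h1
    obtain ⟨m, hm, rfl⟩ := (T.mem y).1 (h.mem_cent.2 hy)
    rcases hyw with e | e
    · exact ⟨m, hm, _, by simp, (T.mul_eq hn hm hm T.tu.1).1 (by rw [T.tu.2, e])⟩
    · exact ⟨m, hm, _, by simp, (T.mul_eq hn hm hm T.tzs.1).1 (by rw [T.tzs.2, e])⟩
  have c3 : ∃ m ∈ Lc, ∃ w ∈ [14571144, 11789960], mulN (mulN 14571144 n) m = mulN m w := by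
    obtain ⟨y, hy, hyw⟩ := h2
    obtain ⟨m, hm, rfl⟩ := (T.mem y).1 (h.mem_cent.2 hy)
    obtain ⟨h3, h4⟩ := T.mul _ T.tu.1 n hn
    rcases hyw with e | e
    · exact ⟨m, hm, _, by simp, (T.mul_eq h3 hm hm T.tu.1).1 (by rw [← h4, T.tu.2, e])⟩
    · exact ⟨m, hm, _, by simp, (T.mul_eq h3 hm hm T.tzs.1).1 (by rw [← h4, T.tu.2, T.tzs.2, e])⟩
  have hmem := code_W n hn c1 hxx c2 c3
  have w0 := T.ev (wW 0) (wW_lt 0 (by norm_num))
  have w1 := T.ev (wW 1) (wW_lt 1 (by norm_num))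
  have w2 := T.ev (wW 2) (wW_lt 2 (by norm_num))
  have w3 := T.ev (wW 3) (wW_lt 3 (by norm_num))
  rw [code_wW.1] at w0
  rw [code_wW.2.1] at w1
  rw [code_wW.2.2.1] at w2
  rw [code_wW.2.2.2] at w3
  simp only [wW, ev_cons, ev_nil, lt, mul_one] at w0 w1 w2 w3
  simp only [List.mem_cons, List.not_mem_nil, or_false] at hmem
  rcases hmem with rfl | rfl | rfl | rfl | rfl | rfl
  · left; exact T.tzs.2
  · right; left; exact (T.e (v := 14) (by norm_num)).2
  · right; right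
    refine ⟨5, by norm_num, by norm_num, ?_⟩
    rw [w1.2]; rfl
  · right; right
    refine ⟨4, by norm_num, by norm_num, ?_⟩
    rw [w0.2]; rfl
  · right; right
    refine ⟨6, by norm_num, by norm_num, ?_⟩
    rw [w2.2]; show _ = z * (a * b) * (z * (c * d)); simp only [mul_assoc]
  · right; right
    refine ⟨7, by norm_num, by norm_num, ?_⟩
    rw [w3.2]; show _ = z * (z * (a * b) * (z * (c * d))); simp only [mul_assoc]

theorem F1.centerP (h : F1 z a b c d r s) {x : G} (hx : x * z = z * x) (hxu : x * (z * (a * b)) = (z * (a * b)) * x)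
    (hc : ∀ y, y * z = z * y → y * (z * (a * b)) = (z * (a * b)) * y → x * y = y * x) :
    ∃ v ∈ [0, 1, 6, 7], x = eG z a b s v := by
  obtain ⟨t, T⟩ := h.exists_tab
  obtain ⟨n, hn, rfl⟩ := (T.mem x).1 (h.mem_cent.2 hx)
  have c1 := (T.mul_eq hn T.tu.1 T.tu.1 hn).1 (by rw [T.tu.2, hxu])
  have hmem := code_center n hn c1 (by
    intro m hm hmu
    have hm' : t m * (z * (a * b)) = (z * (a * b)) * t m := by
      rw [← T.tu.2]; exact (T.mul_eq hm T.tu.1 T.tu.1 hm).2 hmu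
    exact (T.mul_eq hn hm hm hn).1 (hc (t m) (h.mem_cent.1 ((T.mem _).2 ⟨m, hm, rfl⟩)) hm'))
  simp only [List.mem_cons, List.not_mem_nil, or_false] at hmem
  rcases hmem with rfl | rfl | rfl | rfl
  · exact ⟨0, by decide, T.one⟩
  · exact ⟨1, by decide, T.tz.2⟩
  · exact ⟨7, by decide, T.tu.2⟩
  · exact ⟨6, by decide, (T.e (v := 6) (by norm_num)).2⟩

end Cfsg.Agent.AltType
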