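import Cfsg.Agent.AltType.Gen

/-!
The Z*-theorem in `C_G(u) / ⟨u⟩`: an involution `v` whose coset is weakly closed gives a normal four-group `⟨u, v⟩`
of `C_G(u)`, provided that the core is trivial because of three involutions `z, a, b` with product `u`.
-/

set_option autoImplicit false

namespace Cfsg.Agent.AltType

/-- Proper subgroups of a finite `p`-subgroup grow in their normalizer (copy of a lemma in `SmallSimple`). -/
theorem exists_normalizing {G : Type*} [Group G] [Finite G] {p : ℕ} [Fact p.Prime] {P D : Subgroup G}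
    (hP : IsPGroup p P) (h : D < P) : ∃ x ∈ P, x ∉ D ∧ ∀ y ∈ D, x * y * x⁻¹ ∈ D := by
  have : Group.IsNilpotent P := hP.isNilpotent
  have h1 : D.subgroupOf P < ⊤ := by
    rw [lt_top_iff_ne_top, Ne, Subgroup.subgroupOf_eq_top]
    exact not_le_of_gt h
  have h2 := Group.normalizerCondition_of_isNilpotent (G := P) _ h1
  obtain ⟨x, hx, hxD⟩ := SetLike.exists_of_lt h2
  refine ⟨x, x.2, hxD, ?_⟩
  rw [Subgroup.mem_normalizer_iff] at hx
  intro y hy
  exact Subgroup.mem_subgroupOf.1 ((hx ⟨y, h.le hy⟩).1 (Subgroup.mem_subgroupOf.2 hy))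

theorem pow_odd_of_sq {G : Type*} [Group G] {u : G} (huu : u * u = 1) {m : ℕ} (hm : Odd m) : u ^ m = u := by
  obtain ⟨k, rfl⟩ := hm
  rw [pow_add, pow_mul, pow_two, huu, one_pow, one_mul, pow_one]

theorem eq_one_of_four_odd {G : Type*} [Group G] {n : G} {m : ℕ} (hm : Odd m) (h4 : (n * n) * (n * n) = 1)
    (hnm : n ^ m = 1) : n = 1 := by
  have h1 : orderOf n ∣ 4 := orderOf_dvd_of_pow_eq_one (by
    rw [show (4 : ℕ) = 2 + 2 by norm_num, pow_add, pow_two, h4])
  have h2 : orderOf n ∣ m := orderOf_dvd_of_pow_eq_one hnm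
  have h3 : Nat.Coprime 4 m := by
    have : Nat.Coprime 2 m := (Nat.coprime_two_left).mpr hm
    exact (Nat.Coprime.pow_left 2 this)
  exact orderOf_eq_one_iff.mp (Nat.eq_one_of_dvd_coprimes h3 h1 h2)

variable {G : Type*} [Group G]

theorem normal_four [Finite G] {u v : G} (huu : u * u = 1) (hvv : v * v = 1) (hvu : v * u = u * v)
    (hu1 : u ≠ 1) (hv1 : v ≠ 1) (hvu' : v ≠ u) (P : Subgroup G) (hPu : ∀ x ∈ P, x * u = u * x)
    (hP : IsPGroup 2 P) (huP : u ∈ P) (hvP : v ∈ P)
    (hnorm : ∀ x, x * u = u * x → (∀ y ∈ P, x * y * x⁻¹ ∈ P) → x ∈ P)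
    (hW : ∀ x, x * u = u * x → x * v * x⁻¹ ∈ P → x * v * x⁻¹ = v ∨ x * v * x⁻¹ = v * u)
    {z a b : G} (hz : z * z = 1) (ha : a * a = 1) (hb : b * b = 1) (hzu : z * u = u * z) (hau : a * u = u * a)
    (hbu : b * u = u * b) (hzab : z * (a * b) = u)
    (hz4 : ∀ n, n * u = u * n → n * z = z * n → (n * n) * (n * n) = 1)
    (ha4 : ∀ n, n * u = u * n → n * a = a * n → (n * n) * (n * n) = 1)
    (hb4 : ∀ n, n * u = u * n → n * b = b * n → (n * n) * (n * n) = 1) :
    ∀ x, x * u = u * x → x * v * x⁻¹ = v ∨ x * v * x⁻¹ = v * u := by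
  have : Fact (Nat.Prime 2) := ⟨Nat.prime_two⟩
  set R : Subgroup G := Subgroup.centralizer {u} with hR
  have memR : ∀ x, x ∈ R ↔ x * u = u * x := fun x => by rw [hR, Subgroup.mem_centralizer_singleton_iff]
  let u' : R := ⟨u, (memR u).2 rfl⟩
  let v' : R := ⟨v, (memR v).2 hvu⟩
  have hu'u' : u' * u' = 1 := Subtype.ext huu
  set Z : Subgroup R := Subgroup.zpowers u' with hZ
  have memZ : ∀ x : R, x ∈ Z ↔ x = 1 ∨ x = u' := by
    intro x
    constructor
    · rintro ⟨i, rfl⟩
      obtain ⟨j, rfl | rfl⟩ := Int.even_or_odd' i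
      · left
        show u' ^ (2 * j) = 1
        rw [zpow_mul, show (2 : ℤ) = ((2 : ℕ) : ℤ) from rfl, zpow_natCast, pow_two, hu'u', one_zpow]
      · right
        show u' ^ (2 * j + 1) = u'
        rw [zpow_add, zpow_mul, show (2 : ℤ) = ((2 : ℕ) : ℤ) from rfl, zpow_natCast, pow_two, hu'u', one_zpow,
          one_mul, zpow_one]
    · rintro (rfl | rfl)
      · exact Z.one_mem
      · exact Subgroup.mem_zpowers _
  have hcomm : ∀ x : R, x * u' = u' * x := fun x => Subtype.ext ((memR x).1 x.2)
  have hZn : Z.Normal := by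
    constructor
    intro n hn x
    rcases (memZ n).1 hn with rfl | rfl
    · rw [mul_one, mul_inv_cancel]; exact Z.one_mem
    · rw [hcomm, mul_inv_cancel_right]; exact hn
  -- the Sylow subgroup
  have hP' : IsPGroup 2 (P.subgroupOf R) := hP.comap_of_injective R.subtype R.subtype_injective
  obtain ⟨S, hS⟩ := hP'.exists_le_sylow
  have hSP : (S : Subgroup R) ≤ P.subgroupOf R := by
    by_contra hnot
    have hlt : P.subgroupOf R < (S : Subgroup R) := lt_of_le_not_ge hS hnot
    obtain ⟨x, hxS, hxP, hxn⟩ := exists_normalizing S.2 hlt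
    apply hxP
    rw [Subgroup.mem_subgroupOf]
    apply hnorm _ ((memR _).1 x.2)
    intro y hy
    have hyR : y ∈ R := (memR y).2 (hPu y hy)
    exact Subgroup.mem_subgroupOf.1 (hxn ⟨y, hyR⟩ (Subgroup.mem_subgroupOf.2 hy))
  let q : R →* R ⧸ Z := QuotientGroup.mk' Z
  have hq : Function.Surjective q := QuotientGroup.mk'_surjective Z
  have q_eq : ∀ x y : R, q x = q y ↔ y = x ∨ y = x * u' := by
    intro x y
    show (QuotientGroup.mk' Z) x = (QuotientGroup.mk' Z) y ↔ _
    rw [QuotientGroup.mk'_apply, QuotientGroup.mk'_apply, QuotientGroup.eq, memZ]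
    constructor
    · rintro (e | e)
      · left; exact (inv_mul_eq_one.mp e).symm
      · right; rw [← e, mul_inv_cancel_left]
    · rintro (rfl | rfl)
      · left; exact inv_mul_cancel _
      · right; rw [inv_mul_cancel_left]
  have qu : q u' = 1 := by
    rw [← map_one q, q_eq]
    right; rw [hu'u']
  let S' : Sylow 2 (R ⧸ Z) := S.mapSurjective hq
  have hvS : q v' ∈ S' := by
    show q v' ∈ (S : Subgroup R).map q
    exact ⟨v', hS (Subgroup.mem_subgroupOf.2 hvP), rfl⟩
  have ov : orderOf (q v') = 2 := by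
    apply orderOf_eq_prime
    · rw [pow_two, ← map_mul]
      have : v' * v' = 1 := Subtype.ext hvv
      rw [this, map_one]
    · intro e
      rw [← map_one q, q_eq] at e
      rcases e with e | e
      · exact hv1 (congrArg Subtype.val e).symm
      · have h1 : (1 : G) = v * u := congrArg Subtype.val e
        apply hvu'
        calc v = v * (u * u) := by rw [huu, mul_one]
          _ = (v * u) * u := by group
          _ = u := by rw [← h1, one_mul]
  obtain ⟨N, hN, hodd, hNc⟩ := Cfsg.Agent.S0215.result S' (q v') ov hvS (by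
    intro y hy
    obtain ⟨x, rfl⟩ := hq y
    change q x * q v' * (q x)⁻¹ ∈ (S : Subgroup R).map q at hy
    obtain ⟨p, hp, hpx⟩ := hy
    rw [← map_inv, ← map_mul, ← map_mul] at hpx ⊢
    have hpP : (p : G) ∈ P := Subgroup.mem_subgroupOf.1 (hSP hp)
    have hxv : (x : G) * v * (x : G)⁻¹ ∈ P := by
      rw [q_eq] at hpx
      rcases hpx with e | e
      · have : (x : G) * v * (x : G)⁻¹ = p := congrArg Subtype.val e
        rw [this]; exact hpP
      · have : (x : G) * v * (x : G)⁻¹ = p * u := congrArg Subtype.val e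
        rw [this]; exact P.mul_mem hpP huP
    rw [eq_comm, q_eq]
    rcases hW x ((memR _).1 x.2) hxv with e | e
    · left; exact Subtype.ext e
    · right; exact Subtype.ext e)
  -- the inverting involutions
  have hinv : ∀ (t : G) (htu : t * u = u * t), t * t = 1 →
      (∀ n, n * u = u * n → n * t = t * n → (n * n) * (n * n) = 1) →
      ∀ n ∈ N, q ⟨t, (memR t).2 htu⟩ * n * q ⟨t, (memR t).2 htu⟩ = n⁻¹ := by
    intro t htu htt ht4
    set t' : R := ⟨t, (memR t).2 htu⟩ with ht'
    have ht't' : t' * t' = 1 := Subtype.ext htt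
    have hqt : q t' * q t' = 1 := by rw [← map_mul, ht't', map_one]
    have hqti : (q t')⁻¹ = q t' := inv_eq_of_mul_eq_one_left hqt
    refine inverts N hqt ?_ ?_
    · intro n hn
      have := hN.conj_mem n hn (q t')
      rwa [hqti] at this
    · intro n hn hc
      obtain ⟨x, rfl⟩ := hq n
      set m := Nat.card N with hm
      have hxm : q x ^ m = 1 := by
        have h1 : (⟨q x, hn⟩ : N) ^ m = 1 := pow_card_eq_one'
        exact congrArg Subtype.val h1
      -- a lift of odd order
      obtain ⟨y, hy, hym⟩ : ∃ y : R, q y = q x ∧ y ^ m = 1 := by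
        rw [← map_pow, ← map_one q, q_eq] at hxm
        rcases hxm with e | e
        · exact ⟨x, rfl, e.symm⟩
        · refine ⟨x * u', ?_, ?_⟩
          · rw [map_mul, qu, mul_one]
          · have hc2 : Commute x u' := hcomm x
            rw [hc2.mul_pow, pow_odd_of_sq hu'u' hodd]
            exact e.symm
      rw [← hy] at hc ⊢
      rw [← map_mul, ← map_mul, q_eq] at hc
      rcases hc with e | e
      · -- commuting
        have h1 := ht4 y ((memR _).1 y.2) (congrArg Subtype.val e)
        have h2 : y = 1 := eq_one_of_four_odd hodd (Subtype.ext h1) hym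
        rw [h2, map_one]
      · exfalso
        -- `y t = t y u`
        have h1 : t' * y * t'⁻¹ = y * u' := by
          have hti : t'⁻¹ = t' := inv_eq_of_mul_eq_one_left ht't'
          rw [hti]
          calc t' * y * t' = t' * (y * t') := by group
            _ = t' * (t' * y * u') := by rw [e]
            _ = (t' * t') * y * u' := by group
            _ = y * u' := by rw [ht't', one_mul]
        have h2 : (t' * y * t'⁻¹) ^ m = t' * y ^ m * t'⁻¹ := conj_pow
        rw [h1, hym] at h2
        have hc2 : Commute y u' := hcomm y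
        rw [hc2.mul_pow, hym, one_mul, pow_odd_of_sq hu'u' hodd, mul_one, mul_inv_cancel] at h2
        exact hu1 (congrArg Subtype.val h2)
  have hNbot : N = ⊥ := by
    rw [Subgroup.eq_bot_iff_forall]
    intro n hn
    set z' : R := ⟨z, (memR z).2 hzu⟩ with hz'
    set a' : R := ⟨a, (memR a).2 hau⟩ with ha'
    set b' : R := ⟨b, (memR b).2 hbu⟩ with hb'
    have i1 := hinv z hzu hz hz4
    have i2 := hinv a hau ha ha4
    have i3 := hinv b hbu hb hb4
    have hprod : q z' * (q a' * q b') = 1 := by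
      rw [← map_mul, ← map_mul]
      have : z' * (a' * b') = u' := Subtype.ext hzab
      rw [this, qu]
    have hprod' : (q b' * q a') * q z' = 1 := by
      have h1 : (q z' * (q a' * q b'))⁻¹ = 1 := by rw [hprod, inv_one]
      have ez : (q z')⁻¹ = q z' := inv_eq_of_mul_eq_one_left (by
        rw [← map_mul, show z' * z' = 1 from Subtype.ext hz, map_one])
      have ea : (q a')⁻¹ = q a' := inv_eq_of_mul_eq_one_left (by
        rw [← map_mul, show a' * a' = 1 from Subtype.ext ha, map_one])
      have eb : (q b')⁻¹ = q b' := inv_eq_of_mul_eq_one_left (by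
        rw [← map_mul, show b' * b' = 1 from Subtype.ext hb, map_one])
      rw [mul_inv_rev, mul_inv_rev, ez, ea, eb] at h1
      exact h1
    have h1 : q z' * (q a' * (q b' * n * q b') * q a') * q z' = n := by
      calc q z' * (q a' * (q b' * n * q b') * q a') * q z' =
          (q z' * (q a' * q b')) * n * ((q b' * q a') * q z') := by group
        _ = n := by rw [hprod, hprod', one_mul, mul_one]
    rw [i3 n hn, i2 _ (N.inv_mem hn), inv_inv, i1 n hn] at h1
    have h2 : n * n = 1 := by
      nth_rewrite 1 [← h1]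
      exact inv_mul_cancel n
    exact eq_one_of_odd N hodd hn (by rw [h2, one_mul])
  intro x hx
  have h1 := hNc (q ⟨x, (memR x).2 hx⟩)
  rw [hNbot, Subgroup.mem_bot] at h1
  have h2 : q v' * q ⟨x, (memR x).2 hx⟩ = q ⟨x, (memR x).2 hx⟩ * q v' := by
    calc q v' * q ⟨x, (memR x).2 hx⟩ = (q v' * q ⟨x, (memR x).2 hx⟩ * (q v')⁻¹ * (q ⟨x, (memR x).2 hx⟩)⁻¹) *
        (q ⟨x, (memR x).2 hx⟩ * q v') := by group
      _ = _ := by rw [h1, one_mul]
  rw [← map_mul, ← map_mul, q_eq] at h2
  rcases h2 with e | e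
  · left
    have h3 : x * v = v * x := congrArg Subtype.val e
    rw [h3]; group
  · right
    have h3 : x * v = v * x * u := congrArg Subtype.val e
    rw [h3]
    calc v * x * u * x⁻¹ = v * (x * u) * x⁻¹ := by group
      _ = v * (u * x) * x⁻¹ := by rw [hx]
      _ = v * u := by group

end Cfsg.Agent.AltType
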