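import Cfsg.Agent.AltType.CentT
import Cfsg.Agent.AltType.ZQuot
import Cfsg.Agent.AltType.Facts2

/-!
The centraliser of `u = z a b` normalises `T = {1, u, z s, a b s}`.
-/

set_option autoImplicit false
set_option maxRecDepth 100000
set_option linter.unusedSectionVars false

namespace Cfsg.Agent.AltType

variable {G : Type*} [Group G] {z a b c d r s g k : G}

theorem comm_mul {x p q : G} (h1 : x * p = p * x) (h2 : x * q = q * x) : x * (p * q) = (p * q) * x := by
  rw [← mul_assoc, h1, mul_assoc, h2, mul_assoc]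

theorem comm_cancel {x p q : G} (h1 : x * p = p * x) (h2 : x * (p * q) = (p * q) * x) : x * q = q * x := by
  have h3 : p * (x * q) = p * (q * x) := by rw [← mul_assoc, ← h1, mul_assoc, h2, mul_assoc]
  exact mul_left_cancel h3

theorem Rel2.eG_sq (h : Rel2 z a b c d r s g k) {v : ℕ} (hv : v < 16) : eG z a b s v * eG z a b s v = 1 := by
  rw [h.eG_mul hv hv, Nat.xor_self]; rfl

theorem Rel2.eG_comm (h : Rel2 z a b c d r s g k) {v w : ℕ} (hv : v < 16) (hw : w < 16) :
    eG z a b s v * eG z a b s w = eG z a b s w * eG z a b s v := by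
  rw [h.eG_mul hv hw, h.eG_mul hw hv, Nat.xor_comm]

/-- elements commuting with `z` and `a b s` -/
theorem Rel2.cent14 (h : Rel2 z a b c d r s g k) (hF : F1 z a b c d r s) {x : G} (hx : x * z = z * x)
    (hx14 : x * eG z a b s 14 = eG z a b s 14 * x) : (x * x) * (x * x) = 1 := by
  have hcd := h.act_mul h.act_c h.act_d
  have e9 : eG z a b s 9 * (c * d) = (c * d) * eG z a b s 14 := (h.act_app hcd (v := 9) (by norm_num)).1
  have e1 : z * (c * d) = (c * d) * z := (h.act_app hcd (v := 1) (by norm_num)).1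
  have y1 := conj_comm e1 hx
  have y9 := conj_comm e9 hx14
  have ys : (c * d * x * (c * d)⁻¹) * s = s * (c * d * x * (c * d)⁻¹) := comm_cancel y1 y9
  obtain ⟨w, hw, hw'⟩ := hF.cent_s y1 ys
  have h2 : (c * d * x * (c * d)⁻¹) * (c * d * x * (c * d)⁻¹) = 1 := by rw [hw', h.eG_sq hw]
  have h3 : x * x = 1 := by
    have h4 : (c * d * x * (c * d)⁻¹) * (c * d * x * (c * d)⁻¹) = (c * d) * (x * x) * (c * d)⁻¹ := by group
    rw [h4] at h2
    exact conj_eq_one_iff.mp h2
  rw [h3, mul_one]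

/-- conjugates of `v = z s` in `C_G(u)` that commute with `z` -/
theorem Rel2.weak [Finite G] (h : Rel2 z a b c d r s g k) (hF : F1 z a b c d r s) (hu : ¬ Fus z (z * (a * b)))
    {n : G} (hn : n * (z * (a * b)) = (z * (a * b)) * n)
    (hnz : (n * (z * s) * n⁻¹) * z = z * (n * (z * s) * n⁻¹)) :
    n * (z * s) * n⁻¹ = z * s ∨ n * (z * s) * n⁻¹ = a * (b * s) := by
  set w := n * (z * s) * n⁻¹ with hw
  have hvu : (z * s) * (z * (a * b)) = (z * (a * b)) * (z * s) :=
    h.eG_comm (v := 9) (w := 7) (by norm_num) (by norm_num)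
  have hvv : (z * s) * (z * s) = 1 := h.eG_sq (v := 9) (by norm_num)
  have huu : (z * (a * b)) * (z * (a * b)) = 1 := h.eG_sq (v := 7) (by norm_num)
  have hni : n⁻¹ * (z * (a * b)) = (z * (a * b)) * n⁻¹ := (cj_inv hn.symm).symm
  have hwu : w * (z * (a * b)) = (z * (a * b)) * w := by
    rw [hw]
    calc n * (z * s) * n⁻¹ * (z * (a * b)) = n * (z * s) * (n⁻¹ * (z * (a * b))) := by group
      _ = n * ((z * s) * (z * (a * b))) * n⁻¹ := by rw [hni]; group
      _ = (n * (z * (a * b))) * (z * s) * n⁻¹ := by rw [hvu]; group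
      _ = (z * (a * b)) * (n * (z * s) * n⁻¹) := by rw [hn]; group
  have hww : w * w = 1 := by
    rw [hw]
    calc n * (z * s) * n⁻¹ * (n * (z * s) * n⁻¹) = n * ((z * s) * (z * s)) * n⁻¹ := by group
      _ = 1 := by rw [hvv]; group
  have hw_eq : (z * (a * b)) * w = n * eG z a b s 14 * n⁻¹ := by
    rw [hw]
    have e1 : eG z a b s 14 = (z * (a * b)) * (z * s) := (h.eG_mul (v := 7) (w := 9) (by norm_num) (by norm_num)).symm
    rw [e1]
    calc (z * (a * b)) * (n * (z * s) * n⁻¹) = ((z * (a * b)) * n) * (z * s) * n⁻¹ := by group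
      _ = n * ((z * (a * b)) * (z * s)) * n⁻¹ := by rw [← hn]; group
  have fw : Fus (z * s) w := ⟨n⁻¹, by rw [hw]; group⟩
  have fuw : Fus (eG z a b s 14) ((z * (a * b)) * w) := ⟨n⁻¹, by rw [hw_eq]; group⟩
  have nw : ¬ Fus z w := fun e => h.nzt hF hu (v := 9) (by decide) (e.trans fw.symm)
  have nuw : ¬ Fus z ((z * (a * b)) * w) := fun e => h.nzt hF hu (v := 14) (by decide) (e.trans fuw.symm)
  -- classes in the centraliser of `z`
  have cls : ∀ x, x * z = z * x → x * x = 1 → x ≠ 1 → ¬ Fus z x →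
      ∃ y, y * z = z * y ∧ (x * y = y * (z * (a * b)) ∨ x * y = y * (z * s)) := by
    intro x hx hxx hx1 hxf
    rcases hF.invol hx hxx with e | e | ⟨y, hy, e | e | e | e | e⟩
    · exact absurd e hx1
    · exact absurd (e ▸ Fus.refl z) hxf
    · exact absurd ((h.zt (v := 2) (by decide)).trans (Fus.symm ⟨y, e⟩)) hxf
    · exact absurd ((h.zt (v := 4) (by decide)).trans (Fus.symm ⟨y, e⟩)) hxf
    · exact ⟨y, hy, Or.inl e⟩
    · exact absurd ((h.zt (v := 8) (by decide)).trans (Fus.symm ⟨y, e⟩)) hxf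
    · exact ⟨y, hy, Or.inr e⟩
  have ne9 : z * s ≠ 1 := fun e => by
    have := hF.eG_inj (v := 9) (w := 0) (by norm_num) (by norm_num) e
    norm_num at this
  have ne14 : eG z a b s 14 ≠ 1 := fun e => by
    have := hF.eG_inj (v := 14) (w := 0) (by norm_num) (by norm_num) e
    norm_num at this
  have huz : (z * (a * b)) * z = z * (z * (a * b)) := h.eG_comm (v := 7) (w := 1) (by norm_num) (by norm_num)
  have c1 := cls w hnz hww (fus_ne_one fw ne9) nw
  have c2 := cls ((z * (a * b)) * w) (by rw [mul_assoc, hnz, ← mul_assoc, huz, mul_assoc])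
    (by
      calc (z * (a * b)) * w * ((z * (a * b)) * w) = (z * (a * b)) * (w * (z * (a * b))) * w := by group
        _ = ((z * (a * b)) * (z * (a * b))) * (w * w) := by rw [hwu]; group
        _ = 1 := by rw [huu, hww, one_mul]) (fus_ne_one fuw ne14) nuw
  rcases hF.prop_W hnz hwu hww c1 c2 with e | e | ⟨m, hm, hm4, e⟩
  · exact Or.inl e
  · exact Or.inr e
  · exfalso
    -- `w ∈ A₃` outside `⟨z, u⟩`
    haveI := h.T'_normal
    have Y := h.hyp hF hu
    have hz'K : n⁻¹ * z * n ∈ KT z a b s := by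
      rw [mem_KT]
      constructor
      · calc n⁻¹ * z * n * (z * (a * b)) = n⁻¹ * z * (n * (z * (a * b))) := by group
          _ = n⁻¹ * (z * (z * (a * b))) * n := by rw [hn]; group
          _ = (n⁻¹ * (z * (a * b))) * z * n := by rw [← huz]; group
          _ = (z * (a * b)) * (n⁻¹ * z * n) := by rw [hni]; group
      · calc n⁻¹ * z * n * (z * s) = n⁻¹ * (z * w) * n := by rw [hw]; group
          _ = n⁻¹ * (w * z) * n := by rw [hnz]
          _ = (z * s) * (n⁻¹ * z * n) := by rw [hw]; group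
    have hsq : (QuotientGroup.mk' h.T') ⟨n⁻¹ * z * n, hz'K⟩ * (QuotientGroup.mk' h.T') ⟨n⁻¹ * z * n, hz'K⟩ = 1 := by
      rw [← map_mul]
      have : (⟨n⁻¹ * z * n, hz'K⟩ : KT z a b s) * ⟨n⁻¹ * z * n, hz'K⟩ = 1 := by
        apply Subtype.ext
        show n⁻¹ * z * n * (n⁻¹ * z * n) = 1
        calc n⁻¹ * z * n * (n⁻¹ * z * n) = n⁻¹ * (z * z) * n := by group
          _ = 1 := by rw [h.zz]; group
      rw [this, map_one]
    obtain ⟨q, hq⟩ := Y.exists_conj_mem hsq
    obtain ⟨y, rfl⟩ := QuotientGroup.mk'_surjective h.T' q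
    rw [← map_inv, ← map_mul, ← map_mul] at hq
    obtain ⟨e', ⟨j, hj, he'⟩, hmk⟩ := hq
    rw [QuotientGroup.mk'_apply, QuotientGroup.mk'_apply, QuotientGroup.eq] at hmk
    obtain ⟨τ, hτ, h1⟩ := hmk
    rw [Subgroup.coe_mul, Subgroup.coe_inv, Subgroup.coe_mul, Subgroup.coe_mul, Subgroup.coe_inv, he'] at h1
    change (eG z a b s j)⁻¹ * ((y : G)⁻¹ * (n⁻¹ * z * n) * y) = eG z a b s τ at h1
    have h2 : (y : G)⁻¹ * (n⁻¹ * z * n) * y = eG z a b s (j ^^^ τ) := by
      rw [← h.eG_mul hj (tT_lt hτ), ← h1]; group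
    set i := j ^^^ τ with hi
    have hi16 : i < 16 := xlt hj (tT_lt hτ)
    -- the element `n y`
    have m1 : z * (n * y) = (n * y) * eG z a b s i := by rw [← h2]; group
    have m7 : (z * (a * b)) * (n * y) = (n * y) * (z * (a * b)) := by
      rw [← mul_assoc, ← hn, mul_assoc, ← (mem_KT.1 y.2).1, mul_assoc]
    have mw : w * (n * y) = (n * y) * (z * s) := by
      rw [hw]
      calc n * (z * s) * n⁻¹ * (n * y) = n * ((z * s) * y) := by group
        _ = n * (y * (z * s)) := by rw [(mem_KT.1 y.2).2]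
        _ = (n * y) * (z * s) := by group
    have h3 := hF.third.swap
    have h3' := h.third.swap
    -- `E` conjugated into `A₃`
    have hmap : ∀ v : Fin 16, ∃ p : Fin 8, (n * y) * eG z a b s v * (n * y)⁻¹ = fG z (z * (a * b)) (z * (c * d)) p := by
      intro v
      have k1 := conj_comm m1 (h.eG_comm v.2 hi16)
      have k7 := conj_comm m7 (h.eG_comm v.2 (by norm_num : 7 < 16))
      have kw := conj_comm mw (h.eG_comm v.2 (by norm_num : 9 < 16))
      -- commutes with `z c d`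
      have kc : (n * y) * eG z a b s v * (n * y)⁻¹ * (z * (c * d)) =
          (z * (c * d)) * ((n * y) * eG z a b s v * (n * y)⁻¹) := by
        have e1 : w * fG z (z * (a * b)) (z * (c * d)) (m ^^^ 4) = z * (c * d) := by
          rw [e, h3'.fG_mul hm (xltF hm (by norm_num)), ← Nat.xor_assoc, Nat.xor_self, Nat.zero_xor]; rfl
        have hlow : (m ^^^ 4) = 0 ∨ (m ^^^ 4) = 1 ∨ (m ^^^ 4) = 2 ∨ (m ^^^ 4) = 3 := by
          have key : ∀ m < 8, 4 ≤ m → (m ^^^ 4) = 0 ∨ (m ^^^ 4) = 1 ∨ (m ^^^ 4) = 2 ∨ (m ^^^ 4) = 3 := by decide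
          exact key m hm hm4
        have e2 : (n * y) * eG z a b s v * (n * y)⁻¹ * fG z (z * (a * b)) (z * (c * d)) (m ^^^ 4) =
            fG z (z * (a * b)) (z * (c * d)) (m ^^^ 4) * ((n * y) * eG z a b s v * (n * y)⁻¹) := by
          rcases hlow with e0 | e0 | e0 | e0
          · rw [e0]; show _ * 1 = 1 * _; rw [mul_one, one_mul]
          · rw [e0]; exact k1
          · rw [e0]; exact k7
          · rw [e0]; exact comm_mul k1 k7
        have e3 := comm_mul kw e2
        rw [e1] at e3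
        exact e3
      obtain ⟨p, hp, hpe⟩ := h3.cent_ac k1 k7 kc
      exact ⟨⟨p, hp⟩, hpe⟩
    choose F hF' using hmap
    obtain ⟨v1, v2, hne, hv12⟩ := Fintype.exists_ne_map_eq_of_card_lt F (by decide)
    apply hne
    have e1 := hF' v1
    rw [hv12, ← hF' v2] at e1
    have e2 := mul_left_cancel (mul_right_cancel e1)
    exact Fin.ext (hF.eG_inj v1.2 v2.2 e2)

theorem Rel2.normal_T [Finite G] (h : Rel2 z a b c d r s g k) (hF : F1 z a b c d r s)
    (hu : ¬ Fus z (z * (a * b))) {x : G} (hx : x * (z * (a * b)) = (z * (a * b)) * x) :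
    x * (z * s) * x⁻¹ = z * s ∨ x * (z * s) * x⁻¹ = (z * s) * (z * (a * b)) := by
  have hG := h.act_g h.hg
  have hK := h.act_k h.hk
  set P : Subgroup G := Subgroup.centralizer {z} ⊓ Subgroup.centralizer {z * (a * b)} with hP
  have memP : ∀ y, y ∈ P ↔ y * z = z * y ∧ y * (z * (a * b)) = (z * (a * b)) * y := by
    intro y
    rw [hP, Subgroup.mem_inf, Subgroup.mem_centralizer_singleton_iff, Subgroup.mem_centralizer_singleton_iff]
  have ne : ∀ v < 16, v ≠ 0 → eG z a b s v ≠ 1 := fun v hv hv0 e =>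
    hv0 (hF.eG_inj hv (by norm_num : (0 : ℕ) < 16) e)
  refine normal_four (h.eG_sq (v := 7) (by norm_num)) (h.eG_sq (v := 9) (by norm_num))
    (h.eG_comm (v := 9) (w := 7) (by norm_num) (by norm_num)) (ne 7 (by norm_num) (by norm_num))
    (ne 9 (by norm_num) (by norm_num)) ?_ P (fun y hy => ((memP y).1 hy).2) ?_ ?_ ?_ ?_ ?_ h.zz h.aa h.bb
    (h.eG_comm (v := 1) (w := 7) (by norm_num) (by norm_num)) (h.eG_comm (v := 2) (w := 7) (by norm_num) (by norm_num))
    (h.eG_comm (v := 4) (w := 7) (by norm_num) (by norm_num)) rfl ?_ ?_ ?_ x hx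
  · intro e
    have := hF.eG_inj (v := 9) (w := 7) (by norm_num) (by norm_num) e
    norm_num at this
  · -- 2-group
    intro y
    refine ⟨2, ?_⟩
    apply Subtype.ext
    obtain ⟨h1, h2⟩ := (memP _).1 y.2
    have h3 := hF.third.cent_exp h1 h2
    show (y : G) ^ 2 ^ 2 = 1
    rw [show (2 : ℕ) ^ 2 = 2 + 2 by norm_num, pow_add, pow_two, h3]
  · exact (memP _).2 ⟨h.eG_comm (v := 7) (w := 1) (by norm_num) (by norm_num), rfl⟩
  · exact (memP _).2 ⟨h.eG_comm (v := 9) (w := 1) (by norm_num) (by norm_num),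
      h.eG_comm (v := 9) (w := 7) (by norm_num) (by norm_num)⟩
  · -- self-normalising
    intro y hyu hyP
    have hyN : y ∈ Subgroup.normalizer (P : Set G) := Subgroup.mem_normalizer_fintype hyP
    have hzP : z ∈ P := (memP z).2 ⟨rfl, h.eG_comm (v := 1) (w := 7) (by norm_num) (by norm_num)⟩
    have h1 := (memP _).1 (hyP z hzP)
    obtain ⟨v, hv, hyz⟩ := hF.centerP h1.1 h1.2 (by
      intro p hp hpu
      have hpP : p ∈ P := (memP p).2 ⟨hp, hpu⟩
      have h2 : y⁻¹ * p * y ∈ P := (Subgroup.mem_normalizer_iff''.mp hyN p).mp hpP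
      have h3 := ((memP _).1 h2).1
      calc y * z * y⁻¹ * p = y * (z * (y⁻¹ * p * y)) * y⁻¹ := by group
        _ = y * ((y⁻¹ * p * y) * z) * y⁻¹ := by rw [h3]
        _ = p * (y * z * y⁻¹) := by group)
    have hf : Fus z (eG z a b s v) := by rw [← hyz]; exact ⟨y⁻¹, by group⟩
    have hv1 : v = 1 := by
      simp only [List.mem_cons, List.not_mem_nil, or_false] at hv
      rcases hv with rfl | rfl | rfl | rfl
      · exact absurd hf (h.nzt hF hu (by decide))
      · rfl
      · exact absurd hf (h.nzt hF hu (by decide))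
      · exact absurd hf (h.nzt hF hu (by decide))
    rw [hv1] at hyz
    have hyz' : y * z * y⁻¹ = z := hyz
    rw [mul_inv_eq_iff_eq_mul] at hyz'
    exact (memP y).2 ⟨hyz', hyu⟩
  · intro y hyu hyP
    have h1 := ((memP _).1 hyP).1
    rcases h.weak hF hu hyu h1 with e | e
    · exact Or.inl e
    · right
      exact e.trans (h.eG_mul (v := 9) (w := 7) (by norm_num) (by norm_num)).symm
  · intro y hyu hyz
    exact hF.third.cent_exp hyz hyu
  · intro y hyu hya
    have e1 := conj_comm hG.e0 hya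
    have e2 := conj_comm (h.act_app hG (v := 14) (by norm_num)).1 hyu
    have e3 := h.cent14 hF e1 e2
    have e4 : (g * y * g⁻¹ * (g * y * g⁻¹)) * (g * y * g⁻¹ * (g * y * g⁻¹)) = g * ((y * y) * (y * y)) * g⁻¹ := by
      group
    rw [e4] at e3
    exact conj_eq_one_iff.mp e3
  · intro y hyu hyb
    have e1 := conj_comm hK.e0 hyb
    have e2 := conj_comm (h.act_app hK (v := 14) (by norm_num)).1 hyu
    have e3 := h.cent14 hF e1 e2
    have e4 : (k * y * k⁻¹ * (k * y * k⁻¹)) * (k * y * k⁻¹ * (k * y * k⁻¹)) = k * ((y * y) * (y * y)) * k⁻¹ := by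
      group
    rw [e4] at e3
    exact conj_eq_one_iff.mp e3

end Cfsg.Agent.AltType
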