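import Cfsg.Agent.AltType.CentU

/-!
Closing argument, and the case where `C_G(T) / T` has order 12: `G ≅ A₈`.
-/

set_option autoImplicit false
set_option maxRecDepth 100000
set_option linter.unusedSectionVars false

namespace Cfsg.Agent.AltType

variable {G : Type*} [Group G] {z a b c d r s g k : G}

theorem involution_fixes [Finite G] {i : G} (hii : i * i = 1) {X : Type*} [MulAction G X] [Finite X]
    (hodd : Odd (Nat.card X)) : ∃ x : X, i • x = x := by
  have : Fact (Nat.Prime 2) := ⟨Nat.prime_two⟩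
  have hp : IsPGroup 2 (Subgroup.zpowers i) := by
    intro y
    refine ⟨1, ?_⟩
    obtain ⟨y, m, hm⟩ := y
    apply Subtype.ext
    show y ^ 2 ^ 1 = 1
    have hm' : i ^ m = y := hm
    rw [pow_one, ← hm', ← zpow_natCast, ← zpow_mul, mul_comm, zpow_mul, zpow_natCast, pow_two, hii, one_zpow]
  have h1 := hp.card_modEq_card_fixedPoints X
  have h2 : Nat.card (MulAction.fixedPoints (Subgroup.zpowers i) X) ≠ 0 := by
    intro h0
    rw [h0] at h1
    have h3 : Nat.card X % 2 = 0 := h1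
    rw [Nat.odd_iff] at hodd
    omega
  have h4 : Nonempty (MulAction.fixedPoints (Subgroup.zpowers i) X) := by
    by_contra hne
    rw [not_nonempty_iff] at hne
    exact h2 (Nat.card_of_isEmpty)
  obtain ⟨⟨x, hx⟩⟩ := h4
  exact ⟨x, hx ⟨i, Subgroup.mem_zpowers i⟩⟩

/-- every involution of an overgroup of odd index of the centraliser is conjugate in it to `z` or `u` -/
theorem Rel2.inv_in [Finite G] (h : Rel2 z a b c d r s g k) (hF : F1 z a b c d r s) (H : Subgroup G)
    (hC : Subgroup.centralizer {z} ≤ H) (hg : g ∈ H) (hk : k ∈ H)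
    (hodd : Odd ((Subgroup.centralizer {z}).relIndex H)) {i : G} (hi : i ∈ H) (hii : i * i = 1) (hi1 : i ≠ 1) :
    ∃ n ∈ H, i * n = n * z ∨ i * n = n * (z * (a * b)) := by
  have cz : ∀ y, y * z = z * y → y ∈ H := fun y hy => hC (hF.mem_cent.2 hy)
  -- conjugate into the centraliser
  obtain ⟨x, hx⟩ := involution_fixes (G := H) (i := ⟨i, hi⟩) (Subtype.ext hii)
    (X := H ⧸ ((Subgroup.centralizer {z}).subgroupOf H)) hodd
  induction x using QuotientGroup.induction_on with | H n => ?_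
  have hx' : ((((⟨i, hi⟩ : H) * n : H)) : H ⧸ ((Subgroup.centralizer {z}).subgroupOf H)) = (n : _) := hx
  rw [eq_comm, QuotientGroup.eq, Subgroup.mem_subgroupOf] at hx'
  rw [Subgroup.coe_mul, Subgroup.coe_inv, Subgroup.coe_mul] at hx'
  have h1 : ((n : G)⁻¹ * (i * n)) * z = z * ((n : G)⁻¹ * (i * n)) := hF.mem_cent.1 hx'
  have e0 : i * (n : G) = n * ((n : G)⁻¹ * (i * n)) := by group
  have h2 : ((n : G)⁻¹ * (i * n)) * ((n : G)⁻¹ * (i * n)) = 1 := by
    calc ((n : G)⁻¹ * (i * n)) * ((n : G)⁻¹ * (i * n)) = (n : G)⁻¹ * (i * i) * n := by group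
      _ = 1 := by rw [hii]; group
  rcases hF.invol h1 h2 with e | e | ⟨y, hy, e | e | e | e | e⟩
  · exfalso
    apply hi1
    rw [e, mul_one] at e0
    exact mul_eq_right.mp e0
  · rw [e] at e0
    exact ⟨n, n.2, Or.inl e0⟩
  · exact ⟨n * (y * g⁻¹), H.mul_mem n.2 (H.mul_mem (cz y hy) (H.inv_mem hg)),
      Or.inl (cj_mul e0 (cj_mul e (cj_inv h.hg.zg)))⟩
  · exact ⟨n * (y * k⁻¹), H.mul_mem n.2 (H.mul_mem (cz y hy) (H.inv_mem hk)),
      Or.inl (cj_mul e0 (cj_mul e (cj_inv h.hk.zg)))⟩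
  · exact ⟨n * y, H.mul_mem n.2 (cz y hy), Or.inr (cj_mul e0 e)⟩
  · exact ⟨n * (y * (g⁻¹ * k⁻¹)), H.mul_mem n.2 (H.mul_mem (cz y hy) (H.mul_mem (H.inv_mem hg) (H.inv_mem hk))),
      Or.inl (cj_mul e0 (cj_mul e (cj_mul (cj_inv h.hg.bg) (cj_inv h.hk.zg))))⟩
  · have e7 : (z * (a * b)) * g = g * (z * s) := (h.act_app (h.act_g h.hg) (v := 7) (by norm_num)).1
    exact ⟨n * (y * g⁻¹), H.mul_mem n.2 (H.mul_mem (cz y hy) (H.inv_mem hg)),
      Or.inr (cj_mul e0 (cj_mul e (cj_inv e7)))⟩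

theorem Rel2.closing [Finite G] [IsSimpleGroup G] (h : Rel2 z a b c d r s g k) (hF : F1 z a b c d r s)
    (hu : ¬ Fus z (z * (a * b))) (H : Subgroup G)
    (hC : Subgroup.centralizer {z} ≤ H) (hg : g ∈ H) (hk : k ∈ H)
    (hodd : Odd ((Subgroup.centralizer {z}).relIndex H))
    (hCu : ∀ x, x * (z * (a * b)) = (z * (a * b)) * x → x ∈ H) : H = ⊤ := by
  by_contra hne
  have cz : ∀ y, y * z = z * y → y ∈ H := fun y hy => hC (hF.mem_cent.2 hy)
  apply hu
  refine strong H hne ?_ (cz z rfl) (cz _ (h.eG_comm (v := 7) (w := 1) (by norm_num) (by norm_num))) h.zz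
    (h.eG_sq (v := 7) (by norm_num)) hF.z_ne_one ?_
  · intro i hi hii hi1 x hx
    obtain ⟨n, hn, e | e⟩ := h.inv_in hF H hC hg hk hodd hi hii hi1
    · have h1 := conj_comm (cj_inv e) hx
      exact mem_of_conj (H.inv_mem hn) (cz _ h1)
    · have h1 := conj_comm (cj_inv e) hx
      exact mem_of_conj (H.inv_mem hn) (hCu _ h1)
  · intro e
    have := hF.eG_inj (v := 7) (w := 0) (by norm_num) (by norm_num) e
    norm_num at this

/-- `C_G(u) ≤ H` as soon as `C_G(T) ≤ H` -/
theorem Rel2.centU_le [Finite G] (h : Rel2 z a b c d r s g k) (hF : F1 z a b c d r s)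
    (hu : ¬ Fus z (z * (a * b))) (H : Subgroup G) (hc : c ∈ H) (hd : d ∈ H) (hK : KT z a b s ≤ H) {x : G}
    (hx : x * (z * (a * b)) = (z * (a * b)) * x) : x ∈ H := by
  rcases h.normal_T hF hu hx with e | e
  · apply hK
    rw [mem_KT]
    refine ⟨hx, ?_⟩
    rwa [mul_inv_eq_iff_eq_mul] at e
  · have hcd := h.act_mul h.act_c h.act_d
    have e9 : eG z a b s 9 * (c * d) = (c * d) * eG z a b s 14 := (h.act_app hcd (v := 9) (by norm_num)).1
    have e7 : eG z a b s 7 * (c * d) = (c * d) * eG z a b s 7 := (h.act_app hcd (v := 7) (by norm_num)).1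
    have e14 : (z * s) * (z * (a * b)) = eG z a b s 14 := h.eG_mul (v := 9) (w := 7) (by norm_num) (by norm_num)
    have h1 : (c * d) * x ∈ KT z a b s := by
      rw [mem_KT]
      constructor
      · rw [mul_assoc, hx, ← mul_assoc]
        show c * d * eG z a b s 7 * x = eG z a b s 7 * (c * d * x)
        rw [← e7, mul_assoc]
      · have h2 : x * (z * s) = eG z a b s 14 * x := by
          rw [← e14, ← e]; group
        rw [mul_assoc, h2, ← mul_assoc]
        show c * d * eG z a b s 14 * x = eG z a b s 9 * (c * d * x)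
        rw [← e9, mul_assoc]
    have h2 := H.mul_mem (H.inv_mem (H.mul_mem hc hd)) (hK h1)
    rwa [inv_mul_cancel_left] at h2

/-! ### orders -/

theorem Rel2.card_T' (h : Rel2 z a b c d r s g k) (hF : F1 z a b c d r s) : Nat.card h.T' = 4 := by
  have hlt : ∀ i : Fin 4, [0, 7, 9, 14].getD (i : ℕ) 0 ∈ tT := by decide
  let f : Fin 4 → h.T' := fun i =>
    ⟨h.el ([0, 7, 9, 14].getD (i : ℕ) 0) (tT_lt (hlt i)), _, hlt i, rfl⟩
  have hf : Function.Bijective f := by
    constructor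
    · intro i j hij
      have h1 : eG z a b s ([0, 7, 9, 14].getD (i : ℕ) 0) = eG z a b s ([0, 7, 9, 14].getD (j : ℕ) 0) :=
        congrArg (fun x : h.T' => ((x : KT z a b s) : G)) hij
      have h2 := hF.eG_inj (tT_lt (hlt i)) (tT_lt (hlt j)) h1
      revert h2
      fin_cases i <;> fin_cases j <;> decide
    · rintro ⟨⟨y, hy⟩, v, hv, hyv⟩
      have hyv' : y = eG z a b s v := hyv
      subst hyv'
      simp only [tT, List.mem_cons, List.not_mem_nil, or_false] at hv
      rcases hv with rfl | rfl | rfl | rfl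
      · exact ⟨0, rfl⟩
      · exact ⟨1, rfl⟩
      · exact ⟨2, rfl⟩
      · exact ⟨3, rfl⟩
  rw [← Nat.card_congr (Equiv.ofBijective f hf), Nat.card_fin]

theorem Rel2.card_E' (h : Rel2 z a b c d r s g k) (hF : F1 z a b c d r s) : Nat.card h.E' = 16 := by
  let f : Fin 16 → h.E' := fun i => ⟨h.el i i.2, i, i.2, rfl⟩
  have hf : Function.Bijective f := by
    constructor
    · intro i j hij
      have h1 : eG z a b s i = eG z a b s j := congrArg (fun x : h.E' => ((x : KT z a b s) : G)) hij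
      exact Fin.ext (hF.eG_inj i.2 j.2 h1)
    · rintro ⟨⟨y, hy⟩, v, hv, hyv⟩
      have hyv' : y = eG z a b s v := hyv
      subst hyv'
      exact ⟨⟨v, hv⟩, rfl⟩
  rw [← Nat.card_congr (Equiv.ofBijective f hf), Nat.card_fin]

/-- the element `ρ = g⁻¹ k` of order three in `C_G(T)` -/
theorem Rel2.rho_mem (h : Rel2 z a b c d r s g k) : g⁻¹ * k ∈ KT z a b s := by
  have hG := h.act_g h.hg
  have hK := h.act_k h.hk
  rw [mem_KT]
  constructor
  · have e1 : eG z a b s 14 * g = g * eG z a b s 7 := (h.act_app hG (v := 14) (by norm_num)).1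
    have e2 : eG z a b s 14 * k = k * eG z a b s 7 := (h.act_app hK (v := 14) (by norm_num)).1
    exact (cj_mul (cj_inv e1) e2).symm
  · have e1 : eG z a b s 7 * g = g * eG z a b s 9 := (h.act_app hG (v := 7) (by norm_num)).1
    have e2 : eG z a b s 7 * k = k * eG z a b s 9 := (h.act_app hK (v := 7) (by norm_num)).1
    exact (cj_mul (cj_inv e1) e2).symm

theorem Rel2.rho_cube (h : Rel2 z a b c d r s g k) : (g⁻¹ * k) ^ 3 = 1 := by
  have hc : Commute g⁻¹ k := Commute.inv_left h.gk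
  have h1 : g ^ 3 = 1 := by rw [pow_succ, pow_two, mul_assoc]; exact h.hg.g3
  have h2 : k ^ 3 = 1 := by rw [pow_succ, pow_two, mul_assoc]; exact h.hk.g3
  rw [hc.mul_pow, inv_pow, h1, h2, inv_one, one_mul]

theorem Rel2.rho_ne (h : Rel2 z a b c d r s g k) (hF : F1 z a b c d r s) : g⁻¹ * k ≠ 1 := by
  intro e
  have hgk : k = g := by rw [inv_mul_eq_one] at e; exact e.symm
  have h1 := h.hk.zg
  rw [hgk, h.hg.zg] at h1
  have h2 := mul_left_cancel h1
  have := hF.eG_inj (v := 2) (w := 4) (by norm_num) (by norm_num) h2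
  norm_num at this

theorem Rel2.card_KT [Finite G] (h : Rel2 z a b c d r s g k) (hF : F1 z a b c d r s)
    (hu : ¬ Fus z (z * (a * b))) : Nat.card (KT z a b s) = 48 ∨
      (haveI := h.T'_normal; Nat.card (KT z a b s ⧸ h.T') = 60) := by
  haveI := h.T'_normal
  have Y := h.hyp hF hu
  have h1 := Subgroup.card_eq_card_quotient_mul_card_subgroup h.T'
  rw [h.card_T' hF] at h1
  rcases Y.card_cases with e | e | e
  · exfalso
    rw [e] at h1
    -- `ρ` has order three, but the order of the group is 16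
    have h2 : orderOf (⟨g⁻¹ * k, h.rho_mem⟩ : KT z a b s) = 3 := by
      apply orderOf_eq_prime
      · exact Subtype.ext h.rho_cube
      · intro e; exact h.rho_ne hF (congrArg Subtype.val e)
    have h3 := orderOf_dvd_natCard (⟨g⁻¹ * k, h.rho_mem⟩ : KT z a b s)
    rw [h2, h1] at h3
    norm_num at h3
  · left; rw [h1, e]
  · right; exact e

/-- if `|C_G(T)| = 48` then it is contained in `H` -/
theorem Rel2.KT_le [Finite G] (h : Rel2 z a b c d r s g k) (hF : F1 z a b c d r s)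
    (h48 : Nat.card (KT z a b s) = 48) (H : Subgroup G) (hC : Subgroup.centralizer {z} ≤ H) (hg : g ∈ H)
    (hk : k ∈ H) : KT z a b s ≤ H := by
  have cz : ∀ y, y * z = z * y → y ∈ H := fun y hy => hC (hF.mem_cent.2 hy)
  have h1 : h.E' ≤ H.subgroupOf (KT z a b s) := by
    rintro ⟨x, hx⟩ ⟨v, hv, hxv⟩
    rw [Subgroup.mem_subgroupOf]
    have hxv' : x = eG z a b s v := hxv
    subst hxv'
    exact cz _ (h.eG_comm (w := 1) hv (by norm_num))
  have h2 : (⟨g⁻¹ * k, h.rho_mem⟩ : KT z a b s) ∈ H.subgroupOf (KT z a b s) := by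
    rw [Subgroup.mem_subgroupOf]
    exact H.mul_mem (H.inv_mem hg) hk
  have h3 : orderOf (⟨g⁻¹ * k, h.rho_mem⟩ : KT z a b s) = 3 := by
    apply orderOf_eq_prime
    · exact Subtype.ext h.rho_cube
    · intro e; exact h.rho_ne hF (congrArg Subtype.val e)
  have d1 := Subgroup.card_dvd_of_le h1
  rw [h.card_E' hF] at d1
  have d2 := (H.subgroupOf (KT z a b s)).orderOf_dvd_natCard h2
  rw [h3] at d2
  have d3 : 48 ∣ Nat.card (H.subgroupOf (KT z a b s)) := by
    have := Nat.Coprime.mul_dvd_of_dvd_of_dvd (by norm_num : Nat.Coprime 16 3) d1 d2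
    simpa using this
  have h4 : H.subgroupOf (KT z a b s) = ⊤ := by
    apply Subgroup.eq_top_of_card_eq
    have h5 := Nat.le_of_dvd Nat.card_pos d3
    have h6 : Nat.card (H.subgroupOf (KT z a b s)) ≤ Nat.card (KT z a b s) := Subgroup.card_le_card_group _
    omega
  exact Subgroup.subgroupOf_eq_top.mp h4

/-- the range of a homomorphism containing the generators -/
theorem Rel2.range_facts [Finite G] (h : Rel2 z a b c d r s g k) (hF : F1 z a b c d r s) {X : Type*} [Group X]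
    [Finite X] (φ : X →* G) (hφ : ∀ n < 12, l12 z a b c d r s g k n ∈ φ.range) (m : ℕ)
    (hX : Nat.card X = 192 * m) (hm : Odd m) :
    Subgroup.centralizer {z} ≤ φ.range ∧ g ∈ φ.range ∧ k ∈ φ.range ∧ c ∈ φ.range ∧ d ∈ φ.range ∧
      Odd ((Subgroup.centralizer {z}).relIndex φ.range) := by
  have hC : Subgroup.centralizer {z} ≤ φ.range := by
    rw [hF.cent, Subgroup.closure_le]
    rintro x (rfl | rfl | rfl | rfl | rfl | rfl | rfl)
    · exact hφ 0 (by norm_num)
    · exact hφ 1 (by norm_num)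
    · exact hφ 2 (by norm_num)
    · exact hφ 3 (by norm_num)
    · exact hφ 4 (by norm_num)
    · exact hφ 6 (by norm_num)
    · exact hφ 5 (by norm_num)
  refine ⟨hC, hφ 8 (by norm_num), hφ 10 (by norm_num), hφ 3 (by norm_num), hφ 4 (by norm_num), ?_⟩
  have h1 : Nat.card φ.range ∣ 192 * m := by
    rw [← hX]; exact Subgroup.card_range_dvd φ
  have h2 := Subgroup.card_mul_index ((Subgroup.centralizer {z}).subgroupOf φ.range)
  rw [Nat.card_congr (Subgroup.subgroupOfEquivOfLe hC).toEquiv, hF.card] at h2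
  have h3 : (Subgroup.centralizer {z}).relIndex φ.range ∣ m := by
    rw [← h2] at h1
    exact (Nat.mul_dvd_mul_iff_left (by norm_num)).mp h1
  exact Odd.of_dvd_nat hm h3

/-- the case `|C_G(T)| = 48`: `G ≅ A₈` -/
theorem Rel2.iso_A8 [Finite G] [IsSimpleGroup G] (h : Rel2 z a b c d r s g k) (hF : F1 z a b c d r s)
    (hu : ¬ Fus z (z * (a * b))) (h48 : Nat.card (KT z a b s) = 48) : Nonempty (G ≃* alternatingGroup (Fin 8)) := by
  obtain ⟨φ, hφ⟩ := h.exists_hom
  obtain ⟨f1, f2, f3, f4, f5, f6⟩ := h.range_facts hF φ (fun n hn => ⟨_, hφ n hn⟩) 105 card_A8 (by decide)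
  have htop := h.closing hF hu φ.range f1 f2 f3 f6
    (fun x hx => h.centU_le hF hu φ.range f4 f5 (h.KT_le hF h48 φ.range f1 f2 f3) hx)
  have hs : IsSimpleGroup (alternatingGroup (Fin 8)) := alternatingGroup.isSimpleGroup (by simp)
  have hinj : Function.Injective φ := by
    rw [← MonoidHom.ker_eq_bot_iff]
    rcases φ.normal_ker.eq_bot_or_eq_top with e | e
    · exact e
    · exfalso
      apply hF.z_ne_one
      have h1 : (⟨lq 0, lq_mem (by norm_num)⟩ : alternatingGroup (Fin 8)) ∈ φ.ker := by rw [e]; trivial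
      rw [MonoidHom.mem_ker, hφ 0 (by norm_num)] at h1
      exact h1
  exact ⟨(MulEquiv.ofBijective φ ⟨hinj, MonoidHom.range_eq_top.mp htop⟩).symm⟩

end Cfsg.Agent.AltType
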