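import Cfsg.Agent.AltType.Nine
import Cfsg.Agent.AltType.CaseI

/-!
A finite simple group in which the centraliser of an involution is as in `A₈` or `A₉` is `A₈` or `A₉`.
-/

set_option autoImplicit false

namespace Cfsg.Agent.AltType

variable {G : Type*} [Group G] [Finite G] [IsSimpleGroup G] {z a b c d r s : G}

theorem F1.iso_of_two (h : F1 z a b c d r s) (ha : Fus z a) (hb : Fus z b) :
    Nonempty (G ≃* alternatingGroup (Fin 8)) ∨ Nonempty (G ≃* alternatingGroup (Fin 9)) := by
  obtain ⟨s', h', g, k, hg, hk, hgk, hu⟩ := h.exists_pair ha hb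
  have R : Rel2 z a b c d r s' g k := ⟨h'.toRel, hg, hk, hgk⟩
  rcases R.card_KT h' hu with e | e
  · left; exact R.iso_A8 h' hu e
  · right; exact R.iso_A9 h' hu e

theorem F1.iso_of_one (hc : ¬ IsMulCommutative G) (h : F1 z a b c d r s) (ha : Fus z a) :
    Nonempty (G ≃* alternatingGroup (Fin 8)) ∨ Nonempty (G ≃* alternatingGroup (Fin 9)) := by
  by_cases hb : Fus z b
  · exact h.iso_of_two ha hb
  by_cases hu : Fus z (z * (a * b))
  · exact h.third.iso_of_two ha hu
  exfalso
  obtain ⟨s', hs', g, hg⟩ := h.exists_g ha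
  have h' : F1 z a b c d r s' := by
    rcases hs' with rfl | rfl
    · exact h
    · exact h.twist
  exact h'.onlyOne hc hg hb hu

/-- recognition of `A₈` and `A₉` by the centraliser of a 2-central involution -/
theorem F1.iso (hc : ¬ IsMulCommutative G) (h : F1 z a b c d r s) :
    Nonempty (G ≃* alternatingGroup (Fin 8)) ∨ Nonempty (G ≃* alternatingGroup (Fin 9)) := by
  rcases h.caseI hc with e | e | e
  · exact h.iso_of_one hc e
  · exact h.swap.iso_of_one hc e
  · exact h.third.swap.iso_of_one hc e

end Cfsg.Agent.AltType
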