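import Cfsg.Agent.LargeExtra.W2.PlusHom


import Cfsg.Agent.J2Type.SimpleRed
import Cfsg.Agent.AltType.Main

/-!
# S1759, case F1: from the interface `CaseF1` to `AltType.F1`

The twisted case `s² = z` does not occur (adapted from `LargeExtra.W2.MTwelve`, by helper221).
-/

set_option autoImplicit false

namespace Cfsg.Agent.AltTypeConv

open Cfsg.Agent.Co2Type.Quad Cfsg.Agent.LargeExtra.Model Cfsg.Agent.LargeExtra.Pres
open Cfsg.Agent.LargeExtra Cfsg.Agent.LargeExtra.W2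
open Cfsg.Agent.LargeExtra.W2.PlusHom

/-- conjugation by `v` in the model -/
def sv : M →* M := endo mj (mi * mj) (mk * ml) mk (by decide +kernel)
/-- conjugation by `y` in the model -/
def sy : M →* M := endo mk ml mi mj (by decide +kernel)

section

variable {G : Type*} [Group G] {Q : Subgroup G} {z i j k l v y : G}

theorem v_hom (h : CaseF1 Q z i j k l v y) (x : M) :
    v * hom h.toPlus x * v⁻¹ = hom h.toPlus (sv x) := by
  apply conj_hom h.toPlus h.w_act
  · exact hom_j _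
  · rw [map_mul, hom_i, hom_j]
  · rw [map_mul, hom_k, hom_l]
  · exact hom_k _

theorem y_hom (h : CaseF1 Q z i j k l v y) (x : M) :
    y * hom h.toPlus x * y⁻¹ = hom h.toPlus (sy x) := by
  apply conj_hom h.toPlus h.s_act
  · exact hom_k _
  · exact hom_l _
  · exact hom_i _
  · exact hom_j _

theorem v_hom' (h : CaseF1 Q z i j k l v y) (x : M) :
    v * hom h.toPlus x = hom h.toPlus (sv x) * v := by
  rw [← v_hom h]; group

theorem y_hom' (h : CaseF1 Q z i j k l v y) (x : M) :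
    y * hom h.toPlus x = hom h.toPlus (sy x) * y := by
  rw [← y_hom h]; group

theorem v_z (h : CaseF1 Q z i j k l v y) : v * z = z * v := by
  have := h.w_act.z
  rwa [mul_inv_eq_iff_eq_mul] at this

theorem y_z (h : CaseF1 Q z i j k l v y) : y * z = z * y := by
  have := h.s_act.z
  rwa [mul_inv_eq_iff_eq_mul] at this

theorem yv (h : CaseF1 Q z i j k l v y) : y * v = v ^ 2 * y := by
  have h1 : v⁻¹ = v ^ 2 := by
    rw [inv_eq_iff_mul_eq_one, ← pow_succ']; exact h.w3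
  rw [← h1, ← h.ws]; group

theorem y_pow_v (h : CaseF1 Q z i j k l v y) (b a : ℕ) : ∃ a', y ^ b * v ^ a = v ^ a' * y ^ b := by
  have h1 : ∀ a, ∃ a', y * v ^ a = v ^ a' * y := by
    intro a
    refine ⟨2 * a, ?_⟩
    have : SemiconjBy y v (v ^ 2) := yv h
    rw [pow_mul]
    exact (this.pow_right a).eq
  induction b generalizing a with
  | zero => exact ⟨a, by simp⟩
  | succ b ih =>
    obtain ⟨a1, ha1⟩ := ih a
    obtain ⟨a2, ha2⟩ := h1 a1
    refine ⟨a2, ?_⟩
    rw [pow_succ', mul_assoc, ha1, ← mul_assoc, ha2, mul_assoc]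

/-- normal form `q v^a y^b` with exponent `b` -/
def P (Q : Subgroup G) (v y : G) (c : G) (b : ℕ) : Prop := ∃ q ∈ Q, ∃ a : ℕ, c = q * v ^ a * y ^ b

theorem vy_z (h : CaseF1 Q z i j k l v y) (a b : ℕ) : (v ^ a * y ^ b) * z = z * (v ^ a * y ^ b) := by
  have h1 : Commute v z := v_z h
  have h2 : Commute y z := y_z h
  exact ((h1.pow_left a).mul_left (h2.pow_left b)).eq

theorem P_mul (h : CaseF1 Q z i j k l v y) {c d : G} {b b' : ℕ} (hc : P Q v y c b) (hd : P Q v y d b') :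
    P Q v y (c * d) (b + b') := by
  obtain ⟨q, hq, a, rfl⟩ := hc
  obtain ⟨q', hq', a', rfl⟩ := hd
  obtain ⟨a'', ha''⟩ := y_pow_v h b a'
  refine ⟨q * ((v ^ a * y ^ b) * q' * (v ^ a * y ^ b)⁻¹),
    Q.mul_mem hq (h.large.conj_mem _ (vy_z h a b) _ hq'), a + a'', ?_⟩
  calc q * v ^ a * y ^ b * (q' * v ^ a' * y ^ b')
      = q * ((v ^ a * y ^ b) * q' * (v ^ a * y ^ b)⁻¹) * v ^ a * (y ^ b * v ^ a') * y ^ b' := by group
    _ = q * ((v ^ a * y ^ b) * q' * (v ^ a * y ^ b)⁻¹) * v ^ a * (v ^ a'' * y ^ b) * y ^ b' := by rw [ha'']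
    _ = _ := by rw [pow_add, pow_add]; group

theorem P_of_mem {c : G} (hc : c ∈ Q) : P Q v y c 0 := ⟨c, hc, 0, by simp⟩

theorem exists_P (h : CaseF1 Q z i j k l v y) {c : G} (hc : c * z = z * c) : ∃ b, P Q v y c b := by
  have hc' : c ∈ Subgroup.closure ({i, j, k, l, v, y} : Set G) := by
    rw [← h.cent]; exact Subgroup.mem_centralizer_singleton_iff.2 hc
  have hy4 : y⁻¹ = y ^ 3 := by
    rw [inv_eq_iff_mul_eq_one, ← pow_succ']
    have : y ^ (3 + 1) = (y * y) * (y * y) := by simp only [pow_succ, pow_zero, one_mul, mul_assoc]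
    rw [this]
    rcases h.s2 with h1 | h1
    · rw [h1, one_mul]
    · rw [h1]; exact h.large.z_sq
  have hv3 : v⁻¹ = v ^ 2 := by
    rw [inv_eq_iff_mul_eq_one, ← pow_succ']; exact h.w3
  have hgen : ∀ x ∈ ({i, j, k, l, v, y} : Set G), (∃ b, P Q v y x b) ∧ ∃ b, P Q v y x⁻¹ b := by
    intro x hx
    have hx' : x = i ∨ x = j ∨ x = k ∨ x = l ∨ x = v ∨ x = y := by simpa using hx
    rcases hx' with rfl | rfl | rfl | rfl | rfl | rfl
    · exact ⟨⟨0, P_of_mem (mem_i h.toPlus)⟩, ⟨0, P_of_mem (Q.inv_mem (mem_i h.toPlus))⟩⟩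
    · exact ⟨⟨0, P_of_mem (mem_j h.toPlus)⟩, ⟨0, P_of_mem (Q.inv_mem (mem_j h.toPlus))⟩⟩
    · exact ⟨⟨0, P_of_mem (mem_k h.toPlus)⟩, ⟨0, P_of_mem (Q.inv_mem (mem_k h.toPlus))⟩⟩
    · exact ⟨⟨0, P_of_mem (mem_l h.toPlus)⟩, ⟨0, P_of_mem (Q.inv_mem (mem_l h.toPlus))⟩⟩
    · exact ⟨⟨0, 1, Q.one_mem, 1, by simp⟩, ⟨0, 1, Q.one_mem, 2, by rw [hv3]; simp⟩⟩
    · exact ⟨⟨1, 1, Q.one_mem, 0, by simp⟩, ⟨3, 1, Q.one_mem, 0, by rw [hy4]; simp⟩⟩
  induction hc' using Subgroup.closure_induction_right with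
  | one => exact ⟨0, P_of_mem Q.one_mem⟩
  | mul_right x hx g hg ih =>
    obtain ⟨b, hb⟩ := ih (by
      have : x ∈ Subgroup.centralizer ({z} : Set G) := by rw [h.cent]; exact hx
      exact Subgroup.mem_centralizer_singleton_iff.1 this)
    obtain ⟨b', hb'⟩ := (hgen g hg).1
    exact ⟨_, P_mul h hb hb'⟩
  | mul_inv_cancel x hx g hg ih =>
    obtain ⟨b, hb⟩ := ih (by
      have : x ∈ Subgroup.centralizer ({z} : Set G) := by rw [h.cent]; exact hx
      exact Subgroup.mem_centralizer_singleton_iff.1 this)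
    obtain ⟨b', hb'⟩ := (hgen g hg).2
    exact ⟨_, P_mul h hb hb'⟩

theorem exp_four (h : CaseF1 Q z i j k l v y) {q : G} (hq : q ∈ Q) : q ^ 4 = 1 := by
  have : q ^ 4 = (q * q) * (q * q) := by simp only [pow_succ, pow_zero, one_mul, mul_assoc]
  rw [this]
  rcases h.large.sq q hq with h1 | h1
  · rw [h1, one_mul]
  · rw [h1]; exact h.large.z_sq

theorem v_pow_of_mem (h : CaseF1 Q z i j k l v y) {a : ℕ} (ha : v ^ a ∈ Q) : v ^ a = 1 := by
  have h1 : (v ^ a) ^ 4 = 1 := exp_four h ha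
  have h2 : (v ^ a) ^ 3 = 1 := by rw [← pow_mul, mul_comm, pow_mul, h.w3, one_pow]
  calc v ^ a = (v ^ a) ^ 4 * ((v ^ a) ^ 3)⁻¹ := by group
    _ = 1 := by rw [h1, h2, inv_one, one_mul]

/-- an element `q v^a` of order two lies in `Q` -/
theorem mem_of_sq (h : CaseF1 Q z i j k l v y) {c : G} (hc : P Q v y c 0) (hcc : c * c = 1) : c ∈ Q := by
  obtain ⟨q, hq, a, rfl⟩ := hc
  rw [pow_zero, mul_one] at hcc ⊢
  have h1 : v ^ a * q * (v ^ a)⁻¹ ∈ Q := by
    have := h.large.conj_mem (v ^ a) (by simpa using vy_z h a 0) q hq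
    exact this
  have h2 : v ^ (2 * a) = (q * (v ^ a * q * (v ^ a)⁻¹))⁻¹ := by
    rw [eq_inv_iff_mul_eq_one]
    have e : q * v ^ a * (q * v ^ a) = (q * (v ^ a * q * (v ^ a)⁻¹)) * v ^ (2 * a) := by
      rw [two_mul, pow_add]; group
    rw [e] at hcc
    have := mul_eq_one_iff_eq_inv.1 hcc
    rw [this]; group
  have h3 : v ^ (2 * a) ∈ Q := by rw [h2]; exact Q.inv_mem (Q.mul_mem hq h1)
  have h4 := v_pow_of_mem h h3
  have h5 : v ^ a = 1 := by
    have h6 : v ^ (3 * a) = 1 := by rw [pow_mul, h.w3, one_pow]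
    calc v ^ a = v ^ (3 * a) * (v ^ (2 * a))⁻¹ := by
          rw [show 3 * a = a + 2 * a by ring, pow_add]; group
      _ = 1 := by rw [h6, h4, inv_one, one_mul]
  rw [h5, mul_one]; exact hq

/-! ### reduced normal form -/

theorem y_sq_hom (h : CaseF1 Q z i j k l v y) : ∃ e : M, y * y = hom h.toPlus e ∧ (e = 1 ∨ e = zz) := by
  rcases h.s2 with h1 | h1
  · exact ⟨1, by rw [h1, map_one], Or.inl rfl⟩
  · exact ⟨zz, by rw [h1, hom_zz], Or.inr rfl⟩

/-- every element of `C_G(z)` is `q v^a y^b` with `a < 3`, `b < 2` -/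
theorem exists_red (h : CaseF1 Q z i j k l v y) {c : G} (hc : c * z = z * c) :
    ∃ m : M, ∃ a : Fin 3, ∃ b : Fin 2, c = hom h.toPlus m * v ^ a.1 * y ^ b.1 := by
  obtain ⟨b, q, hq, a, rfl⟩ := exists_P h hc
  have hv : v ^ a = v ^ (a % 3) := by
    conv_lhs => rw [← Nat.div_add_mod a 3, pow_add, pow_mul, h.w3, one_pow, one_mul]
  have hy : y ^ b = (y * y) ^ (b / 2) * y ^ (b % 2) := by
    conv_lhs => rw [← Nat.div_add_mod b 2, pow_add, pow_mul, pow_two]
  have hyc : (y * y) ^ (b / 2) ∈ Q := by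
    apply Q.pow_mem
    rcases h.s2 with h1 | h1
    · rw [h1]; exact Q.one_mem
    · rw [h1]; exact h.large.z_mem
  have h3 : v ^ (a % 3) * (y * y) ^ (b / 2) * (v ^ (a % 3))⁻¹ ∈ Q := by
    refine h.large.conj_mem _ ?_ _ hyc
    have := vy_z h (a % 3) 0
    simpa using this
  obtain ⟨m, hm⟩ := exists_hom h.toPlus (Q.mul_mem hq h3)
  refine ⟨m, ⟨a % 3, Nat.mod_lt _ (by norm_num)⟩, ⟨b % 2, Nat.mod_lt _ (by norm_num)⟩, ?_⟩
  rw [hm]
  show q * v ^ a * y ^ b = q * (v ^ (a % 3) * (y * y) ^ (b / 2) * (v ^ (a % 3))⁻¹) * v ^ (a % 3) * y ^ (b % 2)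
  rw [hy, hv]; group

/-- iterate of `sv` -/
def itv : ℕ → M → M
  | 0, x => x
  | n + 1, x => sv (itv n x)

/-- iterate of `sy` -/
def ity : ℕ → M → M
  | 0, x => x
  | n + 1, x => sy (ity n x)

theorem vpow_hom (h : CaseF1 Q z i j k l v y) (a : ℕ) (x : M) :
    v ^ a * hom h.toPlus x = hom h.toPlus (itv a x) * v ^ a := by
  induction a with
  | zero => simp [itv]
  | succ a ih =>
    rw [pow_succ', mul_assoc, ih, ← mul_assoc, v_hom' h, mul_assoc]; rfl

theorem ypow_hom (h : CaseF1 Q z i j k l v y) (a : ℕ) (x : M) :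
    y ^ a * hom h.toPlus x = hom h.toPlus (ity a x) * y ^ a := by
  induction a with
  | zero => simp [ity]
  | succ a ih =>
    rw [pow_succ', mul_assoc, ih, ← mul_assoc, y_hom' h, mul_assoc]; rfl

/-! ### the twisted case -/

set_option maxRecDepth 100000 in
theorem dec_twist : ∀ (m : M) (a : Fin 3), m * itv a.1 (sy m) * zz ≠ 1 := by decide +kernel

theorem mem_of_sq_of_twist (h : CaseF1 Q z i j k l v y) (hy : y * y = z) {c : G} (hc : c * z = z * c)
    (hcc : c * c = 1) : c ∈ Q := by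
  obtain ⟨m, a, b, rfl⟩ := exists_red h hc
  have hb : b = 0 ∨ b = 1 := by omega
  rcases hb with rfl | rfl
  · apply mem_of_sq h _ hcc
    exact ⟨_, hom_mem h.toPlus m, a.1, rfl⟩
  · exfalso
    have e : (hom h.toPlus m * v ^ a.1 * y ^ (1 : Fin 2).1) * (hom h.toPlus m * v ^ a.1 * y ^ (1 : Fin 2).1) =
        hom h.toPlus (m * itv a.1 (sy m) * zz) := by
      obtain ⟨a', ha'⟩ := y_pow_v h 1 a.1
      show (hom h.toPlus m * v ^ a.1 * y ^ 1) * (hom h.toPlus m * v ^ a.1 * y ^ 1) = _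
      rw [pow_one] at ha' ⊢
      have hinv : y * v ^ a.1 = (v ^ a.1)⁻¹ * y := by
        have h1 : SemiconjBy y v v⁻¹ := by
          show y * v = v⁻¹ * y
          rw [← h.ws]; group
        have h2 := (h1.pow_right a.1).eq
        rw [h2, inv_pow]
      calc hom h.toPlus m * v ^ a.1 * y * (hom h.toPlus m * v ^ a.1 * y)
          = hom h.toPlus m * v ^ a.1 * (y * hom h.toPlus m) * v ^ a.1 * y := by group
        _ = hom h.toPlus m * v ^ a.1 * (hom h.toPlus (sy m) * y) * v ^ a.1 * y := by rw [y_hom' h]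
        _ = hom h.toPlus m * (v ^ a.1 * hom h.toPlus (sy m)) * (y * v ^ a.1) * y := by group
        _ = hom h.toPlus m * (hom h.toPlus (itv a.1 (sy m)) * v ^ a.1) * ((v ^ a.1)⁻¹ * y) * y := by
            rw [vpow_hom h, hinv]
        _ = hom h.toPlus m * hom h.toPlus (itv a.1 (sy m)) * (y * y) := by group
        _ = _ := by rw [hy, map_mul, map_mul, hom_zz]
    rw [e] at hcc
    exact dec_twist m a (hom_injective h.toPlus (by rw [hcc, map_one]))

set_option maxRecDepth 100000 in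
theorem dec_pq : ∀ b : M, b * b = 1 → b ≠ 1 → b ≠ zz → ∃ p q : M, p * p = 1 ∧ q * q = 1 ∧ p * b = b * p ∧
    q * b = b * q ∧ p * q = q * p * zz := by decide +kernel

theorem noncomm (h : CaseF1 Q z i j k l v y) : ∃ a b : G, a * b ≠ b * a := by
  refine ⟨j, i, ?_⟩
  rw [h.ji]
  intro h1
  exact h.large.z_ne (by simpa using h1)

theorem y_sq [Finite G] [IsSimpleGroup G] (h : CaseF1 Q z i j k l v y) : y * y = 1 := by
  rcases h.s2 with h1 | hy
  · exact h1
  exfalso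
  refine Cfsg.Agent.J2Type.SimpleRed.not_isolated z ⟨Base.orderOf_z h.large, ?_⟩ (noncomm h)
  intro g hg
  by_contra hne
  have hzz := h.large.z_sq
  have ha2 : (g * z * g⁻¹) * (g * z * g⁻¹) = 1 := by
    calc (g * z * g⁻¹) * (g * z * g⁻¹) = g * (z * z) * g⁻¹ := by group
      _ = 1 := by rw [hzz]; group
  have haQ : g * z * g⁻¹ ∈ Q := mem_of_sq_of_twist h hy hg.eq.symm ha2
  -- `b = g⁻¹ z g ∈ Q`
  have hbQ : g⁻¹ * z * g ∈ Q := by
    apply mem_of_sq_of_twist h hy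
    · have := hg.eq
      calc g⁻¹ * z * g * z = g⁻¹ * (z * (g * z * g⁻¹)) * g := by group
        _ = g⁻¹ * ((g * z * g⁻¹) * z) * g := by rw [this]
        _ = z * (g⁻¹ * z * g) := by group
    · calc g⁻¹ * z * g * (g⁻¹ * z * g) = g⁻¹ * (z * z) * g := by group
        _ = 1 := by rw [hzz]; group
  obtain ⟨b, hb⟩ := exists_hom h.toPlus hbQ
  have hbb : b * b = 1 := by
    apply hom_injective h.toPlus
    rw [map_mul, hb, map_one]
    calc g⁻¹ * z * g * (g⁻¹ * z * g) = g⁻¹ * (z * z) * g := by group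
      _ = 1 := by rw [hzz]; group
  have hb1 : b ≠ 1 := by
    rintro rfl
    rw [map_one] at hb
    apply h.large.z_ne
    calc z = g * (g⁻¹ * z * g) * g⁻¹ := by group
      _ = 1 := by rw [← hb]; group
  have hbz : b ≠ zz := by
    rintro rfl
    rw [hom_zz] at hb
    apply hne
    calc g * z * g⁻¹ = g * (g⁻¹ * z * g) * g⁻¹ := by rw [← hb]
      _ = z := by group
  obtain ⟨p, q, hp, hq, hpb, hqb, hpq⟩ := dec_pq b hbb hb1 hbz
  have key : ∀ x : M, x * x = 1 → x * b = b * x → g * hom h.toPlus x * g⁻¹ ∈ Q := by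
    intro x hx hxb
    apply mem_of_sq_of_twist h hy
    · have h2 : hom h.toPlus x * (g⁻¹ * z * g) = (g⁻¹ * z * g) * hom h.toPlus x := by
        rw [← hb, ← map_mul, ← map_mul, hxb]
      calc g * hom h.toPlus x * g⁻¹ * z = g * (hom h.toPlus x * (g⁻¹ * z * g)) * g⁻¹ := by group
        _ = g * ((g⁻¹ * z * g) * hom h.toPlus x) * g⁻¹ := by rw [h2]
        _ = z * (g * hom h.toPlus x * g⁻¹) := by group
    · calc g * hom h.toPlus x * g⁻¹ * (g * hom h.toPlus x * g⁻¹)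
          = g * (hom h.toPlus x * hom h.toPlus x) * g⁻¹ := by group
        _ = 1 := by rw [← map_mul, hx, map_one]; group
  have e : (g * hom h.toPlus p * g⁻¹) * (g * hom h.toPlus q * g⁻¹) =
      (g * hom h.toPlus q * g⁻¹) * (g * hom h.toPlus p * g⁻¹) * (g * z * g⁻¹) := by
    calc (g * hom h.toPlus p * g⁻¹) * (g * hom h.toPlus q * g⁻¹)
        = g * (hom h.toPlus (p * q)) * g⁻¹ := by rw [map_mul]; group
      _ = g * (hom h.toPlus (q * p * zz)) * g⁻¹ := by rw [hpq]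
      _ = _ := by rw [map_mul, map_mul, hom_zz]; group
  rcases h.large.comm _ (key p hp hpb) _ (key q hq hqb) with h2 | h2
  · rw [e] at h2
    have h3 : g * z * g⁻¹ = 1 := by simpa using h2
    apply h.large.z_ne
    calc z = g⁻¹ * (g * z * g⁻¹) * g := by group
      _ = 1 := by rw [h3]; group
  · rw [e] at h2
    exact hne (mul_left_cancel h2)

end

end Cfsg.Agent.AltTypeConv
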