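import Mathlib
import Cfsg.Agent.SporadicRecognition.CosetChain
import Cfsg.Agent.AltType.EnCAll

/-!
The centraliser of a 2-central involution of `A₈` (and `A₉`): relations, symmetries, and the bound `192` for the
order of a group generated by elements satisfying the relations.
-/

set_option autoImplicit false
set_option maxRecDepth 100000

namespace Cfsg.Agent.AltType

open Cfsg.Agent.SporadicRecognition.CosetCert Cfsg.Agent.SporadicRecognition.CosetCertHyp
  Cfsg.Agent.SporadicRecognition.CosetChain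

/-- `Q = ⟨z, a, b, c, d⟩` extraspecial of type `+` and order 32, `⟨r, s⟩ ≅ S₃`;
`A₁ = ⟨z, a, c⟩`, `A₂ = ⟨z, b, d⟩`, `A₃ = ⟨z, abz, cdz⟩` are the normal elementary abelian subgroups of order 8. -/
structure Rel {G : Type*} [Group G] (z a b c d r s : G) : Prop where
  zz : z * z = 1
  aa : a * a = 1
  bb : b * b = 1
  cc : c * c = 1
  dd : d * d = 1
  ss : s * s = 1
  r3 : r * (r * r) = 1
  az : a * z = z * a
  bz : b * z = z * b
  cz : c * z = z * c
  dz : d * z = z * d
  sz : s * z = z * s
  rz : r * z = z * r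
  ac : a * c = c * a
  bd : b * d = d * b
  ab : a * b = b * a
  cd : c * d = d * c
  ad : a * d = z * (d * a)
  cb : c * b = z * (b * c)
  ar : a * r = r * c
  cr : c * r = r * (a * c)
  br : b * r = r * d
  dr : d * r = r * (b * d)
  as : a * s = s * a
  cs : c * s = s * (a * c)
  bs : b * s = s * b
  ds : d * s = s * (b * d)
  rsr : r * (s * r) = s

/-- The centraliser of `z` is generated by the elements and has order 192. -/
structure F1 {G : Type*} [Group G] (z a b c d r s : G) : Prop extends Rel z a b c d r s where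
  cent : Subgroup.centralizer {z} = Subgroup.closure {z, a, b, c, d, r, s}
  card : Nat.card (Subgroup.centralizer {z}) = 192

section letters

variable {G : Type*} [Group G]

/-- The letters of the certificate. -/
def lt (z a b c d r s : G) : ℕ → G
  | 0 => z
  | 1 => a
  | 2 => b
  | 3 => c
  | 4 => d
  | 5 => s
  | 6 => r
  | 7 => r⁻¹
  | _ => 1

def iv : ℕ → ℕ
  | 6 => 7
  | 7 => 6
  | n => n

def eqs : List (List ℕ × List ℕ) := [([6,6,6],[]), ([1,0],[0,1]), ([2,0],[0,2]), ([3,0],[0,3]), ([4,0],[0,4]),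
  ([5,0],[0,5]), ([6,0],[0,6]), ([1,3],[3,1]), ([2,4],[4,2]), ([1,2],[2,1]), ([3,4],[4,3]), ([1,4],[0,4,1]),
  ([3,2],[0,2,3]), ([1,6],[6,3]), ([3,6],[6,1,3]), ([2,6],[6,4]), ([4,6],[6,2,4]), ([1,5],[5,1]), ([3,5],[5,1,3]),
  ([2,5],[5,2]), ([4,5],[5,2,4]), ([6,5,6],[5])]

def rels : List (List ℕ) := eqs.map fun e => e.1 ++ invw iv e.2

variable {z a b c d r s : G}

theorem lt_inv (h : Rel z a b c d r s) (n : ℕ) (hn : n < 8) :
    iv n < 8 ∧ lt z a b c d r s n * lt z a b c d r s (iv n) = 1 := by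
  interval_cases n
  · exact ⟨by decide, h.zz⟩
  · exact ⟨by decide, h.aa⟩
  · exact ⟨by decide, h.bb⟩
  · exact ⟨by decide, h.cc⟩
  · exact ⟨by decide, h.dd⟩
  · exact ⟨by decide, h.ss⟩
  · exact ⟨by decide, mul_inv_cancel r⟩
  · exact ⟨by decide, inv_mul_cancel r⟩

theorem ev_eqs (h : Rel z a b c d r s) : ∀ e ∈ eqs, ev (lt z a b c d r s) e.1 = ev (lt z a b c d r s) e.2 := by
  intro e he
  simp only [eqs, List.mem_cons, List.not_mem_nil, or_false] at he
  rcases he with rfl | rfl | rfl | rfl | rfl | rfl | rfl | rfl | rfl | rfl | rfl | rfl | rfl | rfl | rfl | rfl | rfl |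
    rfl | rfl | rfl | rfl | rfl
  all_goals simp only [ev_cons, ev_nil, lt, mul_one]
  · exact h.r3
  · exact h.az
  · exact h.bz
  · exact h.cz
  · exact h.dz
  · exact h.sz
  · exact h.rz
  · exact h.ac
  · exact h.bd
  · exact h.ab
  · exact h.cd
  · exact h.ad
  · exact h.cb
  · exact h.ar
  · exact h.cr
  · exact h.br
  · exact h.dr
  · exact h.as
  · exact h.cs
  · exact h.bs
  · exact h.ds
  · exact h.rsr

theorem eqs_lt : ∀ e ∈ eqs, (∀ y ∈ e.1, y < 8) ∧ ∀ y ∈ e.2, y < 8 := by decide

theorem ev_rels (h : Rel z a b c d r s) : ∀ w ∈ rels, ev (lt z a b c d r s) w = 1 := by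
  intro w hw
  obtain ⟨e, he, rfl⟩ := List.mem_map.mp hw
  rw [ev_append, ev_invw (lt z a b c d r s) iv 8 (lt_inv h) e.2 (eqs_lt e he).2, ev_eqs h e he, mul_inv_cancel]

theorem card_le (h : Rel z a b c d r s) : Finite (Subgroup.closure (lt z a b c d r s '' {n | n < 8})) ∧
    Nat.card (Subgroup.closure (lt z a b c d r s '' {n | n < 8})) ≤ 192 := by
  have hinv : ∀ n, n < EnCData.C.k → EnCData.C.inv n < EnCData.C.k ∧
      lt z a b c d r s n * lt z a b c d r s (EnCData.C.inv n) = 1 := by
    intro n hn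
    change n < 8 at hn
    have h1 := (lt_inv h n hn).2
    interval_cases n <;> exact ⟨by decide +kernel, h1⟩
  have := card_step EnCData.C (lt z a b c d r s) rels [] ⊥ hinv
    (fun w hw _ => ev_rels h w hw) (by simp) (by decide +kernel) EnCAll.part inferInstance
  have h1 : Nat.card (⊥ : Subgroup G) = 1 := by simp
  rw [h1, mul_one] at this
  exact this

theorem image_lt : lt z a b c d r s '' {n | n < 8} = {z, a, b, c, d, s, r, r⁻¹} := by
  ext x
  constructor
  · rintro ⟨n, hn, rfl⟩
    change n < 8 at hn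
    interval_cases n <;> simp [lt]
  · rintro (rfl | rfl | rfl | rfl | rfl | rfl | rfl | rfl)
    · exact ⟨0, by norm_num, rfl⟩
    · exact ⟨1, by norm_num, rfl⟩
    · exact ⟨2, by norm_num, rfl⟩
    · exact ⟨3, by norm_num, rfl⟩
    · exact ⟨4, by norm_num, rfl⟩
    · exact ⟨5, by norm_num, rfl⟩
    · exact ⟨6, by norm_num, rfl⟩
    · exact ⟨7, by norm_num, rfl⟩

theorem closure_lt : Subgroup.closure (lt z a b c d r s '' {n | n < 8}) =
    Subgroup.closure {z, a, b, c, d, r, s} := by
  rw [image_lt]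
  apply le_antisymm
  · rw [Subgroup.closure_le]
    have hr : r ∈ Subgroup.closure ({z, a, b, c, d, r, s} : Set G) := Subgroup.subset_closure (by simp)
    rintro x (rfl | rfl | rfl | rfl | rfl | rfl | rfl | rfl)
    iterate 7 exact Subgroup.subset_closure (by simp)
    exact Subgroup.inv_mem _ hr
  · apply Subgroup.closure_mono
    rintro x (rfl | rfl | rfl | rfl | rfl | rfl | rfl) <;> simp

end letters

namespace Rel

variable {G : Type*} [Group G] {z a b c d r s : G} (h : Rel z a b c d r s)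
include h

theorem da : d * a = z * (a * d) := by
  rw [h.ad, ← mul_assoc, h.zz, one_mul]

theorem bc : b * c = z * (c * b) := by
  rw [h.cb, ← mul_assoc, h.zz, one_mul]

/-- exchange of the two factors -/
theorem swap : Rel z b a d c r s where
  zz := h.zz
  aa := h.bb
  bb := h.aa
  cc := h.dd
  dd := h.cc
  ss := h.ss
  r3 := h.r3
  az := h.bz
  bz := h.az
  cz := h.dz
  dz := h.cz
  sz := h.sz
  rz := h.rz
  ac := h.bd
  bd := h.ac
  ab := h.ab.symm
  cd := h.cd.symm
  ad := h.bc
  cb := h.da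
  ar := h.br
  cr := h.dr
  br := h.ar
  dr := h.cr
  as := h.bs
  cs := h.ds
  bs := h.as
  ds := h.cs
  rsr := h.rsr

/-- replace `s` by `s z` -/
theorem twist : Rel z a b c d r (s * z) where
  zz := h.zz
  aa := h.aa
  bb := h.bb
  cc := h.cc
  dd := h.dd
  ss := by
    calc s * z * (s * z) = s * (z * s) * z := by group
      _ = (s * s) * (z * z) := by rw [← h.sz]; group
      _ = 1 := by rw [h.ss, h.zz, one_mul]
  r3 := h.r3
  az := h.az
  bz := h.bz
  cz := h.cz
  dz := h.dz
  sz := by rw [h.sz, mul_assoc, h.sz]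
  rz := h.rz
  ac := h.ac
  bd := h.bd
  ab := h.ab
  cd := h.cd
  ad := h.ad
  cb := h.cb
  ar := h.ar
  cr := h.cr
  br := h.br
  dr := h.dr
  as := by rw [← mul_assoc, h.as, mul_assoc, h.az, mul_assoc]
  cs := by
    rw [← mul_assoc, h.cs]
    calc s * (a * c) * z = s * (a * (c * z)) := by group
      _ = s * (a * z * c) := by rw [h.cz]; group
      _ = s * z * (a * c) := by rw [h.az]; group
  bs := by rw [← mul_assoc, h.bs, mul_assoc, h.bz, mul_assoc]
  ds := by
    rw [← mul_assoc, h.ds]
    calc s * (b * d) * z = s * (b * (d * z)) := by group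
      _ = s * (b * z * d) := by rw [h.dz]; group
      _ = s * z * (b * d) := by rw [h.bz]; group
  rsr := by
    calc r * (s * z * r) = r * s * (z * r) := by group
      _ = (r * (s * r)) * z := by rw [← h.rz]; group
      _ = s * z := by rw [h.rsr]

end Rel

end Cfsg.Agent.AltType
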