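import Cfsg.Agent.AltType.Tab

/-!
Finite facts about the centraliser, checked in the model.
-/

set_option autoImplicit false
set_option maxRecDepth 100000

namespace Cfsg.Agent.AltType

open Cfsg.Agent.SporadicRecognition.CosetCert Cfsg.Agent.SporadicRecognition.CosetCertHyp
  Cfsg.Agent.SporadicRecognition.CosetChain

/-- words of the elements of `E = ⟨z, a, b, s⟩`: bits `z, a, b, s` -/
def wE : ℕ → List ℕ
  | 0 => []
  | 1 => [0]
  | 2 => [1]
  | 3 => [0,1]
  | 4 => [2]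
  | 5 => [0,2]
  | 6 => [1,2]
  | 7 => [0,1,2]
  | 8 => [5]
  | 9 => [0,5]
  | 10 => [1,5]
  | 11 => [0,1,5]
  | 12 => [2,5]
  | 13 => [0,2,5]
  | 14 => [1,2,5]
  | _ => [0,1,2,5]

/-- words of the elements of `A₁ = ⟨z, a, c⟩`: bits `z, a, c` -/
def wF : ℕ → List ℕ
  | 0 => []
  | 1 => [0]
  | 2 => [1]
  | 3 => [0,1]
  | 4 => [3]
  | 5 => [0,3]
  | 6 => [1,3]
  | _ => [0,1,3]

/-- codes of the elements of `E` -/
def cE : ℕ → ℕ := fun v => [16434824, 14570689, 11788826, 9924691, 11788371, 9925146, 16434369, 14571144, 9925825,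
  11789960, 14569555, 16433690, 14570010, 16433235, 9926280, 11789505].getD v 0

def cF : ℕ → ℕ := fun v => [16434824, 14570689, 11788826, 9924691, 2206526, 342391, 6852524, 4988389].getD v 0

theorem cE_eq : ∀ v < 16, evN (wE v) = cE v := by decide +kernel
theorem cF_eq : ∀ v < 8, evN (wF v) = cF v := by decide +kernel
theorem wE_lt : ∀ v < 16, ∀ y ∈ wE v, y < 8 := by decide +kernel
theorem wF_lt : ∀ v < 8, ∀ y ∈ wF v, y < 8 := by decide +kernel
theorem cl_mem : ∀ k < 8, cl k ∈ Lc := by decide +kernel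

theorem code_invol : ∀ n ∈ Lc, mulN n n = 16434824 → n = 16434824 ∨ n = 14570689 ∨
    ∃ m ∈ Lc, ∃ w ∈ [11788826, 11788371, 14571144, 9925825, 11789960], mulN n m = mulN m w := by decide +kernel

theorem code_centS : ∀ n ∈ Lc, mulN n 9925825 = mulN 9925825 n → ∃ v < 16, n = cE v := by decide +kernel

theorem code_centA : ∀ n ∈ Lc, mulN n 11788826 = mulN 11788826 n → mulN n 2206526 = mulN 2206526 n →
    ∃ v < 8, n = cF v := by decide +kernel

theorem code_P : ∀ n ∈ Lc, mulN n 11788826 = mulN 11788826 n → mulN n n = 16434824 →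
    (∃ m ∈ Lc, mulN m 11788826 = mulN 11788826 m ∧ mulN n m = mulN 14570689 (mulN m n)) →
    (∃ m ∈ Lc, mulN m 11788826 = mulN 11788826 m ∧ mulN n m = mulN 11788826 (mulN m n)) →
    ∃ v < 8, 4 ≤ v ∧ n = cF v := by decide +kernel

theorem code_B : ∀ n ∈ Lc, mulN n 11788826 = mulN 11788826 n → mulN n n = 16434824 →
    mulN 2206526 n = mulN 11788826 (mulN n 2206526) → ∃ v < 16, (v = 8 ∨ v = 9 ∨ v = 10 ∨ v = 11) ∧ n = cE v := by
  decide +kernel

set_option synthInstance.maxSize 1024 in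
set_option synthInstance.maxHeartbeats 200000 in
theorem code_NCE : ∀ n ∈ Lc, ∀ A1 < 16, mulN 11788826 n = mulN n (cE A1) →
    ∀ A2 < 16, mulN 11788371 n = mulN n (cE A2) → ∀ A3 < 16, mulN 9925825 n = mulN n (cE A3) →
    (A1, A2, A3) ∈ [(2, 4, 8), (2, 5, 10), (3, 4, 12), (3, 5, 15)] := by decide +kernel

theorem code_exp : ∀ n ∈ Lc, mulN n 11788371 = mulN 11788371 n → mulN (mulN n n) (mulN n n) = 16434824 := by
  decide +kernel

theorem code_xor : ∀ v < 16, ∀ w < 16, mulN (cE v) (cE w) = cE (v ^^^ w) ∧ v ^^^ w < 16 := by decide +kernel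

theorem code_F_xor : ∀ v < 8, ∀ w < 8, mulN (cF v) (cF w) = cF (v ^^^ w) ∧ v ^^^ w < 8 := by decide +kernel

end Cfsg.Agent.AltType
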