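import Cfsg.Agent.Lib.VonDyck

/-!
Central extensions of `A₅` by a group of exponent 2, containing `A₄`.
-/

set_option autoImplicit false
set_option maxRecDepth 100000
set_option maxHeartbeats 1000000

namespace Cfsg.Agent.AltType

open Cfsg.Agent.Lib.VonDyck

def y2 : Equiv.Perm (Fin 5) := Equiv.swap 2 0 * Equiv.swap 0 1
def y3 : Equiv.Perm (Fin 5) := Equiv.swap 3 0 * Equiv.swap 0 1
def y4 : Equiv.Perm (Fin 5) := Equiv.swap 4 0 * Equiv.swap 0 1

theorem conj_y2 : ∀ x : Equiv.Perm (Fin 5), x ^ 3 = 1 → x ≠ 1 → ∃ σ : Equiv.Perm (Fin 5), σ * x * σ⁻¹ = y2 := by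
  decide +kernel

theorem conj_y3 : ∀ x : Equiv.Perm (Fin 5), x ^ 3 = 1 → (y2 * x) ^ 2 = 1 → y2 * x ≠ 1 →
    ∃ σ : Equiv.Perm (Fin 5), σ * y2 * σ⁻¹ = y2 ∧ σ * x * σ⁻¹ = y3 := by
  decide +kernel

theorem uniq_y4 : ∀ x : Equiv.Perm (Fin 5), x ^ 3 = 1 → (y2 * x) ^ 2 = 1 → (y3 * x) ^ 2 = 1 → x = y4 := by
  decide +kernel

def Y2 : alternatingGroup (Fin 5) := ⟨y2, Equiv.Perm.mem_alternatingGroup.2 (by decide)⟩
def Y3 : alternatingGroup (Fin 5) := ⟨y3, Equiv.Perm.mem_alternatingGroup.2 (by decide)⟩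
def Y4 : alternatingGroup (Fin 5) := ⟨y4, Equiv.Perm.mem_alternatingGroup.2 (by decide)⟩

theorem five_ext' {K : Type*} [Group K] (π : K →* alternatingGroup (Fin 5)) (hs : Function.Surjective π)
    (hk : ∀ t, π t = 1 → t * t = 1) (hc : ∀ t, π t = 1 → ∀ x, x * t = t * x) {X Y : K}
    (hX : X ^ 3 = 1) (hY : Y ^ 3 = 1) (hXY : (X * Y) ^ 2 = 1) (pX : π X = Y2) (pY : π Y = Y3) :
    ∃ w : K, w ^ 3 = 1 ∧ (X * w) ^ 2 = 1 ∧ (Y * w) ^ 2 = 1 ∧
      (∀ y, y ^ 3 = 1 → (X * y) ^ 2 = 1 → (Y * y) ^ 2 = 1 → y = w) ∧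
      ∀ H : Subgroup K, X ∈ H → Y ∈ H → w ∈ H → (∀ t, π t = 1 → t ∈ H) → H = ⊤ := by
  -- lift of `b5`
  obtain ⟨β0, hβ0⟩ := hs b5
  have hβ3 : (β0 ^ 4) ^ 3 = 1 := by
    have h1 : π (β0 ^ 3) = 1 := by rw [map_pow, hβ0, b5_pow]
    have h2 := hk _ h1
    calc (β0 ^ 4) ^ 3 = (β0 ^ 3 * β0 ^ 3) ^ 2 := by rw [← pow_mul, ← pow_add, ← pow_mul]
      _ = 1 := by rw [h2, one_pow]
  have hβ : π (β0 ^ 4) = b5 := by
    rw [map_pow, hβ0, pow_succ, b5_pow, one_mul]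
  -- lift of `a5`
  obtain ⟨C, hC⟩ : ∃ C, (π C) * (Y2 * Y3) * (π C)⁻¹ = a5 := by
    have h1 : ∃ c : alternatingGroup (Fin 5), c * (Y2 * Y3) * c⁻¹ = a5 := ⟨Y2 * (Y2 * Y3), by decide⟩
    obtain ⟨c, hc⟩ := h1
    obtain ⟨C, rfl⟩ := hs c
    exact ⟨C, hc⟩
  have hα0 : π (C * (X * Y) * C⁻¹) = a5 := by
    rw [map_mul, map_mul, map_mul, map_inv, pX, pY, hC]
  have hα2 : (C * (X * Y) * C⁻¹) ^ 2 = 1 := by
    rw [conj_pow, hXY, mul_one, mul_inv_cancel]
  generalize C * (X * Y) * C⁻¹ = α0 at hα0 hα2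
  generalize β0 ^ 4 = β at hβ hβ3
  have ht : π ((α0 * β) ^ 5) = 1 := by rw [map_pow, map_mul, hα0, hβ, ab5_pow]
  obtain ⟨t, htt⟩ : ∃ t, t = (α0 * β) ^ 5 := ⟨_, rfl⟩
  rw [← htt] at ht
  have t2 : t ^ 2 = 1 := by rw [pow_two]; exact hk t ht
  have tc : ∀ x, Commute x t := fun x => hc t ht x
  have hα : π (α0 * t) = a5 := by rw [map_mul, hα0, ht, mul_one]
  have hα' : (α0 * t) ^ 2 = 1 := by rw [(tc α0).mul_pow, hα2, t2, one_mul]
  have hαβ : (α0 * t * β) ^ 5 = 1 := by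
    have e1 : α0 * t * β = (α0 * β) * t := by rw [mul_assoc, ← (tc β).eq, ← mul_assoc]
    rw [e1, (tc (α0 * β)).mul_pow, ← htt]
    calc t * t ^ 5 = (t ^ 2) ^ 3 := by rw [← pow_succ', ← pow_mul]
      _ = 1 := by rw [t2, one_pow]
  obtain ⟨f, fa, fb⟩ := exists_hom_alternatingFive hα' hβ3 hαβ
  have hf : ∀ y, π (f y) = y := by
    have h1 : π.comp f = MonoidHom.id _ := by
      apply MonoidHom.eq_of_eqOn_dense closure_a5_b5
      rintro y (rfl | rfl)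
      · show π (f a5) = a5
        rw [fa, hα]
      · show π (f b5) = b5
        rw [fb, hβ]
    intro y
    exact DFunLike.congr_fun h1 y
  -- elements of order three
  have key : ∀ x : K, x ^ 3 = 1 → f (π x) = x := by
    intro x hx
    obtain ⟨τ, hτ⟩ : ∃ τ, τ = (f (π x))⁻¹ * x := ⟨_, rfl⟩
    have h1 : π τ = 1 := by rw [hτ, map_mul, map_inv, hf, inv_mul_cancel]
    have h2 : x = f (π x) * τ := by rw [hτ, mul_inv_cancel_left]
    have h3 : x ^ 3 = f (π x) ^ 3 * τ ^ 3 := by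
      have hcm : Commute (f (π x)) τ := hc τ h1 _
      rw [← hcm.mul_pow, ← h2]
    rw [← map_pow, ← map_pow, hx, map_one, map_one, one_mul, pow_succ, pow_two, hk τ h1, one_mul] at h3
    rw [← h3, mul_one] at h2
    exact h2.symm
  have fX : f Y2 = X := by rw [← pX]; exact key X hX
  have fY : f Y3 = Y := by rw [← pY]; exact key Y hY
  refine ⟨f Y4, ?_, ?_, ?_, ?_, ?_⟩
  · rw [← map_pow, show Y4 ^ 3 = 1 by decide, map_one]
  · rw [← fX, ← map_mul, ← map_pow, show (Y2 * Y4) ^ 2 = 1 by decide, map_one]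
  · rw [← fY, ← map_mul, ← map_pow, show (Y3 * Y4) ^ 2 = 1 by decide, map_one]
  · intro y h3 h4 h5
    have h6 : π y = Y4 := by
      apply Subtype.ext
      apply uniq_y4
      · have := congrArg π h3
        rw [map_pow, map_one] at this
        exact congrArg Subtype.val this
      · have := congrArg π h4
        rw [map_pow, map_mul, pX, map_one] at this
        exact congrArg Subtype.val this
      · have := congrArg π h5
        rw [map_pow, map_mul, pY, map_one] at this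
        exact congrArg Subtype.val this
    rw [← h6]
    exact (key y h3).symm
  · intro H hXH hYH hwH hker
    have h1 : H.comap f = ⊤ := by
      rw [eq_top_iff, ← closure_a5_b5, Subgroup.closure_le]
      have m2 : Y2 ∈ H.comap f := by rw [Subgroup.mem_comap, fX]; exact hXH
      have m3 : Y3 ∈ H.comap f := by rw [Subgroup.mem_comap, fY]; exact hYH
      have m4 : Y4 ∈ H.comap f := hwH
      rintro y (rfl | rfl)
      · rw [show a5 = Y2 * (Y3 * (Y3 * Y2)) by decide]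
        exact Subgroup.mul_mem _ m2 (Subgroup.mul_mem _ m3 (Subgroup.mul_mem _ m3 m2))
      · rw [show b5 = Y4 * (Y2 * Y2) by decide]
        exact Subgroup.mul_mem _ m4 (Subgroup.mul_mem _ m2 m2)
    rw [eq_top_iff]
    intro x _
    have h2 : π ((f (π x))⁻¹ * x) = 1 := by rw [map_mul, map_inv, hf, inv_mul_cancel]
    have h3 : f (π x) ∈ H := by
      have : π x ∈ H.comap f := by rw [h1]; trivial
      exact this
    have h4 := H.mul_mem h3 (hker _ h2)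
    rwa [mul_inv_cancel_left] at h4

theorem five_ext {K : Type*} [Group K] (π : K →* alternatingGroup (Fin 5)) (hs : Function.Surjective π)
    (hk : ∀ t, π t = 1 → t * t = 1) (hc : ∀ t, π t = 1 → ∀ x, x * t = t * x) {X Y : K}
    (hX : X ^ 3 = 1) (hY : Y ^ 3 = 1) (hXY : (X * Y) ^ 2 = 1) (nX : π X ≠ 1) (nXY : π (X * Y) ≠ 1) :
    ∃ w : K, w ^ 3 = 1 ∧ (X * w) ^ 2 = 1 ∧ (Y * w) ^ 2 = 1 ∧
      (∀ y, y ^ 3 = 1 → (X * y) ^ 2 = 1 → (Y * y) ^ 2 = 1 → y = w) ∧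
      ∀ H : Subgroup K, X ∈ H → Y ∈ H → w ∈ H → (∀ t, π t = 1 → t ∈ H) → H = ⊤ := by
  obtain ⟨σ, hσ⟩ := conj_y2 (π X : Equiv.Perm (Fin 5)) (by
    have := congrArg π hX
    rw [map_pow, map_one] at this
    exact congrArg Subtype.val this) (fun e => nX (Subtype.ext e))
  have e1 : σ * ((π X : Equiv.Perm (Fin 5)) * (π Y : Equiv.Perm (Fin 5))) * σ⁻¹ =
      y2 * (σ * (π Y : Equiv.Perm (Fin 5)) * σ⁻¹) := by
    rw [← hσ]; group
  have e2 : ((π X : Equiv.Perm (Fin 5)) * (π Y : Equiv.Perm (Fin 5))) ^ 2 = 1 := by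
    have := congrArg π hXY
    rw [map_pow, map_mul, map_one] at this
    exact congrArg Subtype.val this
  obtain ⟨ρ, hρ2, hρ3⟩ := conj_y3 (σ * (π Y : Equiv.Perm (Fin 5)) * σ⁻¹) (by
    have := congrArg π hY
    rw [map_pow, map_one] at this
    have h1 : (π Y : Equiv.Perm (Fin 5)) ^ 3 = 1 := congrArg Subtype.val this
    rw [conj_pow, h1, mul_one, mul_inv_cancel]) (by
    rw [← e1, conj_pow, e2, mul_one, mul_inv_cancel]) (by
    rw [← e1]
    intro e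
    apply nXY
    apply Subtype.ext
    have h1 : (π X : Equiv.Perm (Fin 5)) * (π Y : Equiv.Perm (Fin 5)) = 1 := by
      calc (π X : Equiv.Perm (Fin 5)) * (π Y : Equiv.Perm (Fin 5))
          = σ⁻¹ * (σ * ((π X : Equiv.Perm (Fin 5)) * (π Y : Equiv.Perm (Fin 5))) * σ⁻¹) * σ := by group
        _ = 1 := by rw [e, mul_one, inv_mul_cancel]
    rw [map_mul]
    exact h1)
  let κ : alternatingGroup (Fin 5) ≃* alternatingGroup (Fin 5) := MulAut.conjNormal (ρ * σ)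
  have hκ : ∀ y : alternatingGroup (Fin 5), (κ y : Equiv.Perm (Fin 5)) = (ρ * σ) * y * (ρ * σ)⁻¹ :=
    fun y => MulAut.conjNormal_apply _ _
  have hker : ∀ t, κ.toMonoidHom.comp π t = 1 ↔ π t = 1 := by
    intro t
    show κ (π t) = 1 ↔ π t = 1
    exact EmbeddingLike.map_eq_one_iff
  obtain ⟨w, h1, h2, h3, h4, h5⟩ := five_ext' (κ.toMonoidHom.comp π) (κ.surjective.comp hs)
    (fun t ht => hk t ((hker t).1 ht)) (fun t ht => hc t ((hker t).1 ht)) hX hY hXY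
    (by
      apply Subtype.ext
      show (κ (π X) : Equiv.Perm (Fin 5)) = y2
      rw [hκ]
      calc ρ * σ * (π X : Equiv.Perm (Fin 5)) * (ρ * σ)⁻¹ = ρ * (σ * (π X : Equiv.Perm (Fin 5)) * σ⁻¹) * ρ⁻¹ := by
            group
        _ = y2 := by rw [hσ, hρ2])
    (by
      apply Subtype.ext
      show (κ (π Y) : Equiv.Perm (Fin 5)) = y3
      rw [hκ]
      calc ρ * σ * (π Y : Equiv.Perm (Fin 5)) * (ρ * σ)⁻¹ = ρ * (σ * (π Y : Equiv.Perm (Fin 5)) * σ⁻¹) * ρ⁻¹ := by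
            group
        _ = y3 := hρ3)
  exact ⟨w, h1, h2, h3, h4, fun H a1 a2 a3 a4 => h5 H a1 a2 a3 (fun t ht => a4 t ((hker t).1 ht))⟩

end Cfsg.Agent.AltType
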