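import Cfsg.Agent.AltType.LinF
import Cfsg.Agent.AltType.EnP

/-!
The element `g` of order three with `z → a → z a`, and the relation `(r g)⁴ = 1`.
-/

set_option autoImplicit false
set_option maxRecDepth 100000

namespace Cfsg.Agent.AltType

open Cfsg.Agent.SporadicRecognition.CosetCert Cfsg.Agent.SporadicRecognition.CosetCertHyp
  Cfsg.Agent.SporadicRecognition.CosetChain

variable {G : Type*} [Group G] {z a b c d r s g : G}

/-- relations of `g` without `(r g)⁴ = 1` -/
structure GRel0 (z a b c d s g : G) : Prop where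
  g3 : g * (g * g) = 1
  zg : z * g = g * a
  ag : a * g = g * (z * a)
  cg : c * g = g * c
  bg : b * g = g * s
  sg : s * g = g * (b * s)
  gdg : g * (d * g) = d

/-- relations of `g` -/
structure GRel (z a b c d r s g : G) : Prop extends GRel0 z a b c d s g where
  rg : r * (g * (r * (g * (r * (g * (r * g)))))) = 1

/-- letters for the certificate `EnP` -/
def lg (z a b c d r s g : G) : ℕ → G
  | 0 => z
  | 1 => a
  | 2 => b
  | 3 => c
  | 4 => d
  | 5 => s
  | 6 => r
  | 7 => r⁻¹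
  | 8 => g
  | 9 => g⁻¹
  | _ => 1

def ivg : ℕ → ℕ
  | 6 => 7
  | 7 => 6
  | 8 => 9
  | 9 => 8
  | n => n

theorem lg_lt (k : ℕ) (hk : k < 8) : lg z a b c d r s g k = lt z a b c d r s k := by
  interval_cases k <;> rfl

theorem ev_congr {g₁ g₂ : ℕ → G} (w : List ℕ) (h : ∀ y ∈ w, g₁ y = g₂ y) : ev g₁ w = ev g₂ w := by
  induction w with
  | nil => rfl
  | cons x w ih => rw [ev_cons, ev_cons, h x (by simp), ih (fun y hy => h y (by simp [hy]))]

theorem lg_inv (h : Rel z a b c d r s) (n : ℕ) (hn : n < 10) :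
    ivg n < 10 ∧ lg z a b c d r s g n * lg z a b c d r s g (ivg n) = 1 := by
  interval_cases n
  · exact ⟨by decide, h.zz⟩
  · exact ⟨by decide, h.aa⟩
  · exact ⟨by decide, h.bb⟩
  · exact ⟨by decide, h.cc⟩
  · exact ⟨by decide, h.dd⟩
  · exact ⟨by decide, h.ss⟩
  · exact ⟨by decide, mul_inv_cancel r⟩
  · exact ⟨by decide, inv_mul_cancel r⟩
  · exact ⟨by decide, mul_inv_cancel g⟩
  · exact ⟨by decide, inv_mul_cancel g⟩

def eqsG : List (List ℕ × List ℕ) := [([8,8,8],[]), ([0,8],[8,1]), ([1,8],[8,0,1]), ([3,8],[8,3]), ([2,8],[8,5]),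
  ([5,8],[8,2,5]), ([8,4,8],[4]), ([6,8,6,8,6,8,6,8],[0,3])]

theorem ev_eqsG (h : GRel0 z a b c d s g) (hrg : r * (g * (r * (g * (r * (g * (r * g)))))) = z * c) :
    ∀ e ∈ eqsG, ev (lg z a b c d r s g) e.1 = ev (lg z a b c d r s g) e.2 := by
  intro e he
  simp only [eqsG, List.mem_cons, List.not_mem_nil, or_false] at he
  rcases he with rfl | rfl | rfl | rfl | rfl | rfl | rfl | rfl
  all_goals simp only [ev_cons, ev_nil, lg, mul_one]
  · exact h.g3
  · exact h.zg
  · exact h.ag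
  · exact h.cg
  · exact h.bg
  · exact h.sg
  · exact h.gdg
  · exact hrg

def relsP : List (List ℕ) := (eqs ++ eqsG).map fun e => e.1 ++ invw ivg e.2

theorem eqsP_lt : ∀ e ∈ eqs ++ eqsG, (∀ y ∈ e.1, y < 10) ∧ ∀ y ∈ e.2, y < 10 := by decide

theorem ev_relsP (h : Rel z a b c d r s) (hg : GRel0 z a b c d s g)
    (hrg : r * (g * (r * (g * (r * (g * (r * g)))))) = z * c) :
    ∀ w ∈ relsP, ev (lg z a b c d r s g) w = 1 := by
  intro w hw
  obtain ⟨e, he, rfl⟩ := List.mem_map.mp hw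
  have h1 : ev (lg z a b c d r s g) e.1 = ev (lg z a b c d r s g) e.2 := by
    rcases List.mem_append.mp he with he | he
    · have h2 := eqs_lt e he
      rw [ev_congr e.1 (fun y hy => lg_lt y (h2.1 y hy)), ev_congr e.2 (fun y hy => lg_lt y (h2.2 y hy))]
      exact ev_eqs h e he
    · exact ev_eqsG hg hrg e he
  rw [ev_append, ev_invw (lg z a b c d r s g) ivg 10 (lg_inv h) e.2 (eqsP_lt e he).2, h1, mul_inv_cancel]

theorem collapse (h : Rel z a b c d r s) (hg : GRel0 z a b c d s g)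
    (hrg : r * (g * (r * (g * (r * (g * (r * g)))))) = z * c) : z = 1 := by
  have key : ∀ w ∈ EnPData.rels, okRel ivg 10 relsP w = true := by decide +kernel
  have := EnP.eq_one (lg z a b c d r s g) (fun x hx => by
    have h1 := (lg_inv h (g := g) x hx).2
    interval_cases x <;> exact h1) (fun w hw => okRel_sound _ (lg_inv h) (ev_relsP h hg hrg) (key w hw)) [0]
    (by simp [EnPData.targets])
  simpa only [ev_cons, ev_nil, lg, mul_one] using this

/-- `(r g)⁴ = 1` is a consequence of the other relations in presence of the centraliser. -/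
theorem F1.grel_of_grel0 (h : F1 z a b c d r s) (hg : GRel0 z a b c d s g) : GRel z a b c d r s g := by
  refine ⟨hg, ?_⟩
  have hG : ActF z a c g ⟨2, 3, 4⟩ := ⟨by norm_num, by norm_num, by norm_num, hg.zg, hg.ag, hg.cg⟩
  have h1 := h.actF_mul h.actF_r hG
  have h2 := h.actF_mul h1 h1
  have h4 := h.actF_mul h2 h2
  have e4 : cmpF (cmpF (cmpF ⟨1, 4, 6⟩ ⟨2, 3, 4⟩) (cmpF ⟨1, 4, 6⟩ ⟨2, 3, 4⟩))
      (cmpF (cmpF ⟨1, 4, 6⟩ ⟨2, 3, 4⟩) (cmpF ⟨1, 4, 6⟩ ⟨2, 3, 4⟩)) = ⟨1, 2, 4⟩ := by decide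
  rw [e4] at h4
  obtain ⟨v, hv, hvw⟩ := h.actF_triv h4
  have hw : r * (g * (r * (g * (r * (g * (r * g)))))) = fG z a c v := by rw [← hvw]; group
  have hcomm : fG z a c v * (r * g) = (r * g) * fG z a c v := by rw [← hvw]; group
  have hfix := h.actF_fix h1 hv hcomm
  have hv' : v = 0 ∨ v = 5 := by
    revert hfix
    interval_cases v <;> decide
  rcases hv' with rfl | rfl
  · rw [hw]; rfl
  · exfalso
    exact h.z_ne_one (collapse h.toRel hg hw)

end Cfsg.Agent.AltType
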