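import Cfsg.Agent.AltType.GDefs
import Cfsg.Agent.AltType.CaseI

/-!
If `a` is conjugate to `z` then there is an element `g` of order three with `z → a → z a`, normalising
`E = ⟨z, a, b, s⟩` and inverted by `d`.
-/

set_option autoImplicit false
set_option maxRecDepth 100000

namespace Cfsg.Agent.AltType

variable {G : Type*} [Group G] {z a b c d r s : G}

theorem cj_mul {x y w g k : G} (h : x * g = g * y) (h' : y * k = k * w) : x * (g * k) = (g * k) * w := by
  rw [← mul_assoc, h, mul_assoc, h', mul_assoc]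

theorem cj_inv {x y g : G} (h : x * g = g * y) : y * g⁻¹ = g⁻¹ * x := by
  rw [eq_inv_mul_iff_mul_eq, ← mul_assoc, ← h, mul_inv_cancel_right]

theorem cj_mulx {x y x' y' g : G} (h : x * g = g * y) (h' : x' * g = g * y') : (x * x') * g = g * (y * y') := by
  rw [mul_assoc, h', ← mul_assoc, h, mul_assoc]

theorem cj_comm {x y x' y' g : G} (h : x * g = g * y) (h' : x' * g = g * y') (hc : x * x' = x' * x) :
    y * y' = y' * y := by
  have h1 := cj_mulx h h'
  have h2 := cj_mulx h' h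
  rw [hc] at h1
  exact mul_left_cancel (h1.symm.trans h2)

theorem cj_uniq {x y y' g : G} (h : x * g = g * y) (h' : x * g = g * y') : y = y' :=
  mul_left_cancel (h.symm.trans h')

/-- first adjustment -/
theorem F1.step_adjust (h : F1 z a b c d r s) {n x t y1 y2 : G} (hn1 : z * n = n * a) (hn2 : x * n = n * z)
    (htt : t * t = 1) (htz : t * z = z * t) (htx : t * x = x * t)
    (h1z : y1 * z = z * y1) (h1x : y1 * x = x * y1) (h2z : y2 * z = z * y2) (h2x : y2 * x = x * y2)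
    (ht1 : t * y1 = z * (y1 * t)) (ht2 : t * y2 = x * (y2 * t)) :
    ∃ n', z * n' = n' * a ∧ x * n' = n' * z ∧ t * n' = n' * c := by
  have T0 : t * n = n * (n⁻¹ * t * n) := by group
  have Y1 : y1 * n = n * (n⁻¹ * y1 * n) := by group
  have Y2 : y2 * n = n * (n⁻¹ * y2 * n) := by group
  obtain ⟨v, hv, hv4, hT⟩ := h.prop_P (x := n⁻¹ * t * n) (y := n⁻¹ * y2 * n) (w := n⁻¹ * y1 * n)
    (cj_comm T0 hn2 htx) (cj_comm T0 hn1 htz)
    (by
      have := cj_mulx T0 T0
      rw [htt, one_mul] at this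
      exact mul_eq_left.mp this.symm)
    (cj_comm Y2 hn2 h2x) (cj_comm Y2 hn1 h2z)
    (by
      have e1 := cj_mulx T0 Y2
      have e2 := cj_mulx hn2 (cj_mulx Y2 T0)
      rw [ht2] at e1
      exact cj_uniq e1 e2)
    (cj_comm Y1 hn2 h1x) (cj_comm Y1 hn1 h1z)
    (by
      have e1 := cj_mulx T0 Y1
      have e2 := cj_mulx hn1 (cj_mulx Y1 T0)
      rw [ht1] at e1
      exact cj_uniq e1 e2)
  rw [hT] at T0
  -- adjust by an element commuting with `z, a`
  have hy : ∃ y, z * y = y * z ∧ a * y = y * a ∧ fG z a c v * y = y * c := by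
    have hb := h.actF_b
    have hs := h.actF_s
    have hsb := h.actF_mul hs hb
    have : v = 4 ∨ v = 5 ∨ v = 6 ∨ v = 7 := by omega
    rcases this with rfl | rfl | rfl | rfl
    · exact ⟨1, by rw [mul_one, one_mul], by rw [mul_one, one_mul], by rw [mul_one, one_mul]; rfl⟩
    · exact ⟨b, hb.e0, hb.e1, (h.actF_app hb (v := 5) (by norm_num)).1⟩
    · exact ⟨s, hs.e0, hs.e1, (h.actF_app hs (v := 6) (by norm_num)).1⟩
    · exact ⟨s * b, hsb.e0, hsb.e1, (h.actF_app hsb (v := 7) (by norm_num)).1⟩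
  obtain ⟨y, hyz, hya, hyc⟩ := hy
  exact ⟨n * y, cj_mul hn1 hya, cj_mul hn2 hyz, cj_mul T0 hyc⟩

/-- the element `k` acting on `A₁` as `z → a → z a`, `c → c` -/
theorem F1.exists_k (h : F1 z a b c d r s) (hf : Fus z a) :
    ∃ k, z * k = k * a ∧ a * k = k * (z * a) ∧ c * k = k * c := by
  obtain ⟨g, hg⟩ := hf
  have hz' : z = g * a * g⁻¹ := by rw [← hg]; group
  have hxc : g * z * g⁻¹ * z = z * (g * z * g⁻¹) := by
    calc g * z * g⁻¹ * z = g * z * g⁻¹ * (g * a * g⁻¹) := by rw [← hz']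
      _ = g * (z * a) * g⁻¹ := by group
      _ = g * (a * z) * g⁻¹ := by rw [h.az]
      _ = (g * a * g⁻¹) * (g * z * g⁻¹) := by group
      _ = z * (g * z * g⁻¹) := by rw [← hz']
  have haz : a ≠ z := fun e => by
    have := h.eG_inj (v := 2) (w := 1) (by norm_num) (by norm_num) e
    norm_num at this
  have hxz : g * z * g⁻¹ ≠ z := by
    intro e
    apply haz
    have h1 : g * z = z * g := by
      rw [mul_inv_eq_iff_eq_mul] at e; exact e
    rw [hg] at h1
    exact (mul_left_cancel h1).symm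
  obtain ⟨y, hy, hyw⟩ := h.fus_cases hxc hxz ⟨g⁻¹, by group⟩
  have key : ∀ w, g * z * g⁻¹ * y = y * w → z * (y⁻¹ * g) = (y⁻¹ * g) * a ∧ w * (y⁻¹ * g) = (y⁻¹ * g) * z := by
    intro w hw
    have hy' : z * y⁻¹ = y⁻¹ * z := by
      rw [eq_inv_mul_iff_mul_eq, ← mul_assoc, hy, mul_inv_cancel_right]
    constructor
    · rw [← mul_assoc, hy', mul_assoc, hg, mul_assoc]
    · have h1 : w = y⁻¹ * (g * z * g⁻¹) * y := by rw [mul_assoc, hw, inv_mul_cancel_left]
      rw [h1]; group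
  -- `w = s` or `z s` is impossible
  have hbad : ∀ w, w = s ∨ w = z * s → ¬ (g * z * g⁻¹ * y = y * w) := by
    intro w hw hyw
    obtain ⟨hn1, hn2⟩ := key w hyw
    set n := y⁻¹ * g with hn
    have img : ∀ v : G, v * z = z * v → v * a = a * v → ∃ V < 16, n * v = eG z a b s V * n := by
      intro v hvz hva
      have i1 : a * n⁻¹ = n⁻¹ * z := cj_inv hn1
      have i2 : z * n⁻¹ = n⁻¹ * w := cj_inv hn2
      have i3 : v * n⁻¹ = n⁻¹ * (n * v * n⁻¹) := by group
      have h3 : (n * v * n⁻¹) * z = z * (n * v * n⁻¹) := cj_comm i3 i1 hva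
      have h4 : (n * v * n⁻¹) * w = w * (n * v * n⁻¹) := cj_comm i3 i2 hvz
      have h5 : (n * v * n⁻¹) * s = s * (n * v * n⁻¹) := by
        rcases hw with rfl | rfl
        · exact h4
        · have : z * ((n * v * n⁻¹) * s) = z * (s * (n * v * n⁻¹)) := by
            rw [← mul_assoc, ← h3, mul_assoc, h4, mul_assoc]
          exact mul_left_cancel this
      obtain ⟨V, hV, h6⟩ := h.cent_s h3 h5
      exact ⟨V, hV, by rw [← h6]; group⟩
    obtain ⟨V, hV, e1⟩ := img c h.cz h.ac.symm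
    obtain ⟨W, hW, e2⟩ := img b h.bz h.ab.symm
    have h1 : n * (c * b) = n * (b * c) := by
      calc n * (c * b) = (n * c) * b := by group
        _ = eG z a b s V * (n * b) := by rw [e1, mul_assoc]
        _ = eG z a b s V * eG z a b s W * n := by rw [e2, mul_assoc]
        _ = eG z a b s W * eG z a b s V * n := by rw [h.eG_mul hV hW, h.eG_mul hW hV, Nat.xor_comm]
        _ = eG z a b s W * (n * c) := by rw [e1, mul_assoc]
        _ = (n * b) * c := by rw [e2]; exact (mul_assoc _ _ _).symm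
        _ = n * (b * c) := by group
    have h2 := mul_left_cancel h1
    rw [h.cb] at h2
    exact h.z_ne_one (mul_eq_right.mp h2)
  -- the general situation after adjustment
  have fin2 : ∀ n t x, z * n = n * a → x * n = n * z → t * n = n * c →
      (x * (s * r) = (s * r) * t ∧ t * (s * r) = (s * r) * x) →
      ∃ k, z * k = k * a ∧ a * k = k * (z * a) ∧ c * k = k * c := by
    intro n t x hn1 hn2 hn3 hxt
    have hr := h.actF_r
    have hs := h.actF_s
    have hb := h.actF_b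
    have hsr := h.actF_mul hs hr
    have hzsr : z * (s * r) = (s * r) * z := hsr.e0
    -- `m = n⁻¹ (s r) n`: `z → c → z`, `a → a`
    have i1 := cj_inv hn1
    have i2 := cj_inv hn2
    have i3 := cj_inv hn3
    have m0 : z * (n⁻¹ * ((s * r) * n)) = (n⁻¹ * ((s * r) * n)) * c := cj_mul i2 (cj_mul hxt.1 hn3)
    have m1 : a * (n⁻¹ * ((s * r) * n)) = (n⁻¹ * ((s * r) * n)) * a := cj_mul i1 (cj_mul hzsr hn1)
    have m2 : c * (n⁻¹ * ((s * r) * n)) = (n⁻¹ * ((s * r) * n)) * z := cj_mul i3 (cj_mul hxt.2 hn2)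
    have hm : ActF z a c (n⁻¹ * ((s * r) * n)) ⟨4, 2, 1⟩ := ⟨by norm_num, by norm_num, by norm_num, m0, m1, m2⟩
    have hk := h.actF_mul (h.actF_mul (h.actF_mul hsr hb) hm) hsr
    have e4 : cmpF (cmpF (cmpF (cmpF ⟨1, 2, 6⟩ ⟨1, 4, 6⟩) ⟨1, 2, 5⟩) ⟨4, 2, 1⟩) (cmpF ⟨1, 2, 6⟩ ⟨1, 4, 6⟩) =
      ⟨2, 3, 4⟩ := by decide
    rw [e4] at hk
    exact ⟨_, hk.e0, hk.e1, hk.e2⟩
  rcases hyw with e | e | e | e | e
  · obtain ⟨hn1, hn2⟩ := key a e
    obtain ⟨n, m1, m2, m3⟩ := h.step_adjust (t := c) (y1 := b) (y2 := s) hn1 hn2 h.cc h.cz h.ac.symm h.bz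
      h.ab.symm h.sz h.as.symm h.cb (by rw [h.cs, ← mul_assoc, ← h.as, mul_assoc])
    have hn : ActF z a c n ⟨2, 1, 4⟩ := ⟨by norm_num, by norm_num, by norm_num, m1, m2, m3⟩
    have hk := h.actF_mul h.actF_d hn
    have e4 : cmpF ⟨1, 3, 4⟩ ⟨2, 1, 4⟩ = ⟨2, 3, 4⟩ := by decide
    rw [e4] at hk
    exact ⟨_, hk.e0, hk.e1, hk.e2⟩
  · obtain ⟨hn1, hn2⟩ := key b e
    obtain ⟨n, m1, m2, m3⟩ := h.step_adjust (t := d) (y1 := a) (y2 := s) hn1 hn2 h.dd h.dz h.bd.symm h.az
      h.ab h.sz h.bs.symm h.toRel.da (by rw [h.ds, ← mul_assoc, ← h.bs, mul_assoc])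
    have hk := h.swap.actF_mul h.swap.actF_s h.swap.actF_r
    refine fin2 n d b m1 m2 m3 ⟨hk.e1, ?_⟩
    exact hk.e2
  · obtain ⟨hn1, hn2⟩ := key _ e
    have h3 := h.third.swap
    obtain ⟨n, m1, m2, m3⟩ := h.step_adjust (t := z * (c * d)) (y1 := a) (y2 := s) hn1 hn2 h3.cc h3.cz h3.ac.symm
      h.az h3.ab.symm h.sz h3.as.symm h3.cb (by rw [h3.cs, ← mul_assoc, ← h3.as, mul_assoc])
    have hk := h3.actF_mul h3.actF_s h3.actF_r
    refine fin2 n _ _ m1 m2 m3 ⟨hk.e1, ?_⟩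
    exact hk.e2
  · exact absurd e (hbad s (Or.inl rfl))
  · exact absurd e (hbad _ (Or.inr rfl))

/-- an element acting on `A₁` as `z → a → z a`, `c → c` can be chosen of order three -/
theorem F1.exists_k3 (h : F1 z a b c d r s) (hf : Fus z a) :
    ∃ k, k * (k * k) = 1 ∧ z * k = k * a ∧ a * k = k * (z * a) ∧ c * k = k * c := by
  obtain ⟨k, k0, k1, k2⟩ := h.exists_k hf
  have hk : ActF z a c k ⟨2, 3, 4⟩ := ⟨by norm_num, by norm_num, by norm_num, k0, k1, k2⟩
  have hk3 := h.actF_mul hk (h.actF_mul hk hk)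
  have e3 : cmpF ⟨2, 3, 4⟩ (cmpF ⟨2, 3, 4⟩ ⟨2, 3, 4⟩) = ⟨1, 2, 4⟩ := by decide
  rw [e3] at hk3
  obtain ⟨v, hv, hvk⟩ := h.actF_triv hk3
  have hcomm : fG z a c v * k = k * fG z a c v := by rw [← hvk]; group
  have hfix := h.actF_fix hk hv hcomm
  have hv' : v = 0 ∨ v = 4 := by
    revert hfix
    interval_cases v <;> decide
  rcases hv' with rfl | rfl
  · exact ⟨k, hvk, k0, k1, k2⟩
  · -- `k³ = c`: take `c k`
    have hkc : k * (k * k) = c := hvk
    have hc := h.cc
    refine ⟨c * k, ?_, ?_, ?_, ?_⟩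
    · calc c * k * (c * k * (c * k)) = c * (k * c) * k * (c * k) := by group
        _ = (c * c) * k * k * (c * k) := by rw [← k2]; group
        _ = k * (k * c) * k := by rw [hc]; group
        _ = k * (c * k) * k := by rw [k2]
        _ = (k * c) * k * k := by group
        _ = c * (k * (k * k)) := by rw [← k2]; group
        _ = 1 := by rw [hkc, hc]
    · rw [← mul_assoc, ← h.cz, mul_assoc, k0, mul_assoc]
    · rw [← mul_assoc, h.ac, mul_assoc, k1, mul_assoc]
    · rw [mul_assoc, ← k2]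

theorem checkB : ∀ B ∈ [8, 9, 10, 11], ∀ X < 16,
    cmp ⟨2, 3, B, X⟩ (cmp ⟨1, 3, 4, 12⟩ ⟨2, 3, B, X⟩) = ⟨1, 3, 4, 12⟩ →
    cmp ⟨2, 3, B, X⟩ (cmp ⟨2, 3, B, X⟩ ⟨2, 3, B, X⟩) = ⟨1, 2, 4, 8⟩ →
    (B, X) ∈ [(8, 12), (9, 15)] := by
  decide +kernel

/-- the element `g`, possibly after replacing `s` by `s z` -/
theorem F1.exists_g (h : F1 z a b c d r s) (hf : Fus z a) :
    ∃ s', (s' = s ∨ s' = s * z) ∧ ∃ g, GRel z a b c d r s' g := by
  obtain ⟨k, hk3, k0, k1, k2⟩ := h.exists_k3 hf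
  -- make it inverted by `d`
  have hg : ∃ g, g * (g * g) = 1 ∧ z * g = g * a ∧ a * g = g * (z * a) ∧ c * g = g * c ∧ g * (d * g) = d := by
    have hk : ActF z a c k ⟨2, 3, 4⟩ := ⟨by norm_num, by norm_num, by norm_num, k0, k1, k2⟩
    have hkd := h.actF_mul hk h.actF_d
    have h2 := h.actF_mul hkd hkd
    have e2 : cmpF (cmpF ⟨2, 3, 4⟩ ⟨1, 3, 4⟩) (cmpF ⟨2, 3, 4⟩ ⟨1, 3, 4⟩) = ⟨1, 2, 4⟩ := by decide
    rw [e2] at h2
    obtain ⟨v, hv, hvk⟩ := h.actF_triv h2
    have hcomm : fG z a c v * (k * d) = (k * d) * fG z a c v := by rw [← hvk]; group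
    have hfix := h.actF_fix hkd hv hcomm
    have hv' : v = 0 ∨ v = 2 ∨ v = 4 ∨ v = 6 := by
      revert hfix
      interval_cases v <;> decide
    have hdd := h.dd
    -- `x = d k d = k⁻¹ v` has order three
    have hx : d * k * d = k⁻¹ * fG z a c v := by
      rw [← hvk]; group
    have hx3 : (d * k * d) * ((d * k * d) * (d * k * d)) = 1 := by
      calc (d * k * d) * ((d * k * d) * (d * k * d)) = d * k * (d * d) * k * (d * d) * k * d := by group
        _ = d * (k * (k * k)) * d := by rw [hdd]; group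
        _ = 1 := by rw [hk3, mul_one, hdd]
    have hi0 : z * k⁻¹ = k⁻¹ * (z * a) := by
      have h1 := cj_mulx k0 k1
      have h2 : a * (z * a) = z := by rw [← mul_assoc, h.az, mul_assoc, h.aa, mul_one]
      rw [h2] at h1
      exact cj_inv h1
    have hi1 : a * k⁻¹ = k⁻¹ * z := cj_inv k0
    have hi2 : c * k⁻¹ = k⁻¹ * c := cj_inv k2
    have hi : ActF z a c k⁻¹ ⟨3, 1, 4⟩ := ⟨by norm_num, by norm_num, by norm_num, hi0, hi1, hi2⟩
    have hcube : k⁻¹ * (k⁻¹ * k⁻¹) = 1 := by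
      have : k⁻¹ * (k⁻¹ * k⁻¹) = (k * (k * k))⁻¹ := by group
      rw [this, hk3, inv_one]
    have hbad : ∀ v < 8, v = 4 ∨ v = 6 → (k⁻¹ * fG z a c v) * ((k⁻¹ * fG z a c v) * (k⁻¹ * fG z a c v)) = 1 →
        False := by
      intro v hv hv4 hcub
      have f1 := (h.actF_app hi hv).1
      have l1 := (h.actF_app hi hv).2
      have f2 := (h.actF_app hi l1).1
      have l2 := (h.actF_app hi l1).2
      have e5 : (k⁻¹ * fG z a c v) * ((k⁻¹ * fG z a c v) * (k⁻¹ * fG z a c v)) =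
          k⁻¹ * (k⁻¹ * k⁻¹) * (fG z a c (appF ⟨3, 1, 4⟩ (appF ⟨3, 1, 4⟩ v)) *
            (fG z a c (appF ⟨3, 1, 4⟩ v) * fG z a c v)) := by
        calc (k⁻¹ * fG z a c v) * ((k⁻¹ * fG z a c v) * (k⁻¹ * fG z a c v))
            = k⁻¹ * (fG z a c v * k⁻¹) * (fG z a c v * k⁻¹) * fG z a c v := by group
          _ = k⁻¹ * k⁻¹ * (fG z a c (appF ⟨3, 1, 4⟩ v) * k⁻¹) * fG z a c (appF ⟨3, 1, 4⟩ v) * fG z a c v := by
              rw [f1]; group
          _ = _ := by rw [f2]; group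
      rw [e5, hcube, one_mul, h.fG_mul l1 hv, h.fG_mul l2 (xltF l1 hv)] at hcub
      have := h.fG_inj (xltF l2 (xltF l1 hv)) (by norm_num : (0 : ℕ) < 8) hcub
      revert this
      rcases hv4 with rfl | rfl <;> decide
    rw [hx] at hx3
    rcases hv' with rfl | rfl | rfl | rfl
    · refine ⟨k, hk3, k0, k1, k2, ?_⟩
      have h1 : k * d * (k * d) = 1 := hvk
      calc k * (d * k) = k * d * (k * d) * d⁻¹ := by group
        _ = d := by rw [h1, one_mul]; exact inv_eq_of_mul_eq_one_left hdd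
    · -- replace `k` by `a k a`
      have haa := h.aa
      have h1 : k * d * (k * d) = a := hvk
      have hdi : d⁻¹ = d := inv_eq_of_mul_eq_one_left hdd
      have h2 : k * d * k = a * d := by
        calc k * d * k = k * d * (k * d) * d⁻¹ := by group
          _ = a * d := by rw [h1, hdi]
      refine ⟨a * (k * a), ?_, ?_, ?_, ?_, ?_⟩
      · calc a * (k * a) * (a * (k * a) * (a * (k * a))) = a * k * (a * a) * k * (a * a) * k * a := by group
          _ = a * (k * (k * k)) * a := by rw [haa]; group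
          _ = 1 := by rw [hk3, mul_one, haa]
      · exact cj_mul h.az.symm (cj_mul k0 rfl)
      · refine cj_mul rfl (cj_mul k1 ?_)
        rw [mul_assoc, ← mul_assoc a z a, h.az, mul_assoc]
      · exact cj_mul h.ac.symm (cj_mul k2 h.ac.symm)
      · have hda : a * (d * a) = z * d := by
          rw [← mul_assoc, h.ad, mul_assoc, mul_assoc, haa, mul_one]
        have hkz : k * z = (z * a) * k := by
          have h3 := cj_mulx k0 k1
          have h4 : a * (z * a) = z := by rw [← mul_assoc, h.az, mul_assoc, haa, mul_one]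
          rw [h4] at h3
          exact h3.symm
        calc a * (k * a) * (d * (a * (k * a))) = a * k * (a * (d * a)) * k * a := by group
          _ = a * (k * z) * d * k * a := by rw [hda]; group
          _ = a * z * (a * (k * d * k)) * a := by rw [hkz]; group
          _ = a * z * ((a * a) * d) * a := by rw [h2]; group
          _ = (z * a) * d * a := by rw [haa, h.az]; group
          _ = z * (a * (d * a)) := by group
          _ = d := by rw [hda, ← mul_assoc, h.zz, one_mul]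
    · exact (hbad 4 (by norm_num) (Or.inl rfl) hx3).elim
    · exact (hbad 6 (by norm_num) (Or.inr rfl) hx3).elim
  obtain ⟨g, g3, g0, g1, g2, gd⟩ := hg
  -- the images of `b` and `s`
  have hza : z * a * g = g * z := by
    have h1 := cj_mulx g0 g1
    have h2 : a * (z * a) = z := by rw [← mul_assoc, h.az, mul_assoc, h.aa, mul_one]
    rwa [h2] at h1
  have hB : b * g = g * (g⁻¹ * b * g) := by group
  have hBz : (g⁻¹ * b * g) * z = z * (g⁻¹ * b * g) :=
    cj_comm hB hza (by rw [← mul_assoc, h.bz, mul_assoc, ← h.ab, mul_assoc])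
  have hBa : (g⁻¹ * b * g) * a = a * (g⁻¹ * b * g) := cj_comm hB g0 h.bz
  have hBB : (g⁻¹ * b * g) * (g⁻¹ * b * g) = 1 := by
    calc (g⁻¹ * b * g) * (g⁻¹ * b * g) = g⁻¹ * (b * b) * g := by group
      _ = 1 := by rw [h.bb]; group
  have hBc : c * (g⁻¹ * b * g) = a * ((g⁻¹ * b * g) * c) := by
    have h1 := cj_mulx g2 hB
    have h2 := cj_mulx g0 (cj_mulx hB g2)
    rw [h.cb] at h1
    exact cj_uniq h1 h2
  have hcases := h.prop_B hBz hBa hBB hBc
  -- `s` goes into `E`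
  have hS : s * g = g * (g⁻¹ * s * g) := by group
  have hSz : (g⁻¹ * s * g) * z = z * (g⁻¹ * s * g) :=
    cj_comm hS hza (by rw [← mul_assoc, h.sz, mul_assoc, ← h.as, mul_assoc])
  have hSa : (g⁻¹ * s * g) * a = a * (g⁻¹ * s * g) := cj_comm hS g0 h.sz
  have hSB : (g⁻¹ * s * g) * (g⁻¹ * b * g) = (g⁻¹ * b * g) * (g⁻¹ * s * g) := cj_comm hS hB h.bs.symm
  have hSs : (g⁻¹ * s * g) * s = s * (g⁻¹ * s * g) := by
    have hfin : ∀ y, (g⁻¹ * s * g) * y = y * (g⁻¹ * s * g) → (g⁻¹ * s * g) * (y * s) = (y * s) * (g⁻¹ * s * g) →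
        (g⁻¹ * s * g) * s = s * (g⁻¹ * s * g) := by
      intro y h1 h2
      have h3 : y * ((g⁻¹ * s * g) * s) = y * (s * (g⁻¹ * s * g)) := by
        rw [← mul_assoc, ← h1, mul_assoc, h2, mul_assoc]
      exact mul_left_cancel h3
    rcases hcases with e | e | e | e
    · rw [e] at hSB; exact hSB
    · rw [e] at hSB; exact hfin z hSz hSB
    · rw [e] at hSB; exact hfin a hSa hSB
    · have e' : g⁻¹ * b * g = z * a * s := by rw [e, mul_assoc]
      rw [e'] at hSB
      refine hfin (z * a) ?_ hSB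
      rw [← mul_assoc, hSz, mul_assoc, hSa, mul_assoc, ← mul_assoc z a]
  obtain ⟨X, hX, hSX⟩ := h.cent_s hSz hSs
  rw [hSX] at hS
  have hB' : ∃ B, B ∈ [8, 9, 10, 11] ∧ g⁻¹ * b * g = eG z a b s B := by
    rcases hcases with e | e | e | e
    · exact ⟨8, by decide, e⟩
    · exact ⟨9, by decide, e⟩
    · exact ⟨10, by decide, e⟩
    · exact ⟨11, by decide, e⟩
  obtain ⟨B, hBm, hBe⟩ := hB'
  rw [hBe] at hB
  have hB16 : B < 16 := by
    simp only [List.mem_cons, List.not_mem_nil, or_false] at hBm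
    omega
  have hG : Act z a b s g ⟨2, 3, B, X⟩ := ⟨by norm_num, by norm_num, hB16, hX, g0, g1, hB, hS⟩
  have c1 := h.act_mul hG (h.act_mul h.act_d hG)
  rw [gd] at c1
  have c2 := h.act_mul hG (h.act_mul hG hG)
  rw [g3] at c2
  have hBX := checkB B hBm X hX (h.act_unique c1 h.act_d) (h.act_unique c2 h.act_one)
  simp only [List.mem_cons, List.not_mem_nil, or_false, Prod.mk.injEq] at hBX
  rcases hBX with ⟨rfl, rfl⟩ | ⟨rfl, rfl⟩
  · exact ⟨s, Or.inl rfl, g, h.grel_of_grel0 ⟨g3, g0, g1, g2, hB, hS, gd⟩⟩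
  · refine ⟨s * z, Or.inr rfl, g, h.twist.grel_of_grel0 ⟨g3, g0, g1, g2, ?_, ?_, gd⟩⟩
    · rw [h.sz]; exact hB
    · have h1 := cj_mulx hS g0
      have h2 : eG z a b s 15 * a = b * (s * z) := by
        have h3 := h.eG_mul (v := 15) (w := 2) (by norm_num) (by norm_num)
        have h4 : b * (s * z) = eG z a b s 13 := by
          rw [h.sz, ← mul_assoc, h.bz, mul_assoc]; rfl
        rw [h4]; exact h3
      rw [h2] at h1
      exact h1

end Cfsg.Agent.AltType
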