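import Mathlib
import Cfsg.Agent.AltType.CaseI
import Cfsg.Agent.TwoFusion.StronglyEmbeddedBasic

/-!
General lemmas: involutions inverting groups of odd order, the Z*-theorem in a subgroup, strongly embedded subgroups.
-/

set_option autoImplicit false

namespace Cfsg.Agent.AltType

variable {G : Type*} [Group G]

theorem eq_one_of_odd {n : G} (N : Subgroup G) [Finite N] (hN : Odd (Nat.card N)) (hn : n ∈ N)
    (h4 : (n * n) * (n * n) = 1) : n = 1 := by
  have h1 : orderOf n ∣ 4 := orderOf_dvd_of_pow_eq_one (by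
    rw [show (4 : ℕ) = 2 + 2 by norm_num, pow_add, pow_two, h4])
  have h2 : orderOf n ∣ Nat.card N := N.orderOf_dvd_natCard hn
  have h3 : Nat.Coprime 4 (Nat.card N) := by
    have : Nat.Coprime 2 (Nat.card N) := (Nat.coprime_two_left).mpr hN
    exact (Nat.Coprime.pow_left 2 this)
  exact orderOf_eq_one_iff.mp (Nat.eq_one_of_dvd_coprimes h3 h1 h2)

/-- An involution acting fixed-point-freely on a finite group inverts it. -/
theorem inverts [Finite G] (N : Subgroup G) {t : G} (ht : t * t = 1) (hN : ∀ n ∈ N, t * n * t ∈ N)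
    (hfix : ∀ n ∈ N, t * n = n * t → n = 1) : ∀ n ∈ N, t * n * t = n⁻¹ := by
  let φ : N →* N :=
    { toFun := fun n => ⟨t * n * t, hN n n.2⟩
      map_one' := by
        apply Subtype.ext
        show t * 1 * t = 1
        rw [mul_one, ht]
      map_mul' := by
        intro x y
        apply Subtype.ext
        show t * (x * y : G) * t = (t * x * t) * (t * y * t)
        calc t * (x * y : G) * t = t * x * 1 * y * t := by group
          _ = t * x * (t * t) * y * t := by rw [ht]
          _ = (t * x * t) * (t * y * t) := by group }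
  have hφ : MonoidHom.FixedPointFree φ := by
    intro n hn
    have h1 : t * (n : G) * t = n := congrArg Subtype.val hn
    apply Subtype.ext
    apply hfix n n.2
    calc t * (n : G) = t * n * (t * t) := by rw [ht, mul_one]
      _ = (t * n * t) * t := by group
      _ = n * t := by rw [h1]
  have h2 : Function.Involutive φ := by
    intro n
    apply Subtype.ext
    show t * (t * n * t : G) * t = n
    calc t * (t * n * t : G) * t = (t * t) * n * (t * t) := by group
      _ = n := by rw [ht, one_mul, mul_one]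
  have h3 := hφ.coe_eq_inv_of_involutive h2
  intro n hn
  have h4 := congrFun h3 ⟨n, hn⟩
  exact congrArg Subtype.val h4

/-- Two distinct commuting involutions `t, u` and their product cannot all act fixed-point-freely. -/
theorem trivial_of_three [Finite G] (N : Subgroup G) (hodd : Odd (Nat.card N)) {t u : G}
    (ht : ∀ n ∈ N, t * n * t = n⁻¹) (hu : ∀ n ∈ N, u * n * u = n⁻¹)
    (htu : ∀ n ∈ N, (t * u) * n * (t * u) = n⁻¹) (hc : t * u = u * t) : N = ⊥ := by
  rw [Subgroup.eq_bot_iff_forall]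
  intro n hn
  have h1 := htu n hn
  have h2 : (t * u) * n * (t * u) = n := by
    calc (t * u) * n * (t * u) = t * (u * n * u) * t := by
          conv_lhs => rw [hc]
          rw [← hc]
          calc t * u * n * (t * u) = t * u * n * (u * t) := by rw [hc]
            _ = t * (u * n * u) * t := by group
      _ = t * n⁻¹ * t := by rw [hu n hn]
      _ = n⁻¹⁻¹ := ht _ (N.inv_mem hn)
      _ = n := inv_inv n
  rw [h2] at h1
  have h3 : n * n = 1 := by
    conv_lhs => rw [h1]
    rw [← h1]
    nth_rewrite 1 [h1]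
    exact inv_mul_cancel n
  exact eq_one_of_odd N hodd hn (by rw [h3, one_mul])

/-- The Z*-theorem in a subgroup. -/
theorem zstar_sub [Finite G] (K : Subgroup G) {t : G} (htK : t ∈ K) (htt : t * t = 1) (ht1 : t ≠ 1)
    (hiso : ∀ k ∈ K, (k * t * k⁻¹) * t = t * (k * t * k⁻¹) → k * t * k⁻¹ = t) :
    ∃ N : Subgroup G, N ≤ K ∧ (∀ k ∈ K, ∀ n ∈ N, k * n * k⁻¹ ∈ N) ∧ Odd (Nat.card N) ∧
      ∀ k ∈ K, t * k * t⁻¹ * k⁻¹ ∈ N := by
  have : Fact (Nat.Prime 2) := ⟨Nat.prime_two⟩
  let t' : K := ⟨t, htK⟩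
  have ho : orderOf t' = 2 := orderOf_eq_prime (by rw [pow_two]; exact Subtype.ext htt)
    (fun h => ht1 (congrArg Subtype.val h))
  have hi : Cfsg.IsIsolatedInvolution t' := by
    refine ⟨ho, ?_⟩
    intro g hg
    apply Subtype.ext
    exact hiso g g.2 (congrArg Subtype.val hg.eq).symm
  have hp : IsPGroup 2 (Subgroup.zpowers t') := by
    apply IsPGroup.of_card (n := 1)
    rw [Nat.card_zpowers, ho, pow_one]
  obtain ⟨P, hP⟩ := hp.exists_le_sylow
  have htP : t' ∈ P := hP (Subgroup.mem_zpowers t')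
  obtain ⟨N, hN, hodd, hcomm⟩ := Cfsg.Agent.S0215.result P t' ho htP
    (fun g hg => Cfsg.Agent.S1180.eq_of_conj_mem_isPGroup t' hi (P : Subgroup K) P.2 htP g hg)
  refine ⟨N.map K.subtype, Subgroup.map_subtype_le N, ?_, ?_, ?_⟩
  · rintro k hk _ ⟨n, hn, rfl⟩
    exact ⟨⟨k, hk⟩ * n * ⟨k, hk⟩⁻¹, hN.conj_mem n hn _, rfl⟩
  · rw [Subgroup.card_map_of_injective K.subtype_injective]
    exact hodd
  · intro k hk
    exact ⟨_, hcomm ⟨k, hk⟩, rfl⟩

open Cfsg.Agent.TwoFusion.StronglyEmbeddedBasic in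
/-- Closing argument: a proper subgroup of a simple group containing the centralisers of its involutions has only one
class of involutions. -/
theorem strong [Finite G] [IsSimpleGroup G] (H : Subgroup G) (hH : H ≠ ⊤)
    (hcent : ∀ i ∈ H, i * i = 1 → i ≠ 1 → ∀ x, x * i = i * x → x ∈ H) {i₁ i₂ : G} (h1 : i₁ ∈ H) (h2 : i₂ ∈ H)
    (h11 : i₁ * i₁ = 1) (h22 : i₂ * i₂ = 1) (n1 : i₁ ≠ 1) (n2 : i₂ ≠ 1) : Fus i₁ i₂ := by
  -- a conjugate of `i₁` outside `H`
  obtain ⟨g, hg⟩ : ∃ g : G, g⁻¹ * i₁ * g ∉ H := by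
    by_contra hcon
    push Not at hcon
    have hle : Subgroup.normalClosure {i₁} ≤ H := by
      rw [Subgroup.normalClosure, Subgroup.closure_le]
      intro x hx
      rw [Group.mem_conjugatesOfSet_iff] at hx
      obtain ⟨y, hy, hyx⟩ := hx
      rw [Set.mem_singleton_iff] at hy
      subst hy
      obtain ⟨c, rfl⟩ := isConj_iff.mp hyx
      have := hcon c⁻¹
      rwa [inv_inv] at this
    rcases (Subgroup.normalClosure_normal (s := {i₁})).eq_bot_or_eq_top with e | e
    · apply n1
      have : i₁ ∈ Subgroup.normalClosure ({i₁} : Set G) := Subgroup.subset_normalClosure rfl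
      rwa [e, Subgroup.mem_bot] at this
    · exact hH (top_le_iff.mp (e ▸ hle))
  set j := g⁻¹ * i₁ * g with hj
  have hjj : j * j = 1 := by
    rw [hj]
    calc g⁻¹ * i₁ * g * (g⁻¹ * i₁ * g) = g⁻¹ * (i₁ * i₁) * g := by group
      _ = 1 := by rw [h11]; group
  have hj1 : j ≠ 1 := fun e => hg (e ▸ H.one_mem)
  have hfj : Fus i₁ j := ⟨g, by rw [hj]; group⟩
  have oj : orderOf j = 2 := orderOf_eq_two_of_mul_self hjj hj1
  have o2 : orderOf i₂ = 2 := orderOf_eq_two_of_mul_self h22 n2
  have hodd : Odd (orderOf (i₂ * j)) := by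
    by_contra hne
    obtain ⟨w, -, ow, hwi, hwj⟩ := exists_commuting_involution i₂ j o2 oj (orderOf_pos _) hne
    have hw1 : w ≠ 1 := by
      rintro rfl
      rw [orderOf_one] at ow
      omega
    have hwH : w ∈ H := hcent i₂ h2 h22 n2 w hwi.eq
    exact hg (hcent w hwH (mul_self_of_orderOf ow) hw1 j hwj.eq.symm)
  obtain ⟨w, -, -, hw, -⟩ := exists_swap i₂ j o2 oj hodd
  have h2j : Fus i₂ j := ⟨w⁻¹, by rw [← hw]; group⟩
  exact hfj.trans h2j.symm

end Cfsg.Agent.AltType
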