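import Cfsg.Agent.AltType.GTwo
import Cfsg.Agent.AltType.EnAAll
import Cfsg.Agent.Lib.AltCarmichael

/-!
The homomorphism `A₈ → G`.
-/

set_option autoImplicit false
set_option maxRecDepth 100000

namespace Cfsg.Agent.AltType

open Cfsg.Agent.SporadicRecognition.CosetCert Cfsg.Agent.SporadicRecognition.CosetCertHyp
  Cfsg.Agent.SporadicRecognition.CosetChain

/-- relations of the whole amalgam -/
structure Rel2 {G : Type*} [Group G] (z a b c d r s g k : G) : Prop extends Rel z a b c d r s where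
  hg : GRel z a b c d r s g
  hk : GRel z b a d c r s k
  gk : g * k = k * g

variable {G : Type*} [Group G] {z a b c d r s g k : G}

/-- letters for the certificate `EnA` -/
def l12 (z a b c d r s g k : G) : ℕ → G
  | 0 => z
  | 1 => a
  | 2 => b
  | 3 => c
  | 4 => d
  | 5 => s
  | 6 => r
  | 7 => r⁻¹
  | 8 => g
  | 9 => g⁻¹
  | 10 => k
  | 11 => k⁻¹
  | _ => 1

def iv12 : ℕ → ℕ
  | 6 => 7
  | 7 => 6
  | 8 => 9
  | 9 => 8
  | 10 => 11
  | 11 => 10
  | n => n

theorem l12_lt (i : ℕ) (hi : i < 8) : l12 z a b c d r s g k i = lt z a b c d r s i := by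
  interval_cases i <;> rfl

theorem l12_inv (h : Rel z a b c d r s) (n : ℕ) (hn : n < 12) :
    iv12 n < 12 ∧ l12 z a b c d r s g k n * l12 z a b c d r s g k (iv12 n) = 1 := by
  interval_cases n
  · exact ⟨by decide, h.zz⟩
  · exact ⟨by decide, h.aa⟩
  · exact ⟨by decide, h.bb⟩
  · exact ⟨by decide, h.cc⟩
  · exact ⟨by decide, h.dd⟩
  · exact ⟨by decide, h.ss⟩
  · exact ⟨by decide, mul_inv_cancel r⟩
  · exact ⟨by decide, inv_mul_cancel r⟩
  · exact ⟨by decide, mul_inv_cancel g⟩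
  · exact ⟨by decide, inv_mul_cancel g⟩
  · exact ⟨by decide, mul_inv_cancel k⟩
  · exact ⟨by decide, inv_mul_cancel k⟩

def eqs12 : List (List ℕ × List ℕ) := [([8,8,8],[]), ([0,8],[8,1]), ([1,8],[8,0,1]), ([3,8],[8,3]), ([2,8],[8,5]),
  ([5,8],[8,2,5]), ([8,4,8],[4]), ([6,8,6,8,6,8,6,8],[]), ([10,10,10],[]), ([0,10],[10,2]), ([2,10],[10,0,2]),
  ([4,10],[10,4]), ([1,10],[10,5]), ([5,10],[10,1,5]), ([10,3,10],[3]), ([6,10,6,10,6,10,6,10],[]), ([8,10],[10,8])]

theorem ev_eqs12 (h : Rel2 z a b c d r s g k) :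
    ∀ e ∈ eqs12, ev (l12 z a b c d r s g k) e.1 = ev (l12 z a b c d r s g k) e.2 := by
  intro e he
  simp only [eqs12, List.mem_cons, List.not_mem_nil, or_false] at he
  rcases he with rfl | rfl | rfl | rfl | rfl | rfl | rfl | rfl | rfl | rfl | rfl | rfl | rfl | rfl | rfl | rfl | rfl
  all_goals simp only [ev_cons, ev_nil, l12, mul_one]
  · exact h.hg.g3
  · exact h.hg.zg
  · exact h.hg.ag
  · exact h.hg.cg
  · exact h.hg.bg
  · exact h.hg.sg
  · exact h.hg.gdg
  · exact h.hg.rg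
  · exact h.hk.g3
  · exact h.hk.zg
  · exact h.hk.ag
  · exact h.hk.cg
  · exact h.hk.bg
  · exact h.hk.sg
  · exact h.hk.gdg
  · exact h.hk.rg
  · exact h.gk

def rels12 : List (List ℕ) := (eqs ++ eqs12).map fun e => e.1 ++ invw iv12 e.2

theorem eqsA_lt : ∀ e ∈ eqs ++ eqs12, (∀ y ∈ e.1, y < 12) ∧ ∀ y ∈ e.2, y < 12 := by decide

theorem ev_rels12 (h : Rel2 z a b c d r s g k) : ∀ w ∈ rels12, ev (l12 z a b c d r s g k) w = 1 := by
  intro w hw
  obtain ⟨e, he, rfl⟩ := List.mem_map.mp hw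
  have h1 : ev (l12 z a b c d r s g k) e.1 = ev (l12 z a b c d r s g k) e.2 := by
    rcases List.mem_append.mp he with he | he
    · have h2 := eqs_lt e he
      rw [ev_congr e.1 (fun y hy => l12_lt y (h2.1 y hy)), ev_congr e.2 (fun y hy => l12_lt y (h2.2 y hy))]
      exact ev_eqs h.toRel e he
    · exact ev_eqs12 h e he
  rw [ev_append, ev_invw (l12 z a b c d r s g k) iv12 12 (l12_inv h.toRel) e.2 (eqsA_lt e he).2, h1, mul_inv_cancel]

theorem card12 (h : Rel2 z a b c d r s g k) : Finite (Subgroup.closure (l12 z a b c d r s g k '' {n | n < 12})) ∧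
    Nat.card (Subgroup.closure (l12 z a b c d r s g k '' {n | n < 12})) ≤ 20160 := by
  have hinv : ∀ n, n < EnAData.C.k → EnAData.C.inv n < EnAData.C.k ∧
      l12 z a b c d r s g k n * l12 z a b c d r s g k (EnAData.C.inv n) = 1 := by
    intro n hn
    change n < 12 at hn
    have h1 := (l12_inv h.toRel (g := g) (k := k) n hn).2
    interval_cases n <;> exact ⟨by decide +kernel, h1⟩
  have himg : l12 z a b c d r s g k '' {n | n < 8} = lt z a b c d r s '' {n | n < 8} :=
    Set.image_congr fun x hx => l12_lt x hx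
  have hc := card_le h.toRel
  rw [← himg] at hc
  have := card_step EnAData.C (l12 z a b c d r s g k) rels12 [[0],[1],[2],[3],[4],[5],[6]]
    (Subgroup.closure (l12 z a b c d r s g k '' {n | n < 8})) hinv
    (fun w hw _ => ev_rels12 h w hw)
    (fun s' hs _ => sub_letters _ 8 [[0],[1],[2],[3],[4],[5],[6]] (by decide) s' hs)
    (by decide +kernel) EnAAll.part hc.1
  exact ⟨this.1, this.2.trans ((Nat.mul_le_mul_left _ hc.2).trans (by norm_num))⟩

def pg : Equiv.Perm (Fin 8) := ⟨![1,2,0,3,6,5,7,4], ![2,0,1,3,7,5,4,6], by decide, by decide⟩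
def pk : Equiv.Perm (Fin 8) := ⟨![2,0,1,3,6,5,7,4], ![1,2,0,3,7,5,4,6], by decide, by decide⟩

theorem rel2_p : Rel2 pz pa pb pc pd pr ps pg pk where
  toRel := rel_p
  hg := ⟨⟨by decide, by decide, by decide, by decide, by decide, by decide, by decide⟩, by decide⟩
  hk := ⟨⟨by decide, by decide, by decide, by decide, by decide, by decide, by decide⟩, by decide⟩
  gk := by decide

/-- letters in the model -/
def lq : ℕ → Equiv.Perm (Fin 8) := l12 pz pa pb pc pd pr ps pg pk

open Cfsg.Agent.Lib.AltCarmichael in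
theorem closure_lq : Subgroup.closure (lq '' {n | n < 12}) = alternatingGroup (Fin 8) := by
  apply le_antisymm
  · rw [Subgroup.closure_le]
    rintro _ ⟨n, hn, rfl⟩
    change n < 12 at hn
    show lq n ∈ alternatingGroup (Fin 8)
    rw [Equiv.Perm.mem_alternatingGroup]
    interval_cases n <;> decide
  · have h1 := gen_cyc 6 (by norm_num)
    rw [show alternatingGroup (Fin 8) = alternatingGroup (Fin (6 + 2)) from rfl, ← h1, gen_def, Subgroup.closure_le]
    rintro _ ⟨i, hi, rfl⟩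
    have hw : ∀ w : List ℕ, (∀ y ∈ w, y < 12) → ev lq w ∈ Subgroup.closure (lq '' {n | n < 12}) := by
      intro w hw
      induction w with
      | nil => exact Subgroup.one_mem _
      | cons x w ih =>
        rw [ev_cons]
        exact Subgroup.mul_mem _ (Subgroup.subset_closure ⟨x, hw x (by simp), rfl⟩)
          (ih fun y hy => hw y (by simp [hy]))
    show cyc 6 i ∈ Subgroup.closure (lq '' {n | n < 12})
    interval_cases i
    · have : cyc 6 0 = ev lq [0, 7, 9, 5, 10, 6] := by decide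
      rw [this]; exact hw _ (by decide)
    · have : cyc 6 1 = ev lq [0, 7, 11, 5, 8, 6] := by decide
      rw [this]; exact hw _ (by decide)
    · have : cyc 6 2 = ev lq [0, 6, 9, 11, 5, 7] := by decide
      rw [this]; exact hw _ (by decide)
    · have : cyc 6 3 = ev lq [0, 5, 7, 8, 10, 7] := by decide
      rw [this]; exact hw _ (by decide)
    · have : cyc 6 4 = ev lq [9, 11] := by decide
      rw [this]; exact hw _ (by decide)
    · have : cyc 6 5 = ev lq [0, 8, 10, 0] := by decide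
      rw [this]; exact hw _ (by decide)

theorem card_A8 : Nat.card (alternatingGroup (Fin 8)) = 20160 := by
  have h := two_mul_nat_card_alternatingGroup (α := Fin 8)
  rw [Nat.card_perm] at h
  have h2 : (Nat.card (Fin 8)).factorial = 40320 := by rw [Nat.card_fin]; rfl
  omega

theorem rel2_prod {X : Type*} [Group X] {z' a' b' c' d' r' s' g' k' : X} (h' : Rel2 z' a' b' c' d' r' s' g' k')
    (h : Rel2 z a b c d r s g k) :
    Rel2 (z', z) (a', a) (b', b) (c', c) (d', d) (r', r) (s', s) (g', g) (k', k) where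
  toRel := h'.toRel.prod h.toRel
  hg := ⟨⟨Prod.ext h'.hg.g3 h.hg.g3, Prod.ext h'.hg.zg h.hg.zg, Prod.ext h'.hg.ag h.hg.ag,
    Prod.ext h'.hg.cg h.hg.cg, Prod.ext h'.hg.bg h.hg.bg, Prod.ext h'.hg.sg h.hg.sg,
    Prod.ext h'.hg.gdg h.hg.gdg⟩, Prod.ext h'.hg.rg h.hg.rg⟩
  hk := ⟨⟨Prod.ext h'.hk.g3 h.hk.g3, Prod.ext h'.hk.zg h.hk.zg, Prod.ext h'.hk.ag h.hk.ag,
    Prod.ext h'.hk.cg h.hk.cg, Prod.ext h'.hk.bg h.hk.bg, Prod.ext h'.hk.sg h.hk.sg,
    Prod.ext h'.hk.gdg h.hk.gdg⟩, Prod.ext h'.hk.rg h.hk.rg⟩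
  gk := Prod.ext h'.gk h.gk

theorem l12_prod {X : Type*} [Group X] (z' a' b' c' d' r' s' g' k' : X) (z a b c d r s g k : G) :
    (fun i => (l12 z' a' b' c' d' r' s' g' k' i, l12 z a b c d r s g k i)) =
      l12 (z', z) (a', a) (b', b) (c', c) (d', d) (r', r) (s', s) (g', g) (k', k) := by
  funext i
  unfold l12
  rcases i with _ | _ | _ | _ | _ | _ | _ | _ | _ | _ | _ | _ | i <;> rfl

theorem lq_mem {n : ℕ} (hn : n < 12) : lq n ∈ alternatingGroup (Fin 8) := by
  rw [← closure_lq]; exact Subgroup.subset_closure ⟨n, hn, rfl⟩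

/-- the homomorphism from `A₈` -/
theorem Rel2.exists_hom (h : Rel2 z a b c d r s g k) :
    ∃ φ : alternatingGroup (Fin 8) →* G, ∀ n (hn : n < 12), φ ⟨lq n, lq_mem hn⟩ = l12 z a b c d r s g k n := by
  have h1 := card12 (rel2_prod rel2_p h)
  rw [← l12_prod] at h1
  have key : ∀ S : Subgroup (Equiv.Perm (Fin 8)), S = alternatingGroup (Fin 8) →
      S = Subgroup.closure (lq '' {n | n < 12}) →
      ∃ φ : S →* G, ∀ n (hn : n < 12), ∀ hm : lq n ∈ S, φ ⟨lq n, hm⟩ = l12 z a b c d r s g k n := by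
    intro S hS hS'
    subst hS'
    obtain ⟨φ, hφ⟩ := exists_hom_of_card lq (l12 z a b c d r s g k) {n | n < 12} 20160 h1.1 h1.2
      (by rw [closure_lq, card_A8])
    exact ⟨φ, fun n hn _ => hφ n hn⟩
  obtain ⟨φ, hφ⟩ := key _ rfl closure_lq.symm
  exact ⟨φ, fun n hn => hφ n hn _⟩

end Cfsg.Agent.AltType
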