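import Cfsg.Agent.AltType.Sym

/-!
Linear action on `E = ⟨z, a, b, s⟩` and on `A₁ = ⟨z, a, c⟩`, in coordinates.
-/

set_option autoImplicit false
set_option maxRecDepth 100000

namespace Cfsg.Agent.AltType

variable {G : Type*} [Group G] {z a b c d r s : G}

/-- images of the basis `z, a, b, s` -/
structure Mat where
  A0 : ℕ
  A1 : ℕ
  A2 : ℕ
  A3 : ℕ
deriving DecidableEq

/-- application of a matrix -/
def app (A : Mat) : ℕ → ℕ
  | 0 => 0
  | 1 => A.A0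
  | 2 => A.A1
  | 3 => A.A0 ^^^ A.A1
  | 4 => A.A2
  | 5 => A.A0 ^^^ A.A2
  | 6 => A.A1 ^^^ A.A2
  | 7 => A.A0 ^^^ (A.A1 ^^^ A.A2)
  | 8 => A.A3
  | 9 => A.A0 ^^^ A.A3
  | 10 => A.A1 ^^^ A.A3
  | 11 => A.A0 ^^^ (A.A1 ^^^ A.A3)
  | 12 => A.A2 ^^^ A.A3
  | 13 => A.A0 ^^^ (A.A2 ^^^ A.A3)
  | 14 => A.A1 ^^^ (A.A2 ^^^ A.A3)
  | _ => A.A0 ^^^ (A.A1 ^^^ (A.A2 ^^^ A.A3))

/-- first `A`, then `B` -/
def cmp (A B : Mat) : Mat := ⟨app B A.A0, app B A.A1, app B A.A2, app B A.A3⟩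

/-- `n` normalises `E` and acts by `x ↦ n⁻¹ x n` with matrix `A` -/
structure Act (z a b s n : G) (A : Mat) : Prop where
  l0 : A.A0 < 16
  l1 : A.A1 < 16
  l2 : A.A2 < 16
  l3 : A.A3 < 16
  e0 : z * n = n * eG z a b s A.A0
  e1 : a * n = n * eG z a b s A.A1
  e2 : b * n = n * eG z a b s A.A2
  e3 : s * n = n * eG z a b s A.A3

theorem Rel.comb (h : Rel z a b c d r s) {n x y : G} {V W : ℕ} (hV : V < 16) (hW : W < 16)
    (hx : x * n = n * eG z a b s V) (hy : y * n = n * eG z a b s W) :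
    x * y * n = n * eG z a b s (V ^^^ W) := by
  rw [mul_assoc, hy, ← mul_assoc, hx, mul_assoc, h.eG_mul hV hW]

theorem xlt {V W : ℕ} (hV : V < 16) (hW : W < 16) : V ^^^ W < 16 := (code_xor V hV W hW).2

theorem Rel.act_app (h : Rel z a b c d r s) {n : G} {A : Mat} (hA : Act z a b s n A) {v : ℕ} (hv : v < 16) :
    eG z a b s v * n = n * eG z a b s (app A v) ∧ app A v < 16 := by
  have h0 := hA.e0
  have h1 := hA.e1
  have h2 := hA.e2
  have h3 := hA.e3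
  have l0 := hA.l0
  have l1 := hA.l1
  have l2 := hA.l2
  have l3 := hA.l3
  interval_cases v
  · exact ⟨by show 1 * n = n * 1; rw [one_mul, mul_one], by show 0 < 16; norm_num⟩
  · exact ⟨h0, l0⟩
  · exact ⟨h1, l1⟩
  · exact ⟨h.comb l0 l1 h0 h1, xlt l0 l1⟩
  · exact ⟨h2, l2⟩
  · exact ⟨h.comb l0 l2 h0 h2, xlt l0 l2⟩
  · exact ⟨h.comb l1 l2 h1 h2, xlt l1 l2⟩
  · exact ⟨h.comb l0 (xlt l1 l2) h0 (h.comb l1 l2 h1 h2), xlt l0 (xlt l1 l2)⟩
  · exact ⟨h3, l3⟩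
  · exact ⟨h.comb l0 l3 h0 h3, xlt l0 l3⟩
  · exact ⟨h.comb l1 l3 h1 h3, xlt l1 l3⟩
  · exact ⟨h.comb l0 (xlt l1 l3) h0 (h.comb l1 l3 h1 h3), xlt l0 (xlt l1 l3)⟩
  · exact ⟨h.comb l2 l3 h2 h3, xlt l2 l3⟩
  · exact ⟨h.comb l0 (xlt l2 l3) h0 (h.comb l2 l3 h2 h3), xlt l0 (xlt l2 l3)⟩
  · exact ⟨h.comb l1 (xlt l2 l3) h1 (h.comb l2 l3 h2 h3), xlt l1 (xlt l2 l3)⟩
  · exact ⟨h.comb l0 (xlt l1 (xlt l2 l3)) h0 (h.comb l1 (xlt l2 l3) h1 (h.comb l2 l3 h2 h3)),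
      xlt l0 (xlt l1 (xlt l2 l3))⟩

theorem Rel.act_mul (h : Rel z a b c d r s) {n m : G} {A B : Mat} (hA : Act z a b s n A) (hB : Act z a b s m B) :
    Act z a b s (n * m) (cmp A B) where
  l0 := (h.act_app hB hA.l0).2
  l1 := (h.act_app hB hA.l1).2
  l2 := (h.act_app hB hA.l2).2
  l3 := (h.act_app hB hA.l3).2
  e0 := by rw [← mul_assoc, hA.e0, mul_assoc, (h.act_app hB hA.l0).1, ← mul_assoc]; rfl
  e1 := by rw [← mul_assoc, hA.e1, mul_assoc, (h.act_app hB hA.l1).1, ← mul_assoc]; rfl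
  e2 := by rw [← mul_assoc, hA.e2, mul_assoc, (h.act_app hB hA.l2).1, ← mul_assoc]; rfl
  e3 := by rw [← mul_assoc, hA.e3, mul_assoc, (h.act_app hB hA.l3).1, ← mul_assoc]; rfl

/-- action of `c` -/
theorem Rel.act_c (h : Rel z a b c d r s) : Act z a b s c ⟨1, 2, 5, 10⟩ where
  l0 := by norm_num
  l1 := by norm_num
  l2 := by norm_num
  l3 := by norm_num
  e0 := h.cz.symm
  e1 := h.ac
  e2 := by
    show b * c = c * (z * b)
    rw [h.bc, ← mul_assoc, ← mul_assoc, h.cz]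
  e3 := by
    show s * c = c * (a * s)
    have h1 := h.cs
    have : s * (a * (a * c)) = a * (s * (a * c)) := by rw [← mul_assoc s a, ← h.as, mul_assoc]
    rw [← h1, ← mul_assoc a a c, h.aa, one_mul] at this
    rw [this, ← mul_assoc, h.ac, mul_assoc]

/-- action of `d` -/
theorem Rel.act_d (h : Rel z a b c d r s) : Act z a b s d ⟨1, 3, 4, 12⟩ where
  l0 := by norm_num
  l1 := by norm_num
  l2 := by norm_num
  l3 := by norm_num
  e0 := h.dz.symm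
  e1 := by
    show a * d = d * (z * a)
    rw [h.ad, ← mul_assoc, ← mul_assoc, h.dz]
  e2 := h.bd
  e3 := by
    show s * d = d * (b * s)
    have h1 := h.ds
    have : s * (b * (b * d)) = b * (s * (b * d)) := by rw [← mul_assoc s b, ← h.bs, mul_assoc]
    rw [← h1, ← mul_assoc b b d, h.bb, one_mul] at this
    rw [this, ← mul_assoc, h.bd, mul_assoc]

/-- injectivity of the coordinates, given that `z, a, b, s` generate a group of order 16 -/
theorem F1.eG_inj (h : F1 z a b c d r s) {v w : ℕ} (hv : v < 16) (hw : w < 16)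
    (hvw : eG z a b s v = eG z a b s w) : v = w := by
  obtain ⟨t, T⟩ := h.exists_tab
  rw [← (T.e hv).2, ← (T.e hw).2] at hvw
  have := T.inj _ (T.e hv).1 _ (T.e hw).1 hvw
  revert this
  have key : ∀ v < 16, ∀ w < 16, cE v = cE w → v = w := by decide +kernel
  exact key v hv w hw

theorem F1.fG_inj (h : F1 z a b c d r s) {v w : ℕ} (hv : v < 8) (hw : w < 8)
    (hvw : fG z a c v = fG z a c w) : v = w := by
  obtain ⟨t, T⟩ := h.exists_tab
  rw [← (T.f hv).2, ← (T.f hw).2] at hvw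
  have := T.inj _ (T.f hv).1 _ (T.f hw).1 hvw
  revert this
  have key : ∀ v < 8, ∀ w < 8, cF v = cF w → v = w := by decide +kernel
  exact key v hv w hw

theorem F1.z_ne_one (h : F1 z a b c d r s) : z ≠ 1 := fun h1 => by
  have := h.eG_inj (v := 1) (w := 0) (by norm_num) (by norm_num) h1
  norm_num at this

/-- elements fixing `z` and normalising `E` act in one of four ways -/
theorem F1.four (h : F1 z a b c d r s) {n : G} {A : Mat} (hA : Act z a b s n A) (h0 : A.A0 = 1) :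
    (A.A1, A.A2, A.A3) ∈ [(2, 4, 8), (2, 5, 10), (3, 4, 12), (3, 5, 15)] := by
  have h1 := hA.e0
  rw [h0] at h1
  exact h.nce (x := n) h1.symm hA.l1 hA.l2 hA.l3 hA.e1 hA.e2 hA.e3

/-- The matrix is determined by the element. -/
theorem F1.act_unique (h : F1 z a b c d r s) {n : G} {A B : Mat} (hA : Act z a b s n A) (hB : Act z a b s n B) :
    A = B := by
  obtain ⟨A0, A1, A2, A3⟩ := A
  obtain ⟨B0, B1, B2, B3⟩ := B
  have h0 := h.eG_inj hA.l0 hB.l0 (mul_left_cancel (hA.e0.symm.trans hB.e0))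
  have h1 := h.eG_inj hA.l1 hB.l1 (mul_left_cancel (hA.e1.symm.trans hB.e1))
  have h2 := h.eG_inj hA.l2 hB.l2 (mul_left_cancel (hA.e2.symm.trans hB.e2))
  have h3 := h.eG_inj hA.l3 hB.l3 (mul_left_cancel (hA.e3.symm.trans hB.e3))
  simp only at h0 h1 h2 h3
  rw [h0, h1, h2, h3]

end Cfsg.Agent.AltType
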