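import Cfsg.Agent.AltType.Lin

/-!
Linear action on `A₁ = ⟨z, a, c⟩`, in coordinates.
-/

set_option autoImplicit false
set_option maxRecDepth 100000

namespace Cfsg.Agent.AltType

variable {G : Type*} [Group G] {z a b c d r s : G}

/-- images of the basis `z, a, c` -/
structure MatF where
  A0 : ℕ
  A1 : ℕ
  A2 : ℕ
deriving DecidableEq

/-- application of a matrix -/
def appF (A : MatF) : ℕ → ℕ
  | 0 => 0
  | 1 => A.A0
  | 2 => A.A1
  | 3 => A.A0 ^^^ A.A1
  | 4 => A.A2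
  | 5 => A.A0 ^^^ A.A2
  | 6 => A.A1 ^^^ A.A2
  | _ => A.A0 ^^^ (A.A1 ^^^ A.A2)

/-- first `A`, then `B` -/
def cmpF (A B : MatF) : MatF := ⟨appF B A.A0, appF B A.A1, appF B A.A2⟩

/-- `n` normalises `A₁` and acts by `x ↦ n⁻¹ x n` with matrix `A` -/
structure ActF (z a c n : G) (A : MatF) : Prop where
  l0 : A.A0 < 8
  l1 : A.A1 < 8
  l2 : A.A2 < 8
  e0 : z * n = n * fG z a c A.A0
  e1 : a * n = n * fG z a c A.A1
  e2 : c * n = n * fG z a c A.A2

theorem Rel.combF (h : Rel z a b c d r s) {n x y : G} {V W : ℕ} (hV : V < 8) (hW : W < 8)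
    (hx : x * n = n * fG z a c V) (hy : y * n = n * fG z a c W) :
    x * y * n = n * fG z a c (V ^^^ W) := by
  rw [mul_assoc, hy, ← mul_assoc, hx, mul_assoc, h.fG_mul hV hW]

theorem xltF {V W : ℕ} (hV : V < 8) (hW : W < 8) : V ^^^ W < 8 := (code_F_xor V hV W hW).2

theorem Rel.actF_app (h : Rel z a b c d r s) {n : G} {A : MatF} (hA : ActF z a c n A) {v : ℕ} (hv : v < 8) :
    fG z a c v * n = n * fG z a c (appF A v) ∧ appF A v < 8 := by
  have h0 := hA.e0
  have h1 := hA.e1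
  have h2 := hA.e2
  have l0 := hA.l0
  have l1 := hA.l1
  have l2 := hA.l2
  interval_cases v
  · exact ⟨by show 1 * n = n * 1; rw [one_mul, mul_one], by show 0 < 8; norm_num⟩
  · exact ⟨h0, l0⟩
  · exact ⟨h1, l1⟩
  · exact ⟨h.combF l0 l1 h0 h1, xltF l0 l1⟩
  · exact ⟨h2, l2⟩
  · exact ⟨h.combF l0 l2 h0 h2, xltF l0 l2⟩
  · exact ⟨h.combF l1 l2 h1 h2, xltF l1 l2⟩
  · exact ⟨h.combF l0 (xltF l1 l2) h0 (h.combF l1 l2 h1 h2), xltF l0 (xltF l1 l2)⟩

theorem Rel.actF_mul (h : Rel z a b c d r s) {n m : G} {A B : MatF} (hA : ActF z a c n A) (hB : ActF z a c m B) :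
    ActF z a c (n * m) (cmpF A B) where
  l0 := (h.actF_app hB hA.l0).2
  l1 := (h.actF_app hB hA.l1).2
  l2 := (h.actF_app hB hA.l2).2
  e0 := by rw [← mul_assoc, hA.e0, mul_assoc, (h.actF_app hB hA.l0).1, ← mul_assoc]; rfl
  e1 := by rw [← mul_assoc, hA.e1, mul_assoc, (h.actF_app hB hA.l1).1, ← mul_assoc]; rfl
  e2 := by rw [← mul_assoc, hA.e2, mul_assoc, (h.actF_app hB hA.l2).1, ← mul_assoc]; rfl

theorem Rel.actF_one (h : Rel z a b c d r s) : ActF z a c 1 ⟨1, 2, 4⟩ where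
  l0 := by norm_num
  l1 := by norm_num
  l2 := by norm_num
  e0 := by rw [mul_one, one_mul]; rfl
  e1 := by rw [mul_one, one_mul]; rfl
  e2 := by rw [mul_one, one_mul]; rfl

theorem Rel.actF_r (h : Rel z a b c d r s) : ActF z a c r ⟨1, 4, 6⟩ where
  l0 := by norm_num
  l1 := by norm_num
  l2 := by norm_num
  e0 := h.rz.symm
  e1 := h.ar
  e2 := h.cr

theorem Rel.actF_s (h : Rel z a b c d r s) : ActF z a c s ⟨1, 2, 6⟩ where
  l0 := by norm_num
  l1 := by norm_num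
  l2 := by norm_num
  e0 := h.sz.symm
  e1 := h.as
  e2 := h.cs

theorem Rel.actF_b (h : Rel z a b c d r s) : ActF z a c b ⟨1, 2, 5⟩ where
  l0 := by norm_num
  l1 := by norm_num
  l2 := by norm_num
  e0 := h.bz.symm
  e1 := h.ab
  e2 := by
    show c * b = b * (z * c)
    rw [h.cb, ← mul_assoc, ← mul_assoc, h.bz]

theorem Rel.actF_d (h : Rel z a b c d r s) : ActF z a c d ⟨1, 3, 4⟩ where
  l0 := by norm_num
  l1 := by norm_num
  l2 := by norm_num
  e0 := h.dz.symm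
  e1 := by
    show a * d = d * (z * a)
    rw [h.ad, ← mul_assoc, ← mul_assoc, h.dz]
  e2 := h.cd

theorem F1.actF_unique (h : F1 z a b c d r s) {n : G} {A B : MatF} (hA : ActF z a c n A) (hB : ActF z a c n B) :
    A = B := by
  obtain ⟨A0, A1, A2⟩ := A
  obtain ⟨B0, B1, B2⟩ := B
  have h0 := h.fG_inj hA.l0 hB.l0 (mul_left_cancel (hA.e0.symm.trans hB.e0))
  have h1 := h.fG_inj hA.l1 hB.l1 (mul_left_cancel (hA.e1.symm.trans hB.e1))
  have h2 := h.fG_inj hA.l2 hB.l2 (mul_left_cancel (hA.e2.symm.trans hB.e2))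
  simp only at h0 h1 h2
  rw [h0, h1, h2]

/-- an element acting trivially on `A₁` lies in `A₁` -/
theorem F1.actF_triv (h : F1 z a b c d r s) {n : G} (hA : ActF z a c n ⟨1, 2, 4⟩) : ∃ v < 8, n = fG z a c v :=
  h.cent_ac hA.e0.symm hA.e1.symm hA.e2.symm

/-- an element of `A₁` commuting with `n` has coordinates fixed by the matrix of `n` -/
theorem F1.actF_fix (h : F1 z a b c d r s) {n : G} {A : MatF} (hA : ActF z a c n A) {v : ℕ} (hv : v < 8)
    (hc : fG z a c v * n = n * fG z a c v) : appF A v = v := by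
  obtain ⟨h1, h2⟩ := h.actF_app hA hv
  exact h.fG_inj h2 hv (mul_left_cancel (h1.symm.trans hc))

theorem F1.act_fix (h : F1 z a b c d r s) {n : G} {A : Mat} (hA : Act z a b s n A) {v : ℕ} (hv : v < 16)
    (hc : eG z a b s v * n = n * eG z a b s v) : app A v = v := by
  obtain ⟨h1, h2⟩ := h.act_app hA hv
  exact h.eG_inj h2 hv (mul_left_cancel (h1.symm.trans hc))

theorem Rel.act_one (h : Rel z a b c d r s) : Act z a b s 1 ⟨1, 2, 4, 8⟩ where
  l0 := by norm_num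
  l1 := by norm_num
  l2 := by norm_num
  l3 := by norm_num
  e0 := by rw [mul_one, one_mul]; rfl
  e1 := by rw [mul_one, one_mul]; rfl
  e2 := by rw [mul_one, one_mul]; rfl
  e3 := by rw [mul_one, one_mul]; rfl

end Cfsg.Agent.AltType
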