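import Cfsg.Agent.AltType.Defs

/-!
The model of the centraliser inside `A₈ ≤ Perm (Fin 8)`.
-/

set_option autoImplicit false
set_option maxRecDepth 100000

namespace Cfsg.Agent.AltType

open Cfsg.Agent.SporadicRecognition.CosetCert Cfsg.Agent.SporadicRecognition.CosetCertHyp
  Cfsg.Agent.SporadicRecognition.CosetChain

/-- general lemma: a homomorphism from the graph -/
theorem exists_hom_of_card {X G : Type*} [Group X] [Group G] (p : ℕ → X) (g : ℕ → G) (S : Set ℕ) (n : ℕ)
    (hfin : Finite (Subgroup.closure ((fun i => (p i, g i)) '' S)))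
    (hle : Nat.card (Subgroup.closure ((fun i => (p i, g i)) '' S)) ≤ n)
    (hge : n ≤ Nat.card (Subgroup.closure (p '' S))) :
    ∃ φ : Subgroup.closure (p '' S) →* G, ∀ i (hi : i ∈ S), φ ⟨p i, Subgroup.subset_closure ⟨i, hi, rfl⟩⟩ = g i := by
  set K : Subgroup (X × G) := Subgroup.closure ((fun i => (p i, g i)) '' S) with hK
  set M : Subgroup X := Subgroup.closure (p '' S) with hM
  have hmap : K.map (MonoidHom.fst X G) = M := by
    rw [hK, MonoidHom.map_closure, hM, Set.image_image]
    rfl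
  let f : K →* M := ((MonoidHom.fst X G).comp K.subtype).codRestrict M (fun x => by
    rw [← hmap]; exact ⟨x.1, x.2, rfl⟩)
  have hsurj : Function.Surjective f := by
    rintro ⟨x, hx⟩
    rw [← hmap] at hx
    obtain ⟨y, hy, rfl⟩ := hx
    exact ⟨⟨y, hy⟩, rfl⟩
  have hbij : Function.Bijective f := by
    have : Nat.card K = Nat.card M := le_antisymm (hle.trans hge) (Nat.card_le_card_of_surjective f hsurj)
    exact (Nat.bijective_iff_surjective_and_card f).2 ⟨hsurj, this⟩
  let e : K ≃* M := MulEquiv.ofBijective f hbij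
  refine ⟨((MonoidHom.snd X G).comp K.subtype).comp e.symm.toMonoidHom, ?_⟩
  intro i hi
  have hmem : (p i, g i) ∈ K := Subgroup.subset_closure ⟨i, hi, rfl⟩
  have : e.symm ⟨p i, Subgroup.subset_closure ⟨i, hi, rfl⟩⟩ = ⟨(p i, g i), hmem⟩ := by
    rw [MulEquiv.symm_apply_eq]; rfl
  show ((e.symm ⟨p i, _⟩ : K) : X × G).2 = g i
  rw [this]

/-- permutation given by a table -/
def pz : Equiv.Perm (Fin 8) := ⟨![1,0,3,2,5,4,7,6], ![1,0,3,2,5,4,7,6], by decide, by decide⟩
def pa : Equiv.Perm (Fin 8) := ⟨![2,3,0,1,6,7,4,5], ![2,3,0,1,6,7,4,5], by decide, by decide⟩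
def pb : Equiv.Perm (Fin 8) := ⟨![3,2,1,0,6,7,4,5], ![3,2,1,0,6,7,4,5], by decide, by decide⟩
def pc : Equiv.Perm (Fin 8) := ⟨![6,7,4,5,2,3,0,1], ![6,7,4,5,2,3,0,1], by decide, by decide⟩
def pd : Equiv.Perm (Fin 8) := ⟨![7,6,4,5,2,3,1,0], ![7,6,4,5,2,3,1,0], by decide, by decide⟩
def pr : Equiv.Perm (Fin 8) := ⟨![0,1,4,5,6,7,2,3], ![0,1,6,7,2,3,4,5], by decide, by decide⟩
def ps : Equiv.Perm (Fin 8) := ⟨![1,0,3,2,7,6,5,4], ![1,0,3,2,7,6,5,4], by decide, by decide⟩

theorem rel_p : Rel pz pa pb pc pd pr ps where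
  zz := by decide
  aa := by decide
  bb := by decide
  cc := by decide
  dd := by decide
  ss := by decide
  r3 := by decide
  az := by decide
  bz := by decide
  cz := by decide
  dz := by decide
  sz := by decide
  rz := by decide
  ac := by decide
  bd := by decide
  ab := by decide
  cd := by decide
  ad := by decide
  cb := by decide
  ar := by decide
  cr := by decide
  br := by decide
  dr := by decide
  as := by decide
  cs := by decide
  bs := by decide
  ds := by decide
  rsr := by decide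

end Cfsg.Agent.AltType
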