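import Cfsg.Agent.AltType.Model

/-!
The 192 permutations of the model, coded as natural numbers in base 8, with kernel-fast multiplication.
-/

set_option autoImplicit false
set_option maxRecDepth 100000

namespace Cfsg.Agent.AltType

open Cfsg.Agent.SporadicRecognition.CosetCert Cfsg.Agent.SporadicRecognition.CosetCertHyp
  Cfsg.Agent.SporadicRecognition.CosetChain

/-- base 8 digits -/
def dig (n i : ℕ) : ℕ := n / 8 ^ i % 8

/-- product of coded permutations -/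
def mulN (p q : ℕ) : ℕ := dig p (dig q 0) + 8 * dig p (dig q 1) + 64 * dig p (dig q 2) + 512 * dig p (dig q 3) +
  4096 * dig p (dig q 4) + 32768 * dig p (dig q 5) + 262144 * dig p (dig q 6) + 2097152 * dig p (dig q 7)

/-- code of a permutation -/
def enc (σ : Equiv.Perm (Fin 8)) : ℕ := (σ 0 : ℕ) + 8 * (σ 1 : ℕ) + 64 * (σ 2 : ℕ) + 512 * (σ 3 : ℕ) +
  4096 * (σ 4 : ℕ) + 32768 * (σ 5 : ℕ) + 262144 * (σ 6 : ℕ) + 2097152 * (σ 7 : ℕ)

theorem dig_enc (σ : Equiv.Perm (Fin 8)) (i : Fin 8) : dig (enc σ) (i : ℕ) = (σ i : ℕ) := by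
  have h0 := (σ 0).isLt
  have h1 := (σ 1).isLt
  have h2 := (σ 2).isLt
  have h3 := (σ 3).isLt
  have h4 := (σ 4).isLt
  have h5 := (σ 5).isLt
  have h6 := (σ 6).isLt
  have h7 := (σ 7).isLt
  unfold dig enc
  fin_cases i
  · show _ / 8 ^ 0 % 8 = ((σ 0 : Fin 8) : ℕ)
    norm_num; omega
  · show _ / 8 ^ 1 % 8 = ((σ 1 : Fin 8) : ℕ)
    norm_num; omega
  · show _ / 8 ^ 2 % 8 = ((σ 2 : Fin 8) : ℕ)
    norm_num; omega
  · show _ / 8 ^ 3 % 8 = ((σ 3 : Fin 8) : ℕ)
    norm_num; omega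
  · show _ / 8 ^ 4 % 8 = ((σ 4 : Fin 8) : ℕ)
    norm_num; omega
  · show _ / 8 ^ 5 % 8 = ((σ 5 : Fin 8) : ℕ)
    norm_num; omega
  · show _ / 8 ^ 6 % 8 = ((σ 6 : Fin 8) : ℕ)
    norm_num; omega
  · show _ / 8 ^ 7 % 8 = ((σ 7 : Fin 8) : ℕ)
    norm_num; omega

theorem enc_mul (σ τ : Equiv.Perm (Fin 8)) : enc (σ * τ) = mulN (enc σ) (enc τ) := by
  have h : ∀ i : Fin 8, dig (enc σ) (dig (enc τ) (i : ℕ)) = ((σ * τ) i : ℕ) := by
    intro i
    rw [dig_enc τ i, dig_enc σ (τ i)]; rfl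
  have h0 := h 0
  have h1 := h 1
  have h2 := h 2
  have h3 := h 3
  have h4 := h 4
  have h5 := h 5
  have h6 := h 6
  have h7 := h 7
  unfold mulN
  simp only [Fin.val_zero, Fin.val_one] at h0 h1
  change dig (enc σ) (dig (enc τ) 2) = _ at h2
  change dig (enc σ) (dig (enc τ) 3) = _ at h3
  change dig (enc σ) (dig (enc τ) 4) = _ at h4
  change dig (enc σ) (dig (enc τ) 5) = _ at h5
  change dig (enc σ) (dig (enc τ) 6) = _ at h6
  change dig (enc σ) (dig (enc τ) 7) = _ at h7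
  rw [h0, h1, h2, h3, h4, h5, h6, h7]
  rfl

theorem enc_injective : Function.Injective enc := by
  intro σ τ h
  ext i
  rw [← dig_enc σ i, ← dig_enc τ i, h]

/-- codes of the 192 elements -/
def Lc : List ℕ := [16434824,14570689,11788826,11788371,2206526,371511,9925825,7072520,11644808,9924691,9925146,342391,2177406,11789960,5208385,9780673,16434369,6852524,5017509,14569555,2281370,16288538,4988844,6823845,14570010,446355,16259859,6852069,14599809,4987255,11568830,6996542,6823404,5015934,11540151,6996087,343525,2178540,5135809,14498113,16359980,16359525,2352812,517797,14571144,4988389,16433690,417235,14424403,5017068,16433235,2252250,14453082,16405704,6851390,9704695,5132407,6822711,9733374,5132862,2207660,372645,6999944,16362248,14495845,14496300,488677,2323692,342846,2177847,9926280,5237505,11616129,2206071,9953811,372204,16331301,2352357,6822270,489811,9706963,11568375,5161527,9953370,2207205,16330860,517356,371070,6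850935,2324826,9735642,11539710,5161086,11760147,343980,14524965,2324133,11759706,9954504,7043841,11644353,16404570,9777271,414967,2280915,14453523,2178981,14524524,489132,16405011,9777726,2249982,445914,14424858,4987710,11760840,14423269,5206117,5016375,14451948,5206572,7072065,9733815,9705150,16288083,9809793,16259418,11789505,7043400,9809352,2353946,11571098,6967422,518931,11542419,6967863,11761281,5237064,9781128,14598675,11641406,2279102,417690,14598234,11640951,444087,2252691,9954945,16287404,7070252,16258725,7069797,5208840,11615688,14599368,6970824,14526792,16406145,14423724,7041132,9805950,415422,14452389,7041573,9806391,2250423,16258284,5234796,5136264,16333128,518490,9707418,16286949,5235237,2353491,9736083,11612286,443646,5164488,14498568,490266,11541978,11612727,2278647,2325267,11570643,5164929,16333569,6999489,14527233,6971265,16361793]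

/-- words of the 192 elements -/
def Wd : List (List ℕ) := [[],[0],[1],[2],[3],[4],[5],[6],[7],[0,1],[0,2],[0,3],[0,4],[0,5],[0,6],[0,7],[1,2],[1,3],[1,4],[1,5],[1,6],[1,7],[2,3],[2,4],[2,5],[2,6],[2,7],[3,2],[3,4],[3,5],[3,6],[3,7],[4,1],[4,5],[4,6],[4,7],[5,3],[5,4],[5,6],[5,7],[6,1],[6,2],[7,3],[7,4],[0,1,2],[0,1,3],[0,1,5],[0,1,6],[0,1,7],[0,2,4],[0,2,5],[0,2,6],[0,2,7],[0,3,4],[0,3,5],[0,3,6],[0,3,7],[0,4,5],[0,4,6],[0,4,7],[0,5,3],[0,5,4],[0,5,6],[0,5,7],[0,6,1],[0,6,2],[0,7,3],[0,7,4],[1,2,3],[1,2,4],[1,2,5],[1,2,6],[1,2,7],[1,3,2],[1,3,4],[1,4,5],[1,4,6],[1,4,7],[1,5,4],[1,5,6],[1,5,7],[1,6,2],[1,7,4],[2,3,4],[2,3,5],[2,3,6],[2,3,7],[2,4,1],[2,5,3],[2,5,6],[2,5,7],[2,6,1],[2,7,3],[3,2,4],[3,2,5],[3,2,6],[3,2,7],[3,4,1],[3,4,5],[3,4,6],[3,4,7],[3,5,4],[3,5,6],[3,5,7],[3,6,2],[3,7,4],[4,1,5],[4,1,6],[4,1,7],[4,5,3],[4,5,6],[4,5,7],[4,6,1],[4,7,3],[5,3,2],[5,3,4],[5,3,6],[5,3,7],[5,4,1],[5,4,6],[5,4,7],[6,1,2],[6,1,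4],[6,2,3],[7,3,2],[7,3,4],[7,4,1],[0,1,2,5],[0,1,2,6],[0,1,2,7],[0,1,5,6],[0,1,5,7],[0,1,7,4],[0,2,5,6],[0,2,5,7],[0,2,7,3],[0,3,4,5],[0,3,4,6],[0,3,4,7],[0,3,5,4],[0,3,5,6],[0,3,5,7],[0,3,6,2],[0,4,5,3],[0,4,5,6],[0,4,5,7],[0,4,6,1],[0,5,3,4],[0,5,3,6],[0,5,3,7],[0,5,4,6],[0,5,4,7],[0,6,1,2],[0,7,3,4],[1,2,3,4],[1,2,5,6],[1,2,5,7],[1,3,2,4],[1,4,5,6],[1,4,5,7],[1,5,4,6],[1,5,4,7],[2,3,5,6],[2,3,5,7],[2,5,3,6],[2,5,3,7],[3,2,5,6],[3,2,5,7],[3,4,5,6],[3,4,5,7],[3,5,4,6],[3,5,4,7],[4,1,5,6],[4,1,5,7],[4,5,3,6],[4,5,3,7],[5,3,2,6],[5,3,2,7],[5,3,4,6],[5,3,4,7],[5,3,6,2],[5,3,7,4],[5,4,1,6],[5,4,1,7],[5,4,6,1],[5,4,7,3],[0,1,2,5,6],[0,1,2,5,7],[0,3,4,5,6],[0,3,4,5,7],[0,5,3,4,6],[0,5,3,4,7]]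

/-- codes of the letters -/
def cl : ℕ → ℕ
  | 0 => 14570689
  | 1 => 11788826
  | 2 => 11788371
  | 3 => 2206526
  | 4 => 371511
  | 5 => 9925825
  | 6 => 7072520
  | 7 => 11644808
  | _ => 16434824

/-- the letters in the model -/
def lp : ℕ → Equiv.Perm (Fin 8) := lt pz pa pb pc pd pr ps

theorem enc_one : enc 1 = 16434824 := by decide

theorem enc_lp (k : ℕ) (hk : k < 8) : enc (lp k) = cl k := by
  interval_cases k <;> decide

theorem Lc_nodup : Lc.Nodup := by decide +kernel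

/-- value of a word in codes -/
def evN (w : List ℕ) : ℕ := w.foldr (fun k n => mulN (cl k) n) 16434824

theorem enc_ev (w : List ℕ) (hw : ∀ y ∈ w, y < 8) : enc (ev lp w) = evN w := by
  induction w with
  | nil => exact enc_one
  | cons x w ih =>
    rw [ev_cons, enc_mul, enc_lp x (hw x (by simp)), ih (fun y hy => hw y (by simp [hy]))]
    rfl

theorem Wd_lt : ∀ w ∈ Wd, ∀ y ∈ w, y < 8 := by decide +kernel

theorem Wd_map : Wd.map evN = Lc := by decide +kernel

theorem Lc_closed : ∀ n ∈ Lc, ∀ k < 8, mulN n (cl k) ∈ Lc := by decide +kernel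

theorem Lc_one : 16434824 ∈ Lc := by decide +kernel

/-- the model group -/
def M : Subgroup (Equiv.Perm (Fin 8)) := Subgroup.closure (lp '' {n | n < 8})

theorem ev_mem_M (w : List ℕ) (hw : ∀ y ∈ w, y < 8) : ev lp w ∈ M := by
  induction w with
  | nil => exact M.one_mem
  | cons x w ih =>
    rw [ev_cons]
    exact M.mul_mem (Subgroup.subset_closure ⟨x, hw x (by simp), rfl⟩) (ih fun y hy => hw y (by simp [hy]))

theorem enc_mem {σ : Equiv.Perm (Fin 8)} (h : σ ∈ M) : enc σ ∈ Lc := by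
  unfold M at h
  induction h using Subgroup.closure_induction_right with
  | one => rw [enc_one]; exact Lc_one
  | mul_right x hx y hy ih =>
    obtain ⟨k, hk, rfl⟩ := hy
    rw [enc_mul, enc_lp k hk]
    exact Lc_closed _ ih k hk
  | mul_inv_cancel x hx y hy ih =>
    obtain ⟨k, hk, rfl⟩ := hy
    have h1 : (lp k)⁻¹ = lp (iv k) :=
      inv_eq_of_mul_eq_one_right (lt_inv rel_p k hk).2
    rw [h1, enc_mul, enc_lp _ (lt_inv rel_p k hk).1]
    exact Lc_closed _ ih _ (lt_inv rel_p k hk).1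

theorem exists_of_mem {n : ℕ} (h : n ∈ Lc) : ∃ σ ∈ M, enc σ = n := by
  rw [← Wd_map, List.mem_map] at h
  obtain ⟨w, hw, rfl⟩ := h
  exact ⟨ev lp w, ev_mem_M w (Wd_lt w hw), enc_ev w (Wd_lt w hw)⟩

theorem Lc_length : Lc.length = 192 := by decide +kernel

theorem card_M : 192 ≤ Nat.card M := by
  classical
  let f : {n // n ∈ Lc.toFinset} → M := fun n =>
    ⟨(exists_of_mem (List.mem_toFinset.mp n.2)).choose, (exists_of_mem (List.mem_toFinset.mp n.2)).choose_spec.1⟩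
  have hf : Function.Injective f := by
    intro x y hxy
    have hx := (exists_of_mem (List.mem_toFinset.mp x.2)).choose_spec.2
    have hy := (exists_of_mem (List.mem_toFinset.mp y.2)).choose_spec.2
    have h1 : ((f x : M) : Equiv.Perm (Fin 8)) = f y := by rw [hxy]
    change (exists_of_mem (List.mem_toFinset.mp x.2)).choose = (exists_of_mem (List.mem_toFinset.mp y.2)).choose at h1
    rw [h1, hy] at hx
    exact Subtype.ext hx.symm
  have h2 := Nat.card_le_card_of_injective f hf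
  rw [Nat.card_eq_fintype_card, Fintype.card_coe, List.toFinset_card_of_nodup Lc_nodup, Lc_length] at h2
  exact h2

end Cfsg.Agent.AltType
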