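import Cfsg.Agent.AltType.Closing
import Cfsg.Agent.AltType.Five

/-!
The case where `C_G(T) / T` has order 60: `G ≅ A₉`.
-/

set_option autoImplicit false
set_option maxRecDepth 100000
set_option linter.unusedSectionVars false

namespace Cfsg.Agent.AltType

open Cfsg.Agent.Lib

variable {G : Type*} [Group G] {z a b c d r s g k : G}

section perms

open Equiv

theorem even2 {i j k l : Fin 8} (h1 : i ≠ j) (h2 : k ≠ l) : swap i j * swap k l ∈ alternatingGroup (Fin 8) := by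
  rw [Equiv.Perm.mem_alternatingGroup, map_mul, Equiv.Perm.sign_swap h1, Equiv.Perm.sign_swap h2]
  rfl

def U8 : alternatingGroup (Fin 8) := ⟨swap 4 5 * swap 6 7, even2 (by decide) (by decide)⟩
def V8 : alternatingGroup (Fin 8) := ⟨swap 4 6 * swap 5 7, even2 (by decide) (by decide)⟩
def Q8 : alternatingGroup (Fin 8) := ⟨swap 2 3 * swap 4 5, even2 (by decide) (by decide)⟩
def T8 : alternatingGroup (Fin 8) := ⟨swap 2 4 * swap 3 5, even2 (by decide) (by decide)⟩
/-- `4 → 2`, `6 → 4`, `2 → 6`; `5 → 3`, `7 → 5`, `3 → 7` -/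
def M8 : alternatingGroup (Fin 8) :=
  ⟨swap 2 6 * swap 6 4, even2 (by decide) (by decide)⟩ * ⟨swap 3 7 * swap 7 5, even2 (by decide) (by decide)⟩
def sg : alternatingGroup (Fin 8) := ⟨swap 0 6 * swap 1 7, even2 (by decide) (by decide)⟩

/-- the three-cycles `(j 0 1)`, `j = 6, 7, 2, 3, 4, 5` -/
def ax (i : ℕ) : alternatingGroup (Fin 8) :=
  if hi : i < 6 then sg⁻¹ * ⟨AltCarmichael.cyc 6 i, AltCarmichael.cyc_mem 6 i hi⟩ * sg else 1

theorem ax_lt {i : ℕ} (hi : i < 6) :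
    ax i = sg⁻¹ * ⟨AltCarmichael.cyc 6 i, AltCarmichael.cyc_mem 6 i hi⟩ * sg := dif_pos hi

theorem ax_cube {i : ℕ} (hi : i < 6) : ax i ^ 3 = 1 := by
  rw [ax_lt hi]
  have h1 := (AltCarmichael.rel_cyc 6).cube i hi
  have h2 : (⟨AltCarmichael.cyc 6 i, AltCarmichael.cyc_mem 6 i hi⟩ : alternatingGroup (Fin 8)) ^ 3 = 1 :=
    Subtype.ext h1
  have := conj_pow (i := 3) (a := sg⁻¹) (b := (⟨AltCarmichael.cyc 6 i, AltCarmichael.cyc_mem 6 i hi⟩ :
    alternatingGroup (Fin 8)))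
  rw [inv_inv, h2, mul_one, inv_mul_cancel] at this
  exact this

theorem ax_sq {i j : ℕ} (hi : i < 6) (hj : j < 6) (hij : i ≠ j) : (ax i * ax j) ^ 2 = 1 := by
  rw [ax_lt hi, ax_lt hj]
  have h1 := (AltCarmichael.rel_cyc 6).sq i hi j hj hij
  have h2 : ((⟨AltCarmichael.cyc 6 i, AltCarmichael.cyc_mem 6 i hi⟩ : alternatingGroup (Fin 8)) *
      ⟨AltCarmichael.cyc 6 j, AltCarmichael.cyc_mem 6 j hj⟩) ^ 2 = 1 := Subtype.ext h1
  generalize (⟨AltCarmichael.cyc 6 i, AltCarmichael.cyc_mem 6 i hi⟩ : alternatingGroup (Fin 8)) = p at h2 ⊢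
  generalize (⟨AltCarmichael.cyc 6 j, AltCarmichael.cyc_mem 6 j hj⟩ : alternatingGroup (Fin 8)) = q at h2 ⊢
  have e : sg⁻¹ * p * sg * (sg⁻¹ * q * sg) = sg⁻¹ * (p * q) * sg⁻¹⁻¹ := by group
  rw [e, conj_pow, h2]
  group

end perms

/-- the homomorphism from `A₈` is injective -/
theorem Rel2.phi_inj (hF : F1 z a b c d r s) (φ : alternatingGroup (Fin 8) →* G)
    (hφ : ∀ n (hn : n < 12), φ ⟨lq n, lq_mem hn⟩ = l12 z a b c d r s g k n) : Function.Injective φ := by
  have hs : IsSimpleGroup (alternatingGroup (Fin 8)) := alternatingGroup.isSimpleGroup (by simp)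
  rw [← MonoidHom.ker_eq_bot_iff]
  rcases φ.normal_ker.eq_bot_or_eq_top with e | e
  · exact e
  · exfalso
    apply hF.z_ne_one
    have h1 : (⟨lq 0, lq_mem (by norm_num)⟩ : alternatingGroup (Fin 8)) ∈ φ.ker := by rw [e]; trivial
    rw [MonoidHom.mem_ker, hφ 0 (by norm_num)] at h1
    exact h1

theorem phi_U (φ : alternatingGroup (Fin 8) →* G)
    (hφ : ∀ n (hn : n < 12), φ ⟨lq n, lq_mem hn⟩ = l12 z a b c d r s g k n) : φ U8 = z * (a * b) := by
  have e : U8 = ⟨lq 0, lq_mem (by norm_num)⟩ * (⟨lq 1, lq_mem (by norm_num)⟩ * ⟨lq 2, lq_mem (by norm_num)⟩) := by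
    apply Subtype.ext
    show Equiv.swap 4 5 * Equiv.swap 6 7 = lq 0 * (lq 1 * lq 2)
    decide
  rw [e, map_mul, map_mul, hφ 0 (by norm_num), hφ 1 (by norm_num), hφ 2 (by norm_num)]
  rfl

theorem phi_V (φ : alternatingGroup (Fin 8) →* G)
    (hφ : ∀ n (hn : n < 12), φ ⟨lq n, lq_mem hn⟩ = l12 z a b c d r s g k n) : φ V8 = z * s := by
  have e : V8 = ⟨lq 0, lq_mem (by norm_num)⟩ * ⟨lq 5, lq_mem (by norm_num)⟩ := by
    apply Subtype.ext
    show Equiv.swap 4 6 * Equiv.swap 5 7 = lq 0 * lq 5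
    decide
  rw [e, map_mul, hφ 0 (by norm_num), hφ 5 (by norm_num)]
  rfl

theorem map_comm {X : Type*} [Group X] (φ : X →* G) {p q : X} (h : p * q = q * p) : φ p * φ q = φ q * φ p := by
  rw [← map_mul, h, map_mul]

theorem conj_comm_phi {X : Type*} [Group X] (φ : X →* G) {m y y' : X} (hm : m * y * m⁻¹ = y') {w : G}
    (hw : w * φ y = φ y * w) : (φ m * w * (φ m)⁻¹) * φ y' = φ y' * (φ m * w * (φ m)⁻¹) := by
  rw [← hm, map_mul, map_mul, map_inv]
  calc φ m * w * (φ m)⁻¹ * (φ m * φ y * (φ m)⁻¹) = φ m * (w * φ y) * (φ m)⁻¹ := by group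
    _ = φ m * (φ y * w) * (φ m)⁻¹ := by rw [hw]
    _ = φ m * φ y * (φ m)⁻¹ * (φ m * w * (φ m)⁻¹) := by group

theorem comm_conj_phi {X : Type*} [Group X] (φ : X →* G) {m y y' : X} (hm : m * y * m⁻¹ = y') {w : G}
    (hw : ((φ m)⁻¹ * w * φ m) * φ y = φ y * ((φ m)⁻¹ * w * φ m)) : w * φ y' = φ y' * w := by
  have := conj_comm_phi φ hm hw
  have e : φ m * ((φ m)⁻¹ * w * φ m) * (φ m)⁻¹ = w := by group
  rwa [e] at this

theorem sq_conj {X : Type*} [Group X] (φ : X →* G) {m y y' : X} (hm : m * y * m⁻¹ = y') {w : G}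
    (hw : w * φ m = φ m * w) (h2 : (φ y * w) ^ 2 = 1) : (φ y' * w) ^ 2 = 1 := by
  rw [← hm, map_mul, map_mul, map_inv]
  have e1 : (φ m)⁻¹ * w = w * (φ m)⁻¹ := by
    rw [inv_mul_eq_iff_eq_mul, ← mul_assoc, ← hw, mul_assoc, mul_inv_cancel, mul_one]
  have e : φ m * φ y * (φ m)⁻¹ * w = φ m * (φ y * w) * (φ m)⁻¹ := by
    rw [mul_assoc (φ m * φ y), e1]; group
  rw [e, conj_pow, h2, mul_one, mul_inv_cancel]

section nine

variable [Finite G]

theorem Rel2.exists_w (h : Rel2 z a b c d r s g k) (hF : F1 z a b c d r s) (hu : ¬ Fus z (z * (a * b)))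
    (h60 : haveI := h.T'_normal; Nat.card (KT z a b s ⧸ h.T') = 60)
    (φ : alternatingGroup (Fin 8) →* G)
    (hφ : ∀ n (hn : n < 12), φ ⟨lq n, lq_mem hn⟩ = l12 z a b c d r s g k n) :
    ∃ w ∈ KT z a b s, w ^ 3 = 1 ∧ (φ (ax 2) * w) ^ 2 = 1 ∧ (φ (ax 3) * w) ^ 2 = 1 ∧
      (∀ y ∈ KT z a b s, y ^ 3 = 1 → (φ (ax 2) * y) ^ 2 = 1 → (φ (ax 3) * y) ^ 2 = 1 → y = w) ∧
      ∀ H : Subgroup G, (∀ y, φ y ∈ H) → w ∈ H → KT z a b s ≤ H := by
  haveI := h.T'_normal
  have hU := phi_U φ hφ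
  have hV := phi_V φ hφ
  have hinj := Rel2.phi_inj hF φ hφ
  have memK : ∀ y, y * U8 = U8 * y → y * V8 = V8 * y → φ y ∈ KT z a b s := by
    intro y h1 h2
    rw [mem_KT, ← hU, ← hV]
    exact ⟨map_comm φ h1, map_comm φ h2⟩
  -- the elements of `T`
  have memT : ∀ t : KT z a b s, t ∈ h.T' → ∃ τ ∈ [1, U8, V8, U8 * V8], (t : G) = φ τ := by
    rintro t ⟨v, hv, ht⟩
    simp only [tT, List.mem_cons, List.not_mem_nil, or_false] at hv
    rcases hv with rfl | rfl | rfl | rfl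
    · exact ⟨1, by simp, by rw [ht, map_one]; rfl⟩
    · exact ⟨U8, by simp, by rw [ht, hU]; rfl⟩
    · exact ⟨V8, by simp, by rw [ht, hV]; rfl⟩
    · refine ⟨U8 * V8, by simp, ?_⟩
      rw [ht, map_mul, hU, hV]
      exact (h.eG_mul (v := 7) (w := 9) (by norm_num) (by norm_num)).symm
  obtain ⟨e⟩ := (h.hyp hF hu).equiv_of_card_60 h60
  let π : KT z a b s →* alternatingGroup (Fin 5) := e.toMonoidHom.comp (QuotientGroup.mk' h.T')
  have hs : Function.Surjective π := e.surjective.comp (QuotientGroup.mk'_surjective h.T')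
  have hker : ∀ t, π t = 1 ↔ t ∈ h.T' := by
    intro t
    show e (QuotientGroup.mk' h.T' t) = 1 ↔ _
    rw [EmbeddingLike.map_eq_one_iff, QuotientGroup.mk'_apply, QuotientGroup.eq_one_iff]
  have hK2 := memK (ax 2) (by decide) (by decide)
  have hK3 := memK (ax 3) (by decide) (by decide)
  obtain ⟨w, h1, h2, h3, h4, h5⟩ := five_ext π hs
    (by
      intro t ht
      obtain ⟨v, hv, ht'⟩ := (hker t).1 ht
      apply Subtype.ext
      rw [Subgroup.coe_mul, ht', h.eG_sq (tT_lt hv)]; rfl)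
    (by
      intro t ht x
      obtain ⟨v, hv, ht'⟩ := (hker t).1 ht
      apply Subtype.ext
      rw [Subgroup.coe_mul, Subgroup.coe_mul, ht', h.KT_comm x.2 hv])
    (X := ⟨φ (ax 2), hK2⟩) (Y := ⟨φ (ax 3), hK3⟩)
    (Subtype.ext (by
      rw [Subgroup.coe_pow]
      show φ (ax 2) ^ 3 = 1
      rw [← map_pow, ax_cube (by norm_num), map_one]))
    (Subtype.ext (by
      rw [Subgroup.coe_pow]
      show φ (ax 3) ^ 3 = 1
      rw [← map_pow, ax_cube (by norm_num), map_one]))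
    (Subtype.ext (by
      rw [Subgroup.coe_pow]
      show (φ (ax 2) * φ (ax 3)) ^ 2 = 1
      rw [← map_mul, ← map_pow, ax_sq (by norm_num) (by norm_num) (by norm_num), map_one]))
    (by
      rw [Ne, hker]
      intro ht
      obtain ⟨τ, hτ, e1⟩ := memT _ ht
      have e2 := hinj e1
      revert e2
      simp only [List.mem_cons, List.not_mem_nil, or_false] at hτ
      rcases hτ with rfl | rfl | rfl | rfl <;> decide)
    (by
      rw [Ne, hker]
      intro ht
      obtain ⟨τ, hτ, e1⟩ := memT _ ht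
      change φ (ax 2) * φ (ax 3) = φ τ at e1
      rw [← map_mul] at e1
      have e2 := hinj e1
      revert e2
      simp only [List.mem_cons, List.not_mem_nil, or_false] at hτ
      rcases hτ with rfl | rfl | rfl | rfl <;> decide)
  refine ⟨w, w.2, ?_, ?_, ?_, ?_, ?_⟩
  · exact congrArg Subtype.val h1
  · exact congrArg Subtype.val h2
  · exact congrArg Subtype.val h3
  · intro y hy e1 e2 e3
    exact congrArg Subtype.val (h4 ⟨y, hy⟩ (Subtype.ext e1) (Subtype.ext e2) (Subtype.ext e3))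
  · intro H hH hw
    have := h5 (H.subgroupOf (KT z a b s)) (by rw [Subgroup.mem_subgroupOf]; exact hH _)
      (by rw [Subgroup.mem_subgroupOf]; exact hH _) (by rw [Subgroup.mem_subgroupOf]; exact hw)
      (by
        intro t ht
        obtain ⟨τ, -, e1⟩ := memT t ((hker t).1 ht)
        rw [Subgroup.mem_subgroupOf, e1]
        exact hH _)
    exact Subgroup.subgroupOf_eq_top.mp this

theorem Rel2.exists_nine (h : Rel2 z a b c d r s g k) (hF : F1 z a b c d r s) (hu : ¬ Fus z (z * (a * b)))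
    (h60 : haveI := h.T'_normal; Nat.card (KT z a b s ⧸ h.T') = 60)
    (φ : alternatingGroup (Fin 8) →* G)
    (hφ : ∀ n (hn : n < 12), φ ⟨lq n, lq_mem hn⟩ = l12 z a b c d r s g k n) :
    ∃ ψ : alternatingGroup (Fin 9) →* G, (∀ y, φ y ∈ ψ.range) ∧ KT z a b s ≤ ψ.range := by
  obtain ⟨w, hwK, hw3, hw2, hw2', huniq, hH⟩ := h.exists_w hF hu h60 φ hφ
  have hU := phi_U φ hφ
  have hV := phi_V φ hφ
  have hinj := Rel2.phi_inj hF φ hφ
  have wU : w * φ U8 = φ U8 * w := by rw [hU]; exact (mem_KT.1 hwK).1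
  have wV : w * φ V8 = φ V8 * w := by rw [hV]; exact (mem_KT.1 hwK).2
  have wUV : w * φ (U8 * V8) = φ (U8 * V8) * w := by rw [map_mul]; exact comm_mul wU wV
  -- `w` commutes with `(23)(45)`
  have wQ : w * φ Q8 = φ Q8 * w := by
    have e1 : φ Q8 * w * (φ Q8)⁻¹ = w := by
      apply huniq
      · rw [mem_KT, ← hU, ← hV]
        exact ⟨conj_comm_phi φ (by decide) wU, conj_comm_phi φ (by decide) wUV⟩
      · rw [conj_pow, hw3, mul_one, mul_inv_cancel]
      · have e : φ (ax 2) * (φ Q8 * w * (φ Q8)⁻¹) = φ Q8 * (φ (ax 3) * w) * (φ Q8)⁻¹ := by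
          rw [show ax 2 = Q8 * ax 3 * Q8⁻¹ by decide]
          simp only [map_mul, map_inv]; group
        rw [e, conj_pow, hw2', mul_one, mul_inv_cancel]
      · have e : φ (ax 3) * (φ Q8 * w * (φ Q8)⁻¹) = φ Q8 * (φ (ax 2) * w) * (φ Q8)⁻¹ := by
          rw [show ax 3 = Q8 * ax 2 * Q8⁻¹ by decide]
          simp only [map_mul, map_inv]; group
        rw [e, conj_pow, hw2, mul_one, mul_inv_cancel]
    rw [mul_inv_eq_iff_eq_mul] at e1
    exact e1.symm
  -- `w` commutes with `(24)(35)`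
  have wT : w * φ T8 = φ T8 * w := by
    apply comm_conj_phi φ (m := M8) (y := V8) (by decide)
    have hx : ((φ M8)⁻¹ * w * φ M8) * (z * (a * b)) = (z * (a * b)) * ((φ M8)⁻¹ * w * φ M8) := by
      rw [← hU]
      have := conj_comm_phi φ (m := M8⁻¹) (y := Q8) (y' := U8) (by decide) wQ
      rw [map_inv, inv_inv] at this
      exact this
    have hx3 : ((φ M8)⁻¹ * w * φ M8) ^ 3 = 1 := by
      have := conj_pow (i := 3) (a := (φ M8)⁻¹) (b := w)
      rw [inv_inv, hw3, mul_one, inv_mul_cancel] at this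
      exact this
    generalize (φ M8)⁻¹ * w * φ M8 = x at hx hx3 ⊢
    rw [hV]
    rcases h.normal_T hF hu hx with e | e
    · rwa [mul_inv_eq_iff_eq_mul] at e
    · exfalso
      rw [mul_inv_eq_iff_eq_mul] at e
      have uu : (z * (a * b)) * (z * (a * b)) = 1 := h.eG_sq (v := 7) (by norm_num)
      have hne : z * (a * b) ≠ 1 := by
        intro e
        have := hF.eG_inj (v := 7) (w := 0) (by norm_num) (by norm_num) e
        norm_num at this
      generalize z * s = v at e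
      generalize z * (a * b) = u at e hx uu hne
      apply hne
      have e2 : x * (x * v) = v * (x * x) := by
        rw [e, ← mul_assoc, ← mul_assoc, e]
        calc v * u * x * u * x = v * u * (x * u) * x := by group
          _ = v * (u * u) * x * x := by rw [hx]; group
          _ = v * (x * x) := by rw [uu]; group
      have e3 : x * (x * (x * v)) = v * u * (x * (x * x)) := by
        rw [e2, ← mul_assoc, e]; group
      have x3 : x * (x * x) = 1 := by
        rw [← hx3, pow_succ, pow_two, mul_assoc]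
      have e4 : x * (x * (x * v)) = v := by
        rw [← mul_assoc x x v, ← mul_assoc, x3, one_mul]
      rw [e4, x3, mul_one] at e3
      exact (mul_eq_left.mp e3.symm)
  have wQT : w * φ (Q8 * T8) = φ (Q8 * T8) * w := by rw [map_mul]; exact comm_mul wQ wT
  have wVT : w * φ (V8 * T8) = φ (V8 * T8) * w := by rw [map_mul]; exact comm_mul wV wT
  have wVQT : w * φ (V8 * (Q8 * T8)) = φ (V8 * (Q8 * T8)) * w := by rw [map_mul]; exact comm_mul wV wQT
  have hall : ∀ i < 6, (φ (ax i) * w) ^ 2 = 1 := by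
    intro i hi
    interval_cases i
    · exact sq_conj φ (m := V8 * T8) (y := ax 2) (by decide) wVT hw2
    · exact sq_conj φ (m := V8 * (Q8 * T8)) (y := ax 2) (by decide) wVQT hw2
    · exact hw2
    · exact hw2'
    · exact sq_conj φ (m := T8) (y := ax 2) (by decide) wT hw2
    · exact sq_conj φ (m := Q8 * T8) (y := ax 2) (by decide) wQT hw2
  let xs : ℕ → G := fun i => if i < 6 then φ (ax i) else w
  have xs1 : ∀ i < 6, xs i = φ (ax i) := fun i hi => if_pos hi
  have xs2 : xs 6 = w := rfl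
  have hR : AltCarmichael.Rel 7 xs := by
    constructor
    · intro i hi
      rcases Nat.lt_or_ge i 6 with h1 | h1
      · rw [xs1 i h1, ← map_pow, ax_cube h1, map_one]
      · obtain rfl : i = 6 := by omega
        exact hw3
    · intro i hi j hj hij
      rcases Nat.lt_or_ge i 6 with h1 | h1
      · rcases Nat.lt_or_ge j 6 with h2 | h2
        · rw [xs1 i h1, xs1 j h2, ← map_mul, ← map_pow, ax_sq h1 h2 hij, map_one]
        · obtain rfl : j = 6 := by omega
          rw [xs1 i h1, xs2]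
          exact hall i h1
      · obtain rfl : i = 6 := by omega
        have h2 : j < 6 := by omega
        rw [xs1 j h2, xs2]
        exact AltCarmichael.swap_rel (hall j h2)
  obtain ⟨ψ, hψ⟩ := AltCarmichael.exists_hom (m := 7) (by norm_num) hR
  have r1 : ∀ i < 7, xs i ∈ ψ.range := fun i hi => ⟨_, hψ i hi⟩
  have r2 : w ∈ ψ.range := r1 6 (by norm_num)
  have r3 : ∀ y ∈ AltCarmichael.gen 6 (AltCarmichael.cyc 6), ∃ hy : y ∈ alternatingGroup (Fin 8),
      φ (sg⁻¹ * ⟨y, hy⟩ * sg) ∈ ψ.range := by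
    intro y hy
    rw [AltCarmichael.gen_def] at hy
    induction hy using Subgroup.closure_induction with
    | mem x hx =>
      obtain ⟨i, hi, rfl⟩ := hx
      refine ⟨AltCarmichael.cyc_mem 6 i hi, ?_⟩
      have h1 := r1 i (by omega)
      rw [xs1 i hi, ax_lt hi] at h1
      exact h1
    | one =>
      refine ⟨Subgroup.one_mem _, ?_⟩
      have e : sg⁻¹ * (⟨1, Subgroup.one_mem _⟩ : alternatingGroup (Fin 8)) * sg = 1 := by
        have e0 : (⟨1, Subgroup.one_mem _⟩ : alternatingGroup (Fin 8)) = 1 := rfl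
        rw [e0, mul_one, inv_mul_cancel]
      rw [e, map_one]
      exact Subgroup.one_mem _
    | mul x y _ _ hx hy =>
      obtain ⟨hx1, hx2⟩ := hx
      obtain ⟨hy1, hy2⟩ := hy
      refine ⟨Subgroup.mul_mem _ hx1 hy1, ?_⟩
      have e : sg⁻¹ * (⟨x * y, Subgroup.mul_mem _ hx1 hy1⟩ : alternatingGroup (Fin 8)) * sg =
          (sg⁻¹ * ⟨x, hx1⟩ * sg) * (sg⁻¹ * ⟨y, hy1⟩ * sg) := by
        have e0 : (⟨x * y, Subgroup.mul_mem _ hx1 hy1⟩ : alternatingGroup (Fin 8)) = ⟨x, hx1⟩ * ⟨y, hy1⟩ := rfl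
        rw [e0]; group
      rw [e, map_mul]
      exact Subgroup.mul_mem _ hx2 hy2
    | inv x _ hx =>
      obtain ⟨hx1, hx2⟩ := hx
      refine ⟨Subgroup.inv_mem _ hx1, ?_⟩
      have e : sg⁻¹ * (⟨x⁻¹, Subgroup.inv_mem _ hx1⟩ : alternatingGroup (Fin 8)) * sg =
          (sg⁻¹ * ⟨x, hx1⟩ * sg)⁻¹ := by
        have e0 : (⟨x⁻¹, Subgroup.inv_mem _ hx1⟩ : alternatingGroup (Fin 8)) = (⟨x, hx1⟩)⁻¹ := rfl
        rw [e0]; group
      rw [e, map_inv]
      exact Subgroup.inv_mem _ hx2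
  have r4 : ∀ y, φ y ∈ ψ.range := by
    intro y
    have h1 : ((sg * y * sg⁻¹ : alternatingGroup (Fin 8)) : Equiv.Perm (Fin 8)) ∈
        AltCarmichael.gen 6 (AltCarmichael.cyc 6) := by
      have := (sg * y * sg⁻¹ : alternatingGroup (Fin 8)).2
      rw [AltCarmichael.gen_cyc 6 (by norm_num)]
      exact this
    obtain ⟨h2, h3⟩ := r3 _ h1
    have e : sg⁻¹ * (⟨((sg * y * sg⁻¹ : alternatingGroup (Fin 8)) : Equiv.Perm (Fin 8)), h2⟩ :
        alternatingGroup (Fin 8)) * sg = y := by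
      have e0 : (⟨((sg * y * sg⁻¹ : alternatingGroup (Fin 8)) : Equiv.Perm (Fin 8)), h2⟩ :
        alternatingGroup (Fin 8)) = sg * y * sg⁻¹ := rfl
      rw [e0]; group
    rwa [e] at h3
  exact ⟨ψ, r4, hH _ r4 r2⟩

theorem card_A9 : Nat.card (alternatingGroup (Fin 9)) = 192 * 945 := by
  have h := two_mul_nat_card_alternatingGroup (α := Fin 9)
  rw [Nat.card_perm] at h
  have h2 : (Nat.card (Fin 9)).factorial = 362880 := by rw [Nat.card_fin]; rfl
  omega

/-- the case `|C_G(T)| = 240`: `G ≅ A₉` -/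
theorem Rel2.iso_A9 [IsSimpleGroup G] (h : Rel2 z a b c d r s g k) (hF : F1 z a b c d r s)
    (hu : ¬ Fus z (z * (a * b))) (h60 : haveI := h.T'_normal; Nat.card (KT z a b s ⧸ h.T') = 60) :
    Nonempty (G ≃* alternatingGroup (Fin 9)) := by
  obtain ⟨φ, hφ⟩ := h.exists_hom
  obtain ⟨ψ, h1, h2⟩ := h.exists_nine hF hu h60 φ hφ
  obtain ⟨f1, f2, f3, f4, f5, f6⟩ := h.range_facts hF ψ (fun n hn => by rw [← hφ n hn]; exact h1 _) 945 card_A9
    (by decide)
  have htop := h.closing hF hu ψ.range f1 f2 f3 f6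
    (fun x hx => h.centU_le hF hu ψ.range f4 f5 h2 hx)
  have hs : IsSimpleGroup (alternatingGroup (Fin 9)) := alternatingGroup.isSimpleGroup (by simp)
  have hinj : Function.Injective ψ := by
    rw [← MonoidHom.ker_eq_bot_iff]
    rcases ψ.normal_ker.eq_bot_or_eq_top with e | e
    · exact e
    · exfalso
      apply hF.z_ne_one
      have hz : z ∈ ψ.range := f1 (hF.mem_cent.2 rfl)
      obtain ⟨y, rfl⟩ := hz
      have : y ∈ ψ.ker := by rw [e]; trivial
      exact this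
  exact ⟨(MulEquiv.ofBijective ψ ⟨hinj, MonoidHom.range_eq_top.mp htop⟩).symm⟩

end nine

end Cfsg.Agent.AltType
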