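import Cfsg.Agent.AltType.Conv

/-!
Recognition of `A₈` and `A₉` from the interface `CaseF1` of S1759.
-/

set_option autoImplicit false
set_option linter.unusedSimpArgs false

namespace Cfsg.Agent.AltType

open Cfsg.Agent.LargeExtra.W2

variable {G : Type*} [Group G]

theorem rel_of_rules {z i j k l r s : G} (zz : z * z = 1) (ii : i * i = z) (jj : j * j = z) (kk : k * k = z)
    (ll : l * l = z) (iz : i * z = z * i) (jz : j * z = z * j) (kz : k * z = z * k) (lz : l * z = z * l)
    (ji : j * i = z * (i * j)) (lk : l * k = z * (k * l)) (ki : k * i = i * k) (li : l * i = i * l)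
    (kj : k * j = j * k) (lj : l * j = j * l) (zr : z * r = r * z) (zs : z * s = s * z)
    (ir : i * r = r * j) (jr : j * r = r * (i * j)) (kr : k * r = r * (k * l)) (lr : l * r = r * k)
    (is : i * s = s * k) (js : j * s = s * l) (ks : k * s = s * i) (ls : l * s = s * j)
    (r3 : r * (r * r) = 1) (ss : s * s = 1) (rsr : r * (s * r) = s) :
    Rel z (z * (i * k)) (z * (i * (j * (k * l)))) (z * (j * (k * l))) (z * (i * l)) r s := by
  have T : ∀ {p q : G}, p = q → ∀ x, p * x = q * x := fun e x => by rw [e]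
  have zz' := T zz
  have ii' := T ii
  have jj' := T jj
  have kk' := T kk
  have ll' := T ll
  have iz' := T iz
  have jz' := T jz
  have kz' := T kz
  have lz' := T lz
  have ji' := T ji
  have lk' := T lk
  have ki' := T ki
  have li' := T li
  have kj' := T kj
  have lj' := T lj
  have zr' := T zr
  have zs' := T zs
  have ir' := T ir
  have jr' := T jr
  have kr' := T kr
  have lr' := T lr
  have is' := T is
  have js' := T js
  have ks' := T ks
  have ls' := T ls
  simp only [mul_assoc, one_mul] at zz' ii' jj' kk' ll' iz' jz' kz' lz' ji' lk' ki' li' kj' lj' zr' zs' ir' jr' kr' lr' is' js' ks' ls'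
  constructor
  all_goals
    simp only [mul_assoc, zz, ii, jj, kk, ll, iz, jz, kz, lz, ji, lk, ki, li, kj, lj, zr, zs, ir, jr, kr, lr, is, js,
      ks, ls, r3, ss, rsr, zz', ii', jj', kk', ll', iz', jz', kz', lz', ji', lk', ki', li', kj', lj', zr', zs', ir',
      jr', kr', lr', is', js', ks', ls', mul_one, one_mul]

theorem f1_of_caseF1 {Q : Subgroup G} {z i j k l w s : G} (h : CaseF1 Q z i j k l w s) (ss : s * s = 1) :
    F1 z (z * (i * k)) (z * (i * (j * (k * l)))) (z * (j * (k * l))) (z * (i * l)) w⁻¹ s := by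
  have mi := PlusHom.mem_i h.toPlus
  have mj := PlusHom.mem_j h.toPlus
  have mk := PlusHom.mem_k h.toPlus
  have ml := PlusHom.mem_l h.toPlus
  have cz : ∀ x ∈ Q, x * z = z * x := fun x hx => h.large.comm_z x hx
  have wz : w * z = z * w := Cfsg.Agent.AltTypeConv.v_z h
  have sz : s * z = z * s := Cfsg.Agent.AltTypeConv.y_z h
  -- rules for `w⁻¹`
  have rw' : ∀ {x y : G}, w * x * w⁻¹ = y → x * w⁻¹ = w⁻¹ * y := by
    intro x y e
    rw [← e]; group
  have rs' : ∀ {x y : G}, s * x * s⁻¹ = y → y * s = s * x := by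
    intro x y e
    rw [← e]; group
  have s' : s⁻¹ = s := inv_eq_of_mul_eq_one_left ss
  have hw3 : w * (w * w) = 1 := by
    have := h.w3
    rwa [pow_succ, pow_two, mul_assoc] at this
  have hrel := rel_of_rules (z := z) (i := i) (j := j) (k := k) (l := l) (r := w⁻¹) (s := s) h.large.z_sq h.ii h.jj
    h.kk h.ll (cz i mi) (cz j mj) (cz k mk) (cz l ml)
    (by rw [h.ji, cz _ (Q.mul_mem mi mj)]) (by rw [h.lk, cz _ (Q.mul_mem mk ml)]) h.ki h.li h.kj h.lj
    (by rw [eq_inv_mul_iff_mul_eq, ← mul_assoc, wz, mul_inv_cancel_right]) sz.symm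
    (rw' h.w_act.i) (rw' h.w_act.j) (rw' h.w_act.k) (rw' h.w_act.l)
    (rs' h.s_act.k) (rs' h.s_act.l) (rs' h.s_act.i) (rs' h.s_act.j)
    (by
      have : w⁻¹ * (w⁻¹ * w⁻¹) = (w * (w * w))⁻¹ := by group
      rw [this, hw3, inv_one])
    ss
    (by
      have e : s * w⁻¹ = w * s := by
        have := h.ws
        have e2 : s * w = w⁻¹ * s := by rw [← this]; group
        calc s * w⁻¹ = s * w⁻¹ * s⁻¹ * s := by group
          _ = (s * w * s⁻¹)⁻¹ * s := by group
          _ = w * s := by rw [this, inv_inv]
      rw [e, inv_mul_cancel_left])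
  refine ⟨hrel, ?_, h.card_cent⟩
  rw [h.cent]
  apply le_antisymm
  · rw [Subgroup.closure_le]
    set K := Subgroup.closure ({z, z * (i * k), z * (i * (j * (k * l))), z * (j * (k * l)), z * (i * l), w⁻¹, s} :
      Set G) with hK
    have kz : z ∈ K := Subgroup.subset_closure (by simp)
    have kb : z * (i * (j * (k * l))) ∈ K := Subgroup.subset_closure (by simp)
    have kc : z * (j * (k * l)) ∈ K := Subgroup.subset_closure (by simp)
    have kr : w⁻¹ ∈ K := Subgroup.subset_closure (by simp)
    have ks : s ∈ K := Subgroup.subset_closure (by simp)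
    have kw : w ∈ K := by
      have := K.inv_mem kr
      rwa [inv_inv] at this
    have ki : i ∈ K := by
      have h1 := K.mul_mem kb (K.inv_mem kc)
      have h2 : z * (i * (j * (k * l))) * (z * (j * (k * l)))⁻¹ = i := by
        have h3 : z * (i * (j * (k * l))) = i * (z * (j * (k * l))) := by
          rw [← mul_assoc, ← cz i mi, mul_assoc]
        rw [h3, mul_inv_cancel_right]
      rwa [h2] at h1
    have kj : j ∈ K := by
      have := K.mul_mem (K.mul_mem kw ki) (K.inv_mem kw)
      rwa [h.w_act.i] at this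
    have kk : k ∈ K := by
      have := K.mul_mem (K.mul_mem ks ki) (K.inv_mem ks)
      rwa [h.s_act.i] at this
    have kl : l ∈ K := by
      have := K.mul_mem (K.mul_mem ks kj) (K.inv_mem ks)
      rwa [h.s_act.j] at this
    rintro x (rfl | rfl | rfl | rfl | rfl | rfl)
    · exact ki
    · exact kj
    · exact kk
    · exact kl
    · exact kw
    · exact ks
  · rw [Subgroup.closure_le]
    set K := Subgroup.closure ({i, j, k, l, w, s} : Set G) with hK
    have ki : i ∈ K := Subgroup.subset_closure (by simp)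
    have kj : j ∈ K := Subgroup.subset_closure (by simp)
    have kk : k ∈ K := Subgroup.subset_closure (by simp)
    have kl : l ∈ K := Subgroup.subset_closure (by simp)
    have kw : w ∈ K := Subgroup.subset_closure (by simp)
    have ks : s ∈ K := Subgroup.subset_closure (by simp)
    have kz : z ∈ K := by rw [← h.ii]; exact K.mul_mem ki ki
    rintro x (rfl | rfl | rfl | rfl | rfl | rfl | rfl)
    · exact kz
    · exact K.mul_mem kz (K.mul_mem ki kk)
    · exact K.mul_mem kz (K.mul_mem ki (K.mul_mem kj (K.mul_mem kk kl)))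
    · exact K.mul_mem kz (K.mul_mem kj (K.mul_mem kk kl))
    · exact K.mul_mem kz (K.mul_mem ki kl)
    · exact K.inv_mem kw
    · exact ks

/-- **Recognition of `A₈` and `A₉`** (case F1 of S1759). -/
theorem recognize [Finite G] [IsSimpleGroup G] {Q : Subgroup G} {z i j k l w s : G} (hc : ¬ IsMulCommutative G)
    (h : CaseF1 Q z i j k l w s) :
    Nonempty (G ≃* alternatingGroup (Fin 8)) ∨ Nonempty (G ≃* alternatingGroup (Fin 9)) :=
  (f1_of_caseF1 h (Cfsg.Agent.AltTypeConv.y_sq h)).iso hc

end Cfsg.Agent.AltType
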