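import Cfsg.Agent.AltType.Cent

/-!
The symmetries of the configuration.
-/

set_option autoImplicit false
set_option maxRecDepth 100000

namespace Cfsg.Agent.AltType

open Cfsg.Agent.SporadicRecognition.CosetCert Cfsg.Agent.SporadicRecognition.CosetCertHyp
  Cfsg.Agent.SporadicRecognition.CosetChain

variable {G : Type*} [Group G] {z a b c d r s : G}

/-- replace the second factor by the third -/
theorem Rel.third (h : Rel z a b c d r s) : Rel z a (z * (a * b)) c (z * (c * d)) r s where
  zz := by simpa only [ev_cons, ev_nil, lt, mul_one, mul_assoc] using h.word [0,0] [] (by decide) (by decide +kernel)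
  aa := by simpa only [ev_cons, ev_nil, lt, mul_one, mul_assoc] using h.word [1,1] [] (by decide) (by decide +kernel)
  bb := by simpa only [ev_cons, ev_nil, lt, mul_one, mul_assoc] using h.word [0,1,2,0,1,2] [] (by decide) (by decide +kernel)
  cc := by simpa only [ev_cons, ev_nil, lt, mul_one, mul_assoc] using h.word [3,3] [] (by decide) (by decide +kernel)
  dd := by simpa only [ev_cons, ev_nil, lt, mul_one, mul_assoc] using h.word [0,3,4,0,3,4] [] (by decide) (by decide +kernel)
  ss := by simpa only [ev_cons, ev_nil, lt, mul_one, mul_assoc] using h.word [5,5] [] (by decide) (by decide +kernel)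
  r3 := by simpa only [ev_cons, ev_nil, lt, mul_one, mul_assoc] using h.word [6,6,6] [] (by decide) (by decide +kernel)
  az := by simpa only [ev_cons, ev_nil, lt, mul_one, mul_assoc] using h.word [1,0] [0,1] (by decide) (by decide +kernel)
  bz := by simpa only [ev_cons, ev_nil, lt, mul_one, mul_assoc] using h.word [0,1,2,0] [0,0,1,2] (by decide) (by decide +kernel)
  cz := by simpa only [ev_cons, ev_nil, lt, mul_one, mul_assoc] using h.word [3,0] [0,3] (by decide) (by decide +kernel)
  dz := by simpa only [ev_cons, ev_nil, lt, mul_one, mul_assoc] using h.word [0,3,4,0] [0,0,3,4] (by decide) (by decide +kernel)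
  sz := by simpa only [ev_cons, ev_nil, lt, mul_one, mul_assoc] using h.word [5,0] [0,5] (by decide) (by decide +kernel)
  rz := by simpa only [ev_cons, ev_nil, lt, mul_one, mul_assoc] using h.word [6,0] [0,6] (by decide) (by decide +kernel)
  ac := by simpa only [ev_cons, ev_nil, lt, mul_one, mul_assoc] using h.word [1,3] [3,1] (by decide) (by decide +kernel)
  bd := by simpa only [ev_cons, ev_nil, lt, mul_one, mul_assoc] using h.word [0,1,2,0,3,4] [0,3,4,0,1,2] (by decide) (by decide +kernel)
  ab := by simpa only [ev_cons, ev_nil, lt, mul_one, mul_assoc] using h.word [1,0,1,2] [0,1,2,1] (by decide) (by decide +kernel)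
  cd := by simpa only [ev_cons, ev_nil, lt, mul_one, mul_assoc] using h.word [3,0,3,4] [0,3,4,3] (by decide) (by decide +kernel)
  ad := by simpa only [ev_cons, ev_nil, lt, mul_one, mul_assoc] using h.word [1,0,3,4] [0,0,3,4,1] (by decide) (by decide +kernel)
  cb := by simpa only [ev_cons, ev_nil, lt, mul_one, mul_assoc] using h.word [3,0,1,2] [0,0,1,2,3] (by decide) (by decide +kernel)
  ar := by simpa only [ev_cons, ev_nil, lt, mul_one, mul_assoc] using h.word [1,6] [6,3] (by decide) (by decide +kernel)
  cr := by simpa only [ev_cons, ev_nil, lt, mul_one, mul_assoc] using h.word [3,6] [6,1,3] (by decide) (by decide +kernel)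
  br := by simpa only [ev_cons, ev_nil, lt, mul_one, mul_assoc] using h.word [0,1,2,6] [6,0,3,4] (by decide) (by decide +kernel)
  dr := by simpa only [ev_cons, ev_nil, lt, mul_one, mul_assoc] using h.word [0,3,4,6] [6,0,1,2,0,3,4] (by decide) (by decide +kernel)
  as := by simpa only [ev_cons, ev_nil, lt, mul_one, mul_assoc] using h.word [1,5] [5,1] (by decide) (by decide +kernel)
  cs := by simpa only [ev_cons, ev_nil, lt, mul_one, mul_assoc] using h.word [3,5] [5,1,3] (by decide) (by decide +kernel)
  bs := by simpa only [ev_cons, ev_nil, lt, mul_one, mul_assoc] using h.word [0,1,2,5] [5,0,1,2] (by decide) (by decide +kernel)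
  ds := by simpa only [ev_cons, ev_nil, lt, mul_one, mul_assoc] using h.word [0,3,4,5] [5,0,1,2,0,3,4] (by decide) (by decide +kernel)
  rsr := by simpa only [ev_cons, ev_nil, lt, mul_one, mul_assoc] using h.word [6,5,6] [5] (by decide) (by decide +kernel)

theorem F1.swap (h : F1 z a b c d r s) : F1 z b a d c r s where
  toRel := h.toRel.swap
  card := h.card
  cent := by
    rw [h.cent]
    congr 1
    ext x
    simp only [Set.mem_insert_iff, Set.mem_singleton_iff]
    tauto

theorem F1.twist (h : F1 z a b c d r s) : F1 z a b c d r (s * z) where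
  toRel := h.toRel.twist
  card := h.card
  cent := by
    rw [h.cent]
    apply le_antisymm
    · have hz : z ∈ Subgroup.closure ({z, a, b, c, d, r, s * z} : Set G) := Subgroup.subset_closure (by simp)
      have hs : s * z ∈ Subgroup.closure ({z, a, b, c, d, r, s * z} : Set G) := Subgroup.subset_closure (by simp)
      have hs' : s ∈ Subgroup.closure ({z, a, b, c, d, r, s * z} : Set G) := by
        have := Subgroup.mul_mem _ hs hz
        rwa [mul_assoc, h.zz, mul_one] at this
      rw [Subgroup.closure_le]
      rintro x (rfl | rfl | rfl | rfl | rfl | rfl | rfl)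
      iterate 6 exact Subgroup.subset_closure (by simp)
      exact hs'
    · have hz : z ∈ Subgroup.closure ({z, a, b, c, d, r, s} : Set G) := Subgroup.subset_closure (by simp)
      have hs : s ∈ Subgroup.closure ({z, a, b, c, d, r, s} : Set G) := Subgroup.subset_closure (by simp)
      have hs' := Subgroup.mul_mem _ hs hz
      rw [Subgroup.closure_le]
      rintro x (rfl | rfl | rfl | rfl | rfl | rfl | rfl)
      iterate 6 exact Subgroup.subset_closure (by simp)
      exact hs'

theorem F1.third (h : F1 z a b c d r s) : F1 z a (z * (a * b)) c (z * (c * d)) r s where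
  toRel := h.toRel.third
  card := h.card
  cent := by
    rw [h.cent]
    apply le_antisymm
    · set K := Subgroup.closure ({z, a, z * (a * b), c, z * (c * d), r, s} : Set G) with hK
      have hz : z ∈ K := Subgroup.subset_closure (by simp)
      have ha : a ∈ K := Subgroup.subset_closure (by simp)
      have hc : c ∈ K := Subgroup.subset_closure (by simp)
      have hu : z * (a * b) ∈ K := Subgroup.subset_closure (by simp)
      have hv : z * (c * d) ∈ K := Subgroup.subset_closure (by simp)
      have hr : r ∈ K := Subgroup.subset_closure (by simp)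
      have hs : s ∈ K := Subgroup.subset_closure (by simp)
      have hb : b ∈ K := by
        have := Subgroup.mul_mem _ (Subgroup.mul_mem _ ha hz) hu
        rwa [show a * z * (z * (a * b)) = a * (z * z) * a * b by group, h.zz, mul_one, h.aa, one_mul] at this
      have hd : d ∈ K := by
        have := Subgroup.mul_mem _ (Subgroup.mul_mem _ hc hz) hv
        rwa [show c * z * (z * (c * d)) = c * (z * z) * c * d by group, h.zz, mul_one, h.cc, one_mul] at this
      rw [Subgroup.closure_le]
      rintro x (rfl | rfl | rfl | rfl | rfl | rfl | rfl)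
      exacts [hz, ha, hb, hc, hd, hr, hs]
    · set K := Subgroup.closure ({z, a, b, c, d, r, s} : Set G) with hK
      have hz : z ∈ K := Subgroup.subset_closure (by simp)
      have ha : a ∈ K := Subgroup.subset_closure (by simp)
      have hb : b ∈ K := Subgroup.subset_closure (by simp)
      have hc : c ∈ K := Subgroup.subset_closure (by simp)
      have hd : d ∈ K := Subgroup.subset_closure (by simp)
      have hr : r ∈ K := Subgroup.subset_closure (by simp)
      have hs : s ∈ K := Subgroup.subset_closure (by simp)
      have hu := Subgroup.mul_mem _ hz (Subgroup.mul_mem _ ha hb)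
      have hv := Subgroup.mul_mem _ hz (Subgroup.mul_mem _ hc hd)
      rw [Subgroup.closure_le]
      rintro x (rfl | rfl | rfl | rfl | rfl | rfl | rfl)
      exacts [hz, ha, hu, hc, hv, hr, hs]

end Cfsg.Agent.AltType
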