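import Cfsg.Agent.AltType.ModelData

/-!
Transfer from the model: coded elements of the centraliser.
-/

set_option autoImplicit false
set_option maxRecDepth 100000

namespace Cfsg.Agent.AltType

open Cfsg.Agent.SporadicRecognition.CosetCert Cfsg.Agent.SporadicRecognition.CosetCertHyp
  Cfsg.Agent.SporadicRecognition.CosetChain

variable {G : Type*} [Group G] {z a b c d r s : G}

theorem Rel.prod {X : Type*} [Group X] {z' a' b' c' d' r' s' : X} (h' : Rel z' a' b' c' d' r' s')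
    (h : Rel z a b c d r s) :
    Rel (z', z) (a', a) (b', b) (c', c) (d', d) (r', r) (s', s) where
  zz := Prod.ext h'.zz h.zz
  aa := Prod.ext h'.aa h.aa
  bb := Prod.ext h'.bb h.bb
  cc := Prod.ext h'.cc h.cc
  dd := Prod.ext h'.dd h.dd
  ss := Prod.ext h'.ss h.ss
  r3 := Prod.ext h'.r3 h.r3
  az := Prod.ext h'.az h.az
  bz := Prod.ext h'.bz h.bz
  cz := Prod.ext h'.cz h.cz
  dz := Prod.ext h'.dz h.dz
  sz := Prod.ext h'.sz h.sz
  rz := Prod.ext h'.rz h.rz
  ac := Prod.ext h'.ac h.ac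
  bd := Prod.ext h'.bd h.bd
  ab := Prod.ext h'.ab h.ab
  cd := Prod.ext h'.cd h.cd
  ad := Prod.ext h'.ad h.ad
  cb := Prod.ext h'.cb h.cb
  ar := Prod.ext h'.ar h.ar
  cr := Prod.ext h'.cr h.cr
  br := Prod.ext h'.br h.br
  dr := Prod.ext h'.dr h.dr
  as := Prod.ext h'.as h.as
  cs := Prod.ext h'.cs h.cs
  bs := Prod.ext h'.bs h.bs
  ds := Prod.ext h'.ds h.ds
  rsr := Prod.ext h'.rsr h.rsr

theorem lt_prod {X : Type*} [Group X] (z' a' b' c' d' r' s' : X) (z a b c d r s : G) :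
    (fun i => (lt z' a' b' c' d' r' s' i, lt z a b c d r s i)) =
      lt (z', z) (a', a) (b', b) (c', c) (d', d) (r', r) (s', s) := by
  funext i
  unfold lt
  rcases i with _ | _ | _ | _ | _ | _ | _ | _ | i <;> rfl

theorem lp_mem {k : ℕ} (hk : k < 8) : lp k ∈ M := Subgroup.subset_closure ⟨k, hk, rfl⟩

/-- The homomorphism from the model. -/
theorem exists_hom (h : Rel z a b c d r s) :
    ∃ φ : M →* G, ∀ k (hk : k < 8), φ ⟨lp k, lp_mem hk⟩ = lt z a b c d r s k := by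
  have h1 := card_le (rel_p.prod h)
  rw [← lt_prod] at h1
  exact exists_hom_of_card lp (lt z a b c d r s) {n | n < 8} 192 h1.1 h1.2 card_M

theorem hom_ev {φ : M →* G} (hφ : ∀ k (hk : k < 8), φ ⟨lp k, lp_mem hk⟩ = lt z a b c d r s k)
    (w : List ℕ) (hw : ∀ y ∈ w, y < 8) : φ ⟨ev lp w, ev_mem_M w hw⟩ = ev (lt z a b c d r s) w := by
  induction w with
  | nil => exact map_one φ
  | cons x w ih =>
    have h1 : (⟨ev lp (x :: w), ev_mem_M (x :: w) hw⟩ : M) =
        ⟨lp x, lp_mem (hw x (by simp))⟩ * ⟨ev lp w, ev_mem_M w (fun y hy => hw y (by simp [hy]))⟩ := by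
      apply Subtype.ext
      exact ev_cons lp x w
    rw [h1, map_mul, hφ x (hw x (by simp)), ih (fun y hy => hw y (by simp [hy])), ev_cons]

/-- identities of words in the model hold in every group with the relations -/
theorem Rel.word (h : Rel z a b c d r s) (v w : List ℕ) (hvw : ((v ++ w).all fun y => Nat.blt y 8) = true)
    (he : evN v = evN w) : ev (lt z a b c d r s) v = ev (lt z a b c d r s) w := by
  obtain ⟨φ, hφ⟩ := exists_hom h
  have hlt := all_lt hvw
  have hv : ∀ y ∈ v, y < 8 := fun y hy => hlt y (by simp [hy])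
  have hw : ∀ y ∈ w, y < 8 := fun y hy => hlt y (by simp [hy])
  rw [← hom_ev hφ v hv, ← hom_ev hφ w hw]
  congr 1
  apply Subtype.ext
  apply enc_injective
  show enc (ev lp v) = enc (ev lp w)
  rw [enc_ev v hv, enc_ev w hw, he]

/-- Coded elements of the centraliser. -/
structure Tab (z a b c d r s : G) (t : ℕ → G) : Prop where
  mem : ∀ x, x ∈ Subgroup.centralizer {z} ↔ ∃ n ∈ Lc, t n = x
  mul : ∀ n ∈ Lc, ∀ m ∈ Lc, mulN n m ∈ Lc ∧ t n * t m = t (mulN n m)
  inj : ∀ n ∈ Lc, ∀ m ∈ Lc, t n = t m → n = m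
  one : t 16434824 = 1
  let' : ∀ k < 8, t (cl k) = lt z a b c d r s k

theorem F1.exists_tab (h : F1 z a b c d r s) : ∃ t : ℕ → G, Tab z a b c d r s t := by
  classical
  obtain ⟨φ, hφ⟩ := exists_hom h.toRel
  have hrange : φ.range = Subgroup.centralizer {z} := by
    rw [h.cent, ← closure_lt (r := r)]
    apply le_antisymm
    · rintro _ ⟨⟨x, hx⟩, rfl⟩
      have hx' := hx
      unfold M at hx'
      induction hx' using Subgroup.closure_induction with
      | one => exact (map_one φ) ▸ Subgroup.one_mem _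
      | mem x hx1 =>
        obtain ⟨k, hk, rfl⟩ := hx1
        rw [hφ k hk]
        exact Subgroup.subset_closure ⟨k, hk, rfl⟩
      | mul x y hx1 hy1 ihx ihy =>
        have : (⟨x * y, hx⟩ : M) = ⟨x, hx1⟩ * ⟨y, hy1⟩ := rfl
        rw [this, map_mul]
        exact Subgroup.mul_mem _ (ihx hx1) (ihy hy1)
      | inv x hx1 ihx =>
        have : (⟨x⁻¹, hx⟩ : M) = ⟨x, hx1⟩⁻¹ := rfl
        rw [this, map_inv]
        exact Subgroup.inv_mem _ (ihx hx1)
    · rw [Subgroup.closure_le]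
      rintro _ ⟨k, hk, rfl⟩
      exact ⟨_, hφ k hk⟩
  have hMc : Nat.card M = 192 := by
    have h1 := card_le rel_p
    exact le_antisymm h1.2 card_M
  have hinj : Function.Injective φ := by
    have h1 : Function.Surjective φ.rangeRestrict := φ.rangeRestrict_surjective
    have hfin : Finite M := (card_le rel_p).1
    have h2 : Nat.card φ.range = Nat.card M := by rw [hrange, h.card, hMc]
    have h3 := (Nat.bijective_iff_surjective_and_card φ.rangeRestrict).2 ⟨h1, h2.symm⟩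
    intro x y hxy
    exact h3.1 (Subtype.ext hxy)
  let t : ℕ → G := fun n => if hn : n ∈ Lc then
    φ ⟨(exists_of_mem hn).choose, (exists_of_mem hn).choose_spec.1⟩ else 1
  have ht : ∀ (σ : Equiv.Perm (Fin 8)) (hσ : σ ∈ M), t (enc σ) = φ ⟨σ, hσ⟩ := by
    intro σ hσ
    have hn := enc_mem hσ
    show (if hn : enc σ ∈ Lc then
      φ ⟨(exists_of_mem hn).choose, (exists_of_mem hn).choose_spec.1⟩ else 1) = _
    rw [dif_pos hn]
    congr 1
    apply Subtype.ext
    exact enc_injective (exists_of_mem hn).choose_spec.2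
  have hex : ∀ n ∈ Lc, ∃ (σ : Equiv.Perm (Fin 8)) (hσ : σ ∈ M), enc σ = n ∧ t n = φ ⟨σ, hσ⟩ := by
    intro n hn
    obtain ⟨σ, hσ, rfl⟩ := exists_of_mem hn
    exact ⟨σ, hσ, rfl, ht σ hσ⟩
  refine ⟨t, ?_, ?_, ?_, ?_, ?_⟩
  · intro x
    rw [← hrange]
    constructor
    · rintro ⟨⟨σ, hσ⟩, rfl⟩
      exact ⟨enc σ, enc_mem hσ, ht σ hσ⟩
    · rintro ⟨n, hn, rfl⟩
      obtain ⟨σ, hσ, -, h1⟩ := hex n hn
      exact ⟨⟨σ, hσ⟩, h1.symm⟩
  · intro n hn m hm
    obtain ⟨σ, hσ, rfl, h1⟩ := hex n hn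
    obtain ⟨τ, hτ, rfl, h2⟩ := hex m hm
    rw [← enc_mul]
    refine ⟨enc_mem (M.mul_mem hσ hτ), ?_⟩
    rw [h1, h2, ht _ (M.mul_mem hσ hτ), ← map_mul]
    rfl
  · intro n hn m hm hnm
    obtain ⟨σ, hσ, rfl, h1⟩ := hex n hn
    obtain ⟨τ, hτ, rfl, h2⟩ := hex m hm
    rw [h1, h2] at hnm
    have := hinj hnm
    rw [Subtype.mk.injEq] at this
    rw [this]
  · rw [← enc_one, ht 1 M.one_mem]
    exact map_one φ
  · intro k hk
    rw [← enc_lp k hk, ht _ (lp_mem hk), hφ k hk]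

end Cfsg.Agent.AltType
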